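import Cfsg.Agent.Lib.Invol.ConstrainedCoreClosure

/-!
# The closure of the cores over a Sylow 2-subgroup with connected graph of four-subgroups

When the 2-local subgroups are 2-constrained, groups of odd order are solvable, and a Sylow
2-subgroup `S` of 2-rank at least 3 has connected commuting graph of four-subgroups, the cores over
all subgroups of `S` of 2-rank at least 2 generate one subgroup of odd order.
-/

set_option autoImplicit false
set_option linter.style.haveILetI false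

namespace Cfsg.Agent.CoreConsumers

open Cfsg Subgroup ConstrainedCores

universe u

variable {G : Type u} [Group G] [Finite G]

theorem exists_central_involution {T : Subgroup G} (hT : IsPGroup 2 ↥T) (hT1 : T ≠ ⊥) :
    ∃ t ∈ T, orderOf t = 2 ∧ ∀ x ∈ T, Commute t x := by
  haveI : Fact (Nat.Prime 2) := ⟨Nat.prime_two⟩
  haveI : Nontrivial ↥T := T.nontrivial_iff_ne_bot.2 hT1
  have hne : Nat.card ↥(center ↥T) ≠ 1 := fun e =>
    (not_subsingleton_iff_nontrivial.2 (hT.center_nontrivial)) (Nat.card_eq_one_iff_unique.1 e).1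
  obtain ⟨k, hk⟩ := IsPGroup.iff_card.1 (hT.to_subgroup (center ↥T))
  have hdvd : 2 ∣ Nat.card ↥(center ↥T) := by
    rw [hk]; exact dvd_pow_self 2 fun e => hne (by rw [hk, e, pow_zero])
  obtain ⟨z, hz⟩ := exists_prime_orderOf_dvd_card' 2 hdvd
  refine ⟨((z : ↥T) : G), (z : ↥T).2, by rw [orderOf_coe, orderOf_coe, hz], fun x hx => ?_⟩
  exact (congrArg Subtype.val (mem_center_iff.1 z.2 ⟨x, hx⟩)).symm

theorem elemAb_of_klein {K : Subgroup G} (hK : IsKleinFour K) :
    Cfsg.IsElementaryAbelian 2 K :=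
  ⟨⟨⟨fun x y => mul_comm_of_exponent_two hK.exponent_two x y⟩⟩, fun x hx => by
    have := congrArg Subtype.val (hK.exponent_two ▸ Monoid.pow_exponent_eq_one (⟨x, hx⟩ : K))
    simpa using this⟩

theorem elemAb_map {H : Type u} [Group H] (f : H →* G) {E : Subgroup H}
    (hE : Cfsg.IsElementaryAbelian 2 E) : Cfsg.IsElementaryAbelian 2 (E.map f) := by
  refine ⟨⟨⟨?_⟩⟩, ?_⟩
  · rintro ⟨_, a, ha, rfl⟩ ⟨_, b, hb, rfl⟩
    exact Subtype.ext ((show Commute a b from Grp.elemAb_comm hE a ha b hb).map f).eq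
  · rintro _ ⟨a, ha, rfl⟩
    rw [← map_pow, hE.2 a ha, map_one]

theorem exists_klein_of_commute {u v : G} (hu : orderOf u = 2) (hv : orderOf v = 2)
    (hne : u ≠ v) (huv : Commute u v) :
    ∃ K : Subgroup G, IsKleinFour K ∧ u ∈ K ∧ v ∈ K ∧ K ≤ zpowers u ⊔ zpowers v := by
  haveI : Fact (Nat.Prime 2) := ⟨Nat.prime_two⟩
  obtain ⟨hu2, hu1⟩ := orderOf_eq_prime_iff.1 hu
  obtain ⟨hv2, hv1⟩ := orderOf_eq_prime_iff.1 hv
  have hcomm : ∀ x ∈ zpowers u, ∀ y ∈ zpowers v, Commute x y := fun x hx y hy => by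
    obtain ⟨i, rfl⟩ := mem_zpowers_iff.1 hx
    obtain ⟨j, rfl⟩ := mem_zpowers_iff.1 hy
    exact huv.zpow_zpow i j
  have hF := elemAb_sup (elemAb_zpowers hu2) (elemAb_zpowers hv2) hcomm
  have hvz : v ∉ zpowers u := fun hm => by
    have := Subgroup.eq_of_le_of_card_ge (zpowers_le.2 hm)
      (by rw [Nat.card_zpowers, Nat.card_zpowers, hu, hv])
    obtain ⟨i, hi⟩ := mem_zpowers_iff.1 (this.ge (mem_zpowers u))
    rcases Int.even_or_odd i with ⟨j, rfl⟩ | ⟨j, rfl⟩
    · rw [← two_mul, _root_.zpow_mul, zpow_two, ← pow_two, hv2, one_zpow] at hi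
      exact hu1 hi.symm
    · rw [zpow_add_one, _root_.zpow_mul, zpow_two, ← pow_two, hv2, one_zpow, one_mul] at hi
      exact hne hi.symm
  refine ⟨_, ⟨?_, ?_⟩, mem_sup_left (mem_zpowers u), mem_sup_right (mem_zpowers v), le_rfl⟩
  · have h4 := four_le_card_sup hu2 hv2 huv hu1 hvz
    have hle : zpowers u ≤ normalizer (zpowers v : Set G) := by
      intro x hx
      refine Subgroup.centralizer_le_normalizer _ ?_
      exact mem_centralizer_iff.2 fun y hy => (hcomm x hx y hy).symm.eq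
    have h5 := Nat.le_of_dvd (by norm_num [Nat.card_zpowers, hu, hv]) (Grp.card_sup_dvd_mul hle)
    rw [Nat.card_zpowers, Nat.card_zpowers, hu, hv] at h5
    omega
  · refine Nat.dvd_antisymm (Monoid.exponent_dvd_of_forall_pow_eq_one fun x =>
      Subtype.ext (hF.2 _ x.2)) ?_
    rw [← hu, ← orderOf_mk u (mem_sup_left (mem_zpowers u) : u ∈ zpowers u ⊔ zpowers v)]
    exact Monoid.order_dvd_exponent _

/-- Conjugation maps the core at `a` into the core at the conjugate. -/
theorem map_conj_core_le (a g : G) :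
    (Cfsg.centralizerPPrimeCore 2 a).map (MulAut.conj g).toMonoidHom ≤
      Cfsg.centralizerPPrimeCore 2 (g * a * g⁻¹) := by
  haveI : Fact (Nat.Prime 2) := ⟨Nat.prime_two⟩
  refine Grp.le_centralizerPPrimeCore ?_ ?_ ?_
  · rintro _ ⟨y, hy, rfl⟩
    have := (show Commute y a from Grp.centralizerPPrimeCore_commute hy).map
      (MulAut.conj g).toMonoidHom
    simpa using this.eq
  · rintro c hc _ ⟨y, hy, rfl⟩
    have hc' : Commute (g⁻¹ * c * g) a := by
      have := (show Commute c (g * a * g⁻¹) from hc).map (MulAut.conj g⁻¹).toMonoidHom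
      simpa [mul_assoc] using this
    refine ⟨_, Grp.centralizerPPrimeCore_conj hc'.eq hy, ?_⟩
    simp [mul_assoc]
  · rw [Subgroup.card_map_of_injective (MulAut.conj g).injective]
    exact Grp.centralizerPPrimeCore_coprime (p := 2) _

theorem normalizer_le_normalizer_coreOver (B : Subgroup G) :
    normalizer (B : Set G) ≤ normalizer (coreOver B : Set G) := by
  intro g hg
  have hmap : (coreOver B).map (MulAut.conj g).toMonoidHom ≤ coreOver B :=
    Subgroup.map_le_iff_le_comap.2 (iSup_le fun b => Subgroup.map_le_iff_le_comap.1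
      ((map_conj_core_le (b : G) g).trans (le_coreOver ((mem_normalizer_iff.1 hg _).1 b.2.1)
        (fun e => b.2.2 (conj_eq_one_iff.1 e)))))
  have heqm := Subgroup.eq_of_le_of_card_ge hmap
    (le_of_eq (Subgroup.card_map_of_injective (MulAut.conj g).injective).symm)
  refine mem_normalizer_iff.2 fun y => ⟨fun hy => heqm.le (mem_map_of_mem _ hy), fun hy => ?_⟩
  obtain ⟨w, hw, hwe⟩ := heqm.ge hy
  exact (MulAut.conj g).injective (by simpa using hwe) ▸ hw

section Four

variable {P : Type u} [Group P] [Finite P]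

/-- In a connected graph every four-subgroup commutes with another one. -/
theorem exists_adj_ne (hc : Cfsg.IsFourConnected P) (h3 : ¬ Cfsg.PRankLE 2 2 P) {V : Subgroup P}
    (hV : IsKleinFour V) :
    ∃ V' : Subgroup P, IsKleinFour V' ∧ V' ≠ V ∧ ∀ a ∈ V, ∀ b ∈ V', a * b = b * a := by
  haveI : Fact (Nat.Prime 2) := ⟨Nat.prime_two⟩
  obtain ⟨E, hE, hE2, hEc⟩ : ∃ E : Subgroup P, IsMulCommutative E ∧ (∀ a ∈ E, a ^ 2 = 1) ∧
      2 ^ 2 < Nat.card E := by
    simpa [Cfsg.PRankLE] using h3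
  obtain ⟨e, he, heV⟩ : ∃ e ∈ E, e ∉ V := SetLike.not_le_iff_exists.1 fun hle => by
    have := card_le_of_le hle
    rw [hV.card_four] at this
    omega
  have he1 : e ≠ 1 := fun h => heV (h ▸ one_mem V)
  obtain ⟨w, hw, hwe⟩ : ∃ w ∈ E, w ∉ zpowers e := SetLike.not_le_iff_exists.1 fun hle => by
    have := card_le_of_le hle
    rw [Nat.card_zpowers, orderOf_eq_prime (hE2 e he) he1] at this
    omega
  obtain ⟨K, hK, heK, -, -⟩ := exists_klein_of_commute (orderOf_eq_prime (hE2 e he) he1)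
    (orderOf_eq_prime (hE2 w hw) (fun h => hwe (h ▸ one_mem _)))
    (fun h => hwe (h ▸ mem_zpowers e))
    (show Commute e w from congrArg Subtype.val (hE.is_comm.comm ⟨e, he⟩ ⟨w, hw⟩))
  have hchain := hc V K hV hK
  have hne : K ≠ V := fun h => heV (h ▸ heK)
  clear heK
  induction hchain using Relation.ReflTransGen.head_induction_on with
  | refl => exact absurd rfl hne
  | @head A B hAB hBK ih =>
    by_cases hBA : B = A
    · subst hBA
      exact ih hV heV hne
    · exact ⟨B, hAB.2.1, hBA, hAB.2.2⟩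

theorem exists_eight_ge (hc : Cfsg.IsFourConnected P) (h3 : ¬ Cfsg.PRankLE 2 2 P) {V : Subgroup P}
    (hV : IsKleinFour V) :
    ∃ F : Subgroup P, V ≤ F ∧ Cfsg.IsElementaryAbelian 2 F ∧ 8 ≤ Nat.card F := by
  haveI : Fact (Nat.Prime 2) := ⟨Nat.prime_two⟩
  obtain ⟨V', hV', hne, hcomm⟩ := exists_adj_ne hc h3 hV
  have hF := elemAb_sup (elemAb_of_klein hV) (elemAb_of_klein hV') hcomm
  refine ⟨_, le_sup_left, hF, ?_⟩
  obtain ⟨k, hk⟩ := IsPGroup.iff_card.1 (Grp.elemAb_isPGroup (p := 2) hF)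
  have hlt : Nat.card V < Nat.card ↥(V ⊔ V') := lt_of_le_of_ne (card_le_of_le le_sup_left) fun he => by
    have h1 := Subgroup.eq_of_le_of_card_ge (le_sup_left : V ≤ V ⊔ V') he.ge
    have h2 : V' ≤ V := h1.ge.trans' le_sup_right
    exact hne (Subgroup.eq_of_le_of_card_ge h2 (by rw [hV.card_four, hV'.card_four]))
  rw [hV.card_four, hk] at hlt
  rw [hk]
  rcases Nat.lt_or_ge k 3 with h | h
  · interval_cases k <;> omega
  · exact le_trans (by norm_num) (Nat.pow_le_pow_right two_pos h)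

/-- Every involution of a connected 2-group of rank at least 3 lies in a four-subgroup. -/
theorem exists_klein_mem (hP : IsPGroup 2 P) (h3 : ¬ Cfsg.PRankLE 2 2 P) {t : P}
    (ht : orderOf t = 2) : ∃ V : Subgroup P, IsKleinFour V ∧ t ∈ V := by
  haveI : Fact (Nat.Prime 2) := ⟨Nat.prime_two⟩
  have htop : (⊤ : Subgroup P) ≠ ⊥ := fun e => by
    have h1 : t ∈ (⊥ : Subgroup P) := e ▸ mem_top t
    rw [mem_bot.1 h1, orderOf_one] at ht
    omega
  obtain ⟨z, -, hz, hzc⟩ := exists_central_involution (hP.to_subgroup ⊤) htop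
  by_cases htz : t = z
  · obtain ⟨E, hE, hE2, hEc⟩ : ∃ E : Subgroup P, IsMulCommutative E ∧ (∀ a ∈ E, a ^ 2 = 1) ∧
        2 ^ 2 < Nat.card E := by
      simpa [Cfsg.PRankLE] using h3
    obtain ⟨w, hw, hwt⟩ : ∃ w ∈ E, w ∉ zpowers t := SetLike.not_le_iff_exists.1 fun hle => by
      have := card_le_of_le hle
      rw [Nat.card_zpowers, ht] at this
      omega
    obtain ⟨K, hK, htK, -, -⟩ := exists_klein_of_commute ht
      (orderOf_eq_prime (hE2 w hw) (fun h => hwt (h ▸ one_mem _)))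
      (fun h => hwt (h ▸ mem_zpowers t)) (htz ▸ hzc w (mem_top w))
    exact ⟨K, hK, htK⟩
  · obtain ⟨K, hK, htK, -, -⟩ := exists_klein_of_commute ht hz htz (hzc t (mem_top t)).symm
    exact ⟨K, hK, htK⟩

end Four

/-- The elementary subgroups of order 8 at the involutions of a connected Sylow 2-subgroup. -/
theorem exists_eight_mem (S : Sylow 2 G) (hc : Cfsg.IsFourConnected (S : Subgroup G))
    (h3 : ¬ Cfsg.PRankLE 2 2 (S : Subgroup G)) {t : G} (htS : t ∈ (S : Subgroup G))
    (ht : orderOf t = 2) :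
    ∃ F : Subgroup G, F ≤ (S : Subgroup G) ∧ Cfsg.IsElementaryAbelian 2 F ∧ 8 ≤ Nat.card F ∧
      t ∈ F := by
  obtain ⟨V, hV, htV⟩ := exists_klein_mem S.isPGroup' h3 (t := ⟨t, htS⟩)
    (by rw [Subgroup.orderOf_mk, ht])
  obtain ⟨F, hVF, hF, h8⟩ := exists_eight_ge hc h3 hV
  refine ⟨F.map (S : Subgroup G).subtype, map_subtype_le _, ?_, ?_, ⟨⟨t, htS⟩, hVF htV, rfl⟩⟩
  · exact elemAb_map _ hF
  · rwa [Subgroup.card_map_of_injective (S : Subgroup G).subtype_injective]

section Closure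

variable (h2c : ∀ T : Subgroup G, IsPGroup 2 T → T ≠ ⊥ →
    Cfsg.IsPConstrained 2 ↥(Subgroup.normalizer (T : Set G)))
  (hFT : ∀ (K : Type u) [Group K] [Finite K], Odd (Nat.card K) → Group.IsSolvable K)
include h2c hFT

/-- The common closure over a connected Sylow 2-subgroup of 2-rank at least 3. -/
theorem exists_closure_connected (S : Sylow 2 G) (hc : Cfsg.IsFourConnected (S : Subgroup G))
    (h3 : ¬ Cfsg.PRankLE 2 2 (S : Subgroup G)) :
    ∃ W : Subgroup G, Odd (Nat.card ↥W) ∧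
      ∀ B : Subgroup G, B ≤ (S : Subgroup G) → ¬ Cfsg.PRankLE 2 1 ↥B →
        W = coreOver B ∧ normalizer (B : Set G) ≤ normalizer (W : Set G) := by
  haveI : Fact (Nat.Prime 2) := ⟨Nat.prime_two⟩
  set ι := (S : Subgroup G).subtype with hι
  obtain ⟨z, hzS, hz, hzc⟩ := exists_central_involution S.isPGroup' fun e => h3 fun A _ _ => by
    haveI : Subsingleton ↥(S : Subgroup G) := by rw [e]; infer_instance
    rw [Nat.card_unique]; norm_num
  obtain ⟨V₀, hV₀, -⟩ := exists_klein_mem S.isPGroup' h3 (t := (⟨z, hzS⟩ : ↥(S : Subgroup G)))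
    (by rw [Subgroup.orderOf_mk, hz])
  obtain ⟨F₀, hVF, hF₀, h8⟩ := exists_eight_ge hc h3 hV₀
  have hklein : ∀ V : Subgroup ↥(S : Subgroup G), IsKleinFour V →
      IsKleinFour ↥(V.map ι) := fun V hV =>
    Fus.FourGraph.isKleinFour_map ι (S : Subgroup G).subtype_injective hV
  have hsame : ∀ V : Subgroup ↥(S : Subgroup G), IsKleinFour V →
      coreOver (V.map ι) = coreOver (V₀.map ι) := by
    intro V hV
    have hchain := hc V₀ V hV₀ hV
    clear hV
    induction hchain with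
    | refl => rfl
    | @tail A B _ hAB ih =>
      rw [← ih]
      refine (coreOver_eq_of_commute h2c hFT (elemAb_of_klein (hklein A hAB.1))
        (hklein A hAB.1).card_four.ge (elemAb_of_klein (hklein B hAB.2.1))
        (hklein B hAB.2.1).card_four.ge ?_).symm
      rintro _ ⟨a, ha, rfl⟩ _ ⟨b, hb, rfl⟩
      exact (show Commute a b from hAB.2.2 a ha b hb).map ι
  set W := coreOver (V₀.map ι) with hW
  have hfour : ∀ V : Subgroup G, IsKleinFour V → V ≤ (S : Subgroup G) → coreOver V = W := by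
    intro V hV hVS
    have h := hsame (V.subgroupOf (S : Subgroup G))
      ⟨by rw [Nat.card_congr (subgroupOfEquivOfLe hVS).toEquiv]; exact hV.card_four,
        by rw [Monoid.exponent_eq_of_mulEquiv (subgroupOfEquivOfLe hVS)]; exact hV.exponent_two⟩
    rwa [hι, Subgroup.map_subgroupOf_eq_of_le hVS] at h
  have hodd : Odd (Nat.card ↥W) := by
    have hF := elemAb_map ι hF₀
    have h8' : 8 ≤ Nat.card (F₀.map ι) := by
      rwa [Subgroup.card_map_of_injective (S : Subgroup G).subtype_injective]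
    rw [hW, coreOver_eq h2c hFT hF h8' (map_mono hVF) (hklein V₀ hV₀).card_four.ge]
    obtain ⟨-, hdvd, -, -⟩ :=
      Transfer.SFT.closure_complete hF (show 2 ^ 3 ≤ Nat.card (F₀.map ι) from h8') (functor_of_elemAb h2c hFT hF)
    exact Nat.odd_iff.2 (Nat.two_dvd_ne_zero.1 hdvd)
  refine ⟨W, hodd, fun B hBS hB => ?_⟩
  have heq : W = coreOver B := by
    refine le_antisymm ?_ (iSup_le fun b => ?_)
    · obtain ⟨K, hK, hKB⟩ := Fus.FourGraph.exists_klein_le hB
      exact (hfour K hK (hKB.trans hBS)).ge.trans (coreOver_mono hKB)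
    obtain ⟨b, hbB, hb1⟩ := b
    have hbS := hBS hbB
    obtain ⟨k, hk⟩ := S.isPGroup' ⟨b, hbS⟩
    have hk' : b ^ 2 ^ k = 1 := congrArg Subtype.val hk
    obtain ⟨j, -, hj⟩ := (Nat.dvd_prime_pow Nat.prime_two).1 (orderOf_dvd_of_pow_eq_one hk')
    obtain ⟨i, rfl⟩ : ∃ i, j = i + 1 := Nat.exists_eq_succ_of_ne_zero fun e => by
      rw [e, pow_zero, orderOf_eq_one_iff] at hj
      exact hb1 hj
    have hu : orderOf (b ^ 2 ^ i) = 2 := by
      rw [orderOf_pow_of_dvd (by positivity) (by rw [hj, pow_succ]; exact dvd_mul_right _ _), hj,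
        pow_succ, Nat.mul_div_cancel_left _ (Nat.two_pow_pos i)]
    have hle : Cfsg.centralizerPPrimeCore 2 b ≤ Cfsg.centralizerPPrimeCore 2 (b ^ 2 ^ i) :=
      fun y hy => inf_centralizer_le h2c hu hk' (Commute.self_pow b _)
        ⟨hy, mem_centralizer_singleton_iff.2
          ((show Commute y b from Grp.centralizerPPrimeCore_commute hy).pow_right _).eq⟩
    obtain ⟨V, hV, huV⟩ := exists_klein_mem S.isPGroup' h3
      (t := (⟨b ^ 2 ^ i, pow_mem hbS _⟩ : ↥(S : Subgroup G)))
      (by rw [Subgroup.orderOf_mk, hu])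
    refine hle.trans ((le_coreOver (B := V.map ι) ⟨_, huV, rfl⟩
      (orderOf_eq_prime_iff.1 hu).2).trans (hsame V hV).le)
  exact ⟨heq, heq ▸ normalizer_le_normalizer_coreOver B⟩

end Closure

end Cfsg.Agent.CoreConsumers
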