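import Cfsg.Agent.Lib.Local.CoreConsumers.Constrained
import Cfsg.Agent.Lib.Local.CoreConsumers.Connected
import Cfsg.Agent.Lib.Invol.StronglyEmbedded
import Cfsg.Agent.Lib.Fus.CharTwo
import Cfsg.Agent.S0502

/-!
# Trivial cores from the theorem on cores of strongly embedded subgroups

If the core of a strongly embedded subgroup lies in the core of the group and groups of odd order
are solvable, then in a group with trivial core, 2-constrained centralizers of involutions and a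
connected Sylow 2-subgroup of 2-rank at least 3, all centralizers of involutions have trivial core.
-/

set_option autoImplicit false
set_option linter.style.haveILetI false

namespace Cfsg.Agent.CoreConsumers

open Cfsg Subgroup ConstrainedCores

universe u

variable {G : Type u} [Group G] [Finite G]

/-- A subgroup controlling the centralizers of its involutions and the normalizer of a Sylow
2-subgroup is strongly embedded. -/
theorem isStronglyEmbedded_of_centralizers {M : Subgroup G} (hM : M ≠ ⊤) (S : Sylow 2 G)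
    (hSM : normalizer ((S : Subgroup G) : Set G) ≤ M) (hev : (S : Subgroup G) ≠ ⊥)
    (hC : ∀ t ∈ (S : Subgroup G), orderOf t = 2 → centralizer ({t} : Set G) ≤ M) :
    Cfsg.IsStronglyEmbedded M := by
  haveI : Fact (Nat.Prime 2) := ⟨Nat.prime_two⟩
  have hS : (S : Subgroup G) ≤ M := le_normalizer.trans hSM
  obtain ⟨z, hzS, hz, hzc⟩ := exists_central_involution S.isPGroup' hev
  have hmove : ∀ t ∈ M, orderOf t = 2 →
      ∃ m ∈ M, m * t * m⁻¹ ∈ (S : Subgroup G) ∧ orderOf (m * t * m⁻¹) = 2 := by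
    intro t ht ht2
    obtain ⟨T, hT⟩ := (IsPGroup.of_card (p := 2) (n := 1)
      (show Nat.card ↥(zpowers (⟨t, ht⟩ : M)) = 2 ^ 1 by
        rw [Nat.card_zpowers, Subgroup.orderOf_mk, ht2, pow_one])).exists_le_sylow
    obtain ⟨m, hm⟩ := MulAction.exists_smul_eq M T (S.subtype hS)
    refine ⟨m, m.2, ?_, ?_⟩
    · have h1 : m * ⟨t, ht⟩ * m⁻¹ ∈ ((S.subtype hS : Sylow 2 M) : Subgroup M) := by
        rw [← hm]
        exact ⟨⟨t, ht⟩, hT (mem_zpowers _), rfl⟩
      exact h1
    · rw [← ht2]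
      exact orderOf_injective (MulAut.conj (m : G)).toMonoidHom (MulAut.conj (m : G)).injective t
  rw [Invol.isStronglyEmbedded_iff hM (Invol.even_card_of_mem hz (hS hzS))]
  intro t ht ht2 g hg
  obtain ⟨m₁, hm₁, ha, ha2⟩ := hmove t ht ht2
  obtain ⟨m₂, hm₂, hb, hb2⟩ := hmove _ hg (by
    rw [← ht2]
    simpa using orderOf_injective (MulAut.conj g⁻¹).toMonoidHom (MulAut.conj g⁻¹).injective t)
  set h := m₁ * g * m₂⁻¹ with hh
  suffices hhM : h ∈ M by
    have h1 := M.mul_mem (M.mul_mem (M.inv_mem hm₁) hhM) hm₂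
    rwa [hh, show m₁⁻¹ * (m₁ * g * m₂⁻¹) * m₂ = g by group] at h1
  have hab : h⁻¹ * (m₁ * t * m₁⁻¹) * h = m₂ * (g⁻¹ * t * g) * m₂⁻¹ := by rw [hh]; group
  have hz' : h⁻¹ * z * h ∈ M := by
    refine hC _ hb hb2 (mem_centralizer_singleton_iff.2 ?_)
    rw [← hab]
    have := (hzc _ ha).map (MulAut.conj h⁻¹).toMonoidHom
    simpa [mul_assoc] using this.eq
  -- the conjugate of `S` lies in `M`
  obtain ⟨m₃, hm₃, hc, hc2⟩ := hmove _ hz' (by
    rw [← hz]
    simpa using orderOf_injective (MulAut.conj h⁻¹).toMonoidHom (MulAut.conj h⁻¹).injective z)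
  have hSg : ((h⁻¹ • S : Sylow 2 G) : Subgroup G) ≤ M := by
    rw [Fus.FourGraph.sylow_smul]
    rintro _ ⟨s, hs, rfl⟩
    have hcs : Commute (m₃ * (h⁻¹ * z * h) * m₃⁻¹) (m₃ * (h⁻¹ * s * h) * m₃⁻¹) := by
      have := (hzc s hs).map (MulAut.conj (m₃ * h⁻¹)).toMonoidHom
      simpa [mul_assoc] using this
    have hmem := hC _ hc hc2 (mem_centralizer_singleton_iff.2 hcs.symm.eq)
    have h1 := M.mul_mem (M.mul_mem (M.inv_mem hm₃) hmem) hm₃
    rw [show m₃⁻¹ * (m₃ * (h⁻¹ * s * h) * m₃⁻¹) * m₃ = h⁻¹ * s * h by group] at h1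
    simpa using h1
  obtain ⟨k, hk⟩ := MulAction.exists_smul_eq M ((h⁻¹ • S).subtype hSg) (S.subtype hS)
  rw [Sylow.smul_subtype hSg] at hk
  replace hk := Sylow.subtype_injective hk
  have hN : (k : G) * h⁻¹ ∈ normalizer ((S : Subgroup G) : Set G) := by
    refine Sylow.smul_eq_iff_mem_normalizer.1 ?_
    rw [mul_smul]
    exact hk
  have h1 := M.mul_mem (M.inv_mem (hSM hN)) k.2
  rwa [mul_inv_rev, inv_inv, inv_mul_cancel_right] at h1

section

variable (hSE : ∀ H : Subgroup G, Cfsg.IsStronglyEmbedded H →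
    (Cfsg.oddCore ↥H).map H.subtype ≤ Cfsg.oddCore G)
  (hFT : ∀ (K : Type u) [Group K] [Finite K], Odd (Nat.card K) → Group.IsSolvable K)
include hSE hFT

/-- The main reduction. -/
theorem core_trivial (hO : Cfsg.oddCore G = ⊥)
    (h2c : ∀ T : Subgroup G, IsPGroup 2 T → T ≠ ⊥ →
      Cfsg.IsPConstrained 2 ↥(Subgroup.normalizer (T : Set G)))
    (S : Sylow 2 G) (hc : Cfsg.IsFourConnected (S : Subgroup G))
    (h3 : ¬ Cfsg.PRankLE 2 2 (S : Subgroup G)) (t : G) (ht : orderOf t = 2) :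
    Cfsg.centralizerPPrimeCore 2 t = ⊥ := by
  haveI : Fact (Nat.Prime 2) := ⟨Nat.prime_two⟩
  obtain ⟨W, hodd, hall⟩ := exists_closure_connected h2c hFT S hc h3
  have height := fun {u : G} (hu : u ∈ (S : Subgroup G)) (hu2 : orderOf u = 2) =>
    exists_eight_mem S hc h3 hu hu2
  have hF2 : ∀ F : Subgroup G, Cfsg.IsElementaryAbelian 2 F → 8 ≤ Nat.card F →
      ¬ Cfsg.PRankLE 2 1 ↥F := by
    intro F hF h8 hle
    have hS : Cfsg.IsElementaryAbelian 2 (⊤ : Subgroup F) :=
      ⟨⟨⟨fun a b => Subtype.ext (Subtype.ext (Grp.elemAb_comm hF _ a.1.2 _ b.1.2))⟩⟩,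
        fun a _ => Subtype.ext (hF.2 _ a.2)⟩
    have := hle _ hS.1 hS.2
    rw [Subgroup.card_top] at this
    omega
  have hcoreW : ∀ u ∈ (S : Subgroup G), orderOf u = 2 → Cfsg.centralizerPPrimeCore 2 u ≤ W := by
    intro u hu hu2
    obtain ⟨F, hFS, hF, h8, huF⟩ := height hu hu2
    rw [(hall F hFS (hF2 F hF h8)).1]
    exact le_coreOver huF (orderOf_eq_prime_iff.1 hu2).2
  suffices hW : W = ⊥ by
    obtain ⟨T, hT⟩ := (IsPGroup.of_card (p := 2) (n := 1)
      (show Nat.card ↥(zpowers t) = 2 ^ 1 by rw [Nat.card_zpowers, ht, pow_one])).exists_le_sylow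
    obtain ⟨g, hg⟩ := MulAction.exists_smul_eq G T S
    have hgt : g * t * g⁻¹ ∈ (S : Subgroup G) := by
      rw [← hg]
      exact ⟨t, hT (mem_zpowers t), rfl⟩
    have h2 : orderOf (g * t * g⁻¹) = 2 := by
      rw [← ht]
      exact orderOf_injective (MulAut.conj g).toMonoidHom (MulAut.conj g).injective t
    refine (Subgroup.map_eq_bot_iff_of_injective _ (MulAut.conj g).injective).1
      (le_bot_iff.1 ((map_conj_core_le t g).trans ?_))
    rw [← hW]
    exact hcoreW _ hgt h2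
  set M := normalizer (W : Set G) with hM
  have hWn : ∀ g ∈ M, ∀ w ∈ W, g * w * g⁻¹ ∈ W := fun g hg w hw =>
    (mem_normalizer_iff.1 hg w).1 hw
  have hcop : (Nat.card ↥W).Coprime 2 := Nat.coprime_two_right.2 hodd
  by_cases htop : M = ⊤
  · haveI : W.Normal := normalizer_eq_top_iff.1 htop
    exact le_bot_iff.1 (hO ▸ Grp.le_pPrimeCore inferInstance hcop)
  have hS1 : ¬ Cfsg.PRankLE 2 1 (S : Subgroup G) := fun h => h3 fun A hA hA2 =>
    (h A hA hA2).trans (by norm_num)
  have hcore : Fus.FourGraph.core S ≤ M := iSup_le fun Q => (hall Q.1 Q.2.1 Q.2.2).2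
  have hNS : normalizer ((S : Subgroup G) : Set G) ≤ M := (hall _ le_rfl hS1).2
  have hC : ∀ u ∈ (S : Subgroup G), orderOf u = 2 → centralizer ({u} : Set G) ≤ M := by
    intro u hu hu2
    obtain ⟨F, hFS, hF, h8, huF⟩ := height hu hu2
    set X := centralizer ({u} : Set G) with hX
    have hFX : F ≤ X := fun x hx =>
      mem_centralizer_singleton_iff.2 (Grp.elemAb_comm hF x hx u huF)
    have hp : IsPGroup 2 ((S : Subgroup G).subgroupOf X) := S.isPGroup'.comap_subtype
    obtain ⟨T₀, hT₀⟩ := hp.exists_le_sylow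
    obtain ⟨S', hS'⟩ := (T₀.isPGroup'.map X.subtype).exists_le_sylow
    obtain ⟨m, hm, he⟩ := Fus.FourGraph.exists_core_conj hS1 _ S' le_rfl (by
      obtain ⟨K, hK, hKF⟩ := Fus.FourGraph.exists_klein_le (hF2 F hF h8)
      exact Fus.FourGraph.not_prankLE_of_klein hK (hKF.trans (le_inf hFS fun x hx =>
        hS' ⟨⟨x, hFX hx⟩, hT₀ (hFS hx), rfl⟩)))
    refine le_of_constrained (constrained_centralizer h2c hu2) T₀ (F.subgroupOf X)
      ⟨⟨⟨fun a b => Subtype.ext (Subtype.ext (Grp.elemAb_comm hF _ a.2 _ b.2))⟩⟩,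
        fun a ha => Subtype.ext (hF.2 _ ha)⟩ (fun x hx => hT₀ (hFS hx))
      (by rwa [Nat.card_congr (subgroupOfEquivOfLe hFX).toEquiv])
      ((hcoreW u hu hu2).trans le_normalizer) ?_
    intro Q hQ hQ1 g hg
    have hQ' : Q.map (MulAut.conj m⁻¹).toMonoidHom ≤ (S : Subgroup G) := by
      rintro _ ⟨q, hq, rfl⟩
      have h1 := (hQ.trans hS') hq
      rw [he, Fus.FourGraph.sylow_smul] at h1
      obtain ⟨s, hs, rfl⟩ := h1
      show MulAut.conj m⁻¹ (MulAut.conj m s) ∈ (S : Subgroup G)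
      rw [show MulAut.conj m⁻¹ (MulAut.conj m s) = s by simp [mul_assoc]]
      exact hs
    have h1 := (hall _ hQ' (Fus.FourGraph.not_prankLE_map hQ1 m⁻¹)).2
      (le_normalizer_map (MulAut.conj m⁻¹).toMonoidHom (mem_map_of_mem _ hg))
    have h2 := M.mul_mem (M.mul_mem (hcore hm) h1) (M.inv_mem (hcore hm))
    simpa [mul_assoc] using h2
  have hne : (S : Subgroup G) ≠ ⊥ := fun e => by
    obtain ⟨K, hK, hKS⟩ := Fus.FourGraph.exists_klein_le hS1
    have h1 := card_le_of_le hKS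
    rw [hK.card_four, e, Subgroup.card_bot] at h1
    omega
  have hse := isStronglyEmbedded_of_centralizers htop S hNS hne hC
  refine le_bot_iff.1 (le_trans ?_ ((hSE M hse).trans hO.le))
  intro w hw
  refine ⟨⟨w, le_normalizer hw⟩, ?_, rfl⟩
  have hn : (W.subgroupOf M).Normal := ⟨fun a ha c => hWn c c.2 a ha⟩
  refine Grp.le_pPrimeCore hn ?_ (show (⟨w, le_normalizer hw⟩ : M) ∈ W.subgroupOf M from hw)
  rw [Nat.card_congr (subgroupOfEquivOfLe le_normalizer).toEquiv]
  exact hcop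

/-- Statement S3109 from the statement of S1221. -/
theorem s3109_of [IsSimpleGroup G] (hG : ¬ IsMulCommutative G)
    (h2c : ∀ T : Subgroup G, IsPGroup 2 T → T ≠ ⊥ →
      Cfsg.IsPConstrained 2 ↥(Subgroup.normalizer (T : Set G)))
    (S : Sylow 2 G) (A : Subgroup ↥(S : Subgroup G)) (hAn : A.Normal)
    (hAab : IsMulCommutative ↥A) (hA3 : ¬ Cfsg.PRankLE 2 2 ↥A) :
    ∀ t : G, orderOf t = 2 → Cfsg.centralizerPPrimeCore 2 t = ⊥ := by
  haveI : Fact (Nat.Prime 2) := ⟨Nat.prime_two⟩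
  have hO : Cfsg.oddCore G = ⊥ := by
    refine (Grp.pPrimeCore_isNormal (p := 2) (G := G)).eq_bot_or_eq_top.resolve_right fun e => hG ?_
    haveI : Group.IsSolvable G := hFT G (Nat.coprime_two_right.1 (by
      have h := Grp.pPrimeCore_coprime (p := 2) (G := G)
      rwa [show Cfsg.pPrimeCore 2 G = ⊤ from e, Subgroup.card_top] at h))
    exact ⟨⟨IsSimpleGroup.comm_iff_isSolvable.2 inferInstance⟩⟩
  have hcomm : ∀ a b : ↥(S : Subgroup G), a ∈ A → b ∈ A → Commute a b := fun a b ha hb =>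
    congrArg Subtype.val (hAab.is_comm.comm ⟨a, ha⟩ ⟨b, hb⟩)
  let E₀ : Subgroup ↥(S : Subgroup G) :=
    { carrier := {a | a ∈ A ∧ a ^ 2 = 1}
      mul_mem' := fun {a b} ha hb =>
        ⟨A.mul_mem ha.1 hb.1, by rw [(hcomm a b ha.1 hb.1).mul_pow, ha.2, hb.2, one_mul]⟩
      one_mem' := ⟨A.one_mem, one_pow 2⟩
      inv_mem' := fun {a} ha => ⟨A.inv_mem ha.1, by rw [inv_pow, ha.2, inv_one]⟩ }
  have hE : Cfsg.IsElementaryAbelian 2 E₀ :=
    ⟨⟨⟨fun a b => Subtype.ext (hcomm a b a.2.1 b.2.1).eq⟩⟩, fun a ha => ha.2⟩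
  haveI : E₀.Normal := ⟨fun a ha g => ⟨hAn.conj_mem a ha.1 g, by
    rw [conj_pow, ha.2, mul_one, mul_inv_cancel]⟩⟩
  have h4 : 4 < Nat.card E₀ := by
    obtain ⟨X, hX, hX2, hXc⟩ : ∃ X : Subgroup A, IsMulCommutative X ∧ (∀ a ∈ X, a ^ 2 = 1) ∧
        2 ^ 2 < Nat.card X := by
      simpa [Cfsg.PRankLE] using hA3
    have h2 := card_le_of_le (show X.map A.subtype ≤ E₀ by
      rintro _ ⟨x, hx, rfl⟩
      exact ⟨x.2, congrArg Subtype.val (hX2 x hx)⟩)
    rw [Subgroup.card_map_of_injective A.subtype_injective] at h2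
    omega
  obtain ⟨k, hk⟩ := IsPGroup.iff_card.1 (S.isPGroup'.to_subgroup E₀)
  have h8 : 8 ≤ Nat.card E₀ := by
    rw [hk] at h4 ⊢
    rcases Nat.lt_or_ge k 3 with h | h
    · interval_cases k <;> omega
    · exact le_trans (by norm_num) (Nat.pow_le_pow_right two_pos h)
  exact core_trivial hSE hFT hO h2c S (S0502.result S.isPGroup' E₀ hE.1 hE.2 h8) fun h => by
    have := h E₀ hE.1 hE.2
    omega

omit hSE hFT in
/-- A group that is not of component type has 2-constrained centralizers of involutions. -/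
theorem constrained_of_not_componentType (hc : ¬ Cfsg.IsComponentType G) {t : G}
    (ht : orderOf t = 2) :
    Invol.CharP' 2 (↥(centralizer ({t} : Set G)) ⧸ Cfsg.pPrimeCore 2 ↥(centralizer ({t} : Set G))) ∧
      Cfsg.IsPConstrained 2 ↥(centralizer ({t} : Set G)) := by
  haveI : Fact (Nat.Prime 2) := ⟨Nat.prime_two⟩
  set X := centralizer ({t} : Set G) with hX
  haveI : (Cfsg.pPrimeCore 2 ↥X).Normal := Grp.pPrimeCore_isNormal
  have hchar : Invol.CharP' 2 (↥X ⧸ Cfsg.pPrimeCore 2 ↥X) :=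
    Fus.charP_of_no_component Grp.pPrimeCore_quotient_eq_bot
      fun K hK => hc ⟨t, ht, K, hK.1, hK.2⟩
  refine ⟨hchar, Recog.LocalConstrained.isPConstrained_of_surjective _
    (QuotientGroup.mk'_surjective (Cfsg.pPrimeCore 2 ↥X)) ?_ hchar⟩
  rw [QuotientGroup.ker_mk']
  exact Grp.pPrimeCore_coprime

omit hSE hFT in
/-- Constrained centralizers of involutions give constrained 2-locals. -/
theorem constrained_locals (hcon : ∀ t : G, orderOf t = 2 →
      Cfsg.IsPConstrained 2 ↥(centralizer ({t} : Set G)))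
    (T : Subgroup G) (hT : IsPGroup 2 T) (hT1 : T ≠ ⊥) :
    Cfsg.IsPConstrained 2 ↥(Subgroup.normalizer (T : Set G)) := by
  haveI : Fact (Nat.Prime 2) := ⟨Nat.prime_two⟩
  obtain ⟨z, hzT, hz, hzc⟩ := exists_central_involution hT hT1
  set X := centralizer ({z} : Set G) with hX
  have hTX : T ≤ X := fun x hx => mem_centralizer_singleton_iff.2 (hzc x hx).symm.eq
  set C := centralizer (T : Set G) with hC
  have hCX : C ≤ X := centralizer_le (Set.singleton_subset_iff.2 hzT)
  have he : centralizer ((T.subgroupOf X : Subgroup X) : Set X) = C.subgroupOf X := by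
    ext x
    rw [mem_subgroupOf, hC, mem_centralizer_iff, mem_centralizer_iff]
    exact ⟨fun h y hy => congrArg Subtype.val (h ⟨y, hTX hy⟩ hy),
      fun h y hy => Subtype.ext (h y hy)⟩
  have hCcon : Cfsg.IsPConstrained 2 ↥C :=
    Recog.LocalConstrained.isPConstrained_of_equiv
      ((subgroupOfEquivOfLe hCX).symm.trans (MulEquiv.subgroupCongr he.symm))
      (Recog.LocalConstrained.isPConstrained_local (hcon z hz) (T := T.subgroupOf X)
        (Y := centralizer ((T.subgroupOf X : Subgroup X) : Set X))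
        hT.comap_subtype le_rfl (centralizer_le_normalizer _) (Or.inr le_rfl))
  set N := normalizer (T : Set G) with hN
  have hCN : C ≤ N := centralizer_le_normalizer _
  haveI hCn : (C.subgroupOf N).Normal := ⟨fun a ha g => by
    rw [mem_subgroupOf, hC, mem_centralizer_iff] at ha ⊢
    intro y hy
    have h1 := ha _ ((mem_normalizer_iff''.1 g.2 y).1 hy)
    simp only [Subgroup.coe_mul, Subgroup.coe_inv]
    calc y * ((g : G) * a * (g : G)⁻¹) = (g : G) * (((g : G)⁻¹ * y * g) * a) * (g : G)⁻¹ := by group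
      _ = _ := by rw [h1]; group⟩
  refine Recog.LocalConstrained.isPConstrained_of_normal (T.subgroupOf N) hT.comap_subtype
    ⟨fun a ha g => (mem_normalizer_iff.1 g.2 _).1 ha⟩ (C.subgroupOf N) ?_ ?_
    (Recog.LocalConstrained.isPConstrained_of_equiv (subgroupOfEquivOfLe hCN) hCcon)
  · intro x hx
    rw [mem_subgroupOf, hC, mem_centralizer_iff]
    exact fun y hy => congrArg Subtype.val (mem_centralizer_iff.1 hx ⟨y, le_normalizer hy⟩ hy)
  · intro x hx
    rw [mem_centralizer_iff]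
    exact fun y hy => Subtype.ext (mem_centralizer_iff.1 hx y hy)

/-- Statement S0504 from the statement of S1221. -/
theorem s0504_of (h3 : ¬ Cfsg.PRankLE 2 2 G) (hO : Cfsg.oddCore G = ⊥)
    (hc : ¬ Cfsg.IsComponentType G) (S : Sylow 2 G)
    (hS : Cfsg.IsFourConnected (S : Subgroup G)) : Cfsg.IsCharacteristicTwoType G := by
  haveI : Fact (Nat.Prime 2) := ⟨Nat.prime_two⟩
  obtain ⟨A, hA, hA2, hAc⟩ : ∃ A : Subgroup G, IsMulCommutative A ∧ (∀ a ∈ A, a ^ 2 = 1) ∧
      2 ^ 2 < Nat.card A := by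
    simpa [Cfsg.PRankLE] using h3
  have hAp : IsPGroup 2 A := Grp.elemAb_isPGroup (p := 2) ⟨hA, hA2⟩
  obtain ⟨T, hT⟩ := hAp.exists_le_sylow
  obtain ⟨g, hg⟩ := MulAction.exists_smul_eq G T S
  have h3S : ¬ Cfsg.PRankLE 2 2 (S : Subgroup G) := by
    intro h
    have hB := elemAb_map (MulAut.conj g).toMonoidHom (E := A) ⟨hA, hA2⟩
    have hBS : A.map (MulAut.conj g).toMonoidHom ≤ (S : Subgroup G) := by
      rw [← hg, Fus.FourGraph.sylow_smul]
      exact map_mono hT
    have hB' : Cfsg.IsElementaryAbelian 2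
        ((A.map (MulAut.conj g).toMonoidHom).subgroupOf (S : Subgroup G)) :=
      ⟨⟨⟨fun a b => Subtype.ext (Subtype.ext (Grp.elemAb_comm hB _ a.2 _ b.2))⟩⟩,
        fun a ha => Subtype.ext (hB.2 _ ha)⟩
    have h1 := h _ hB'.1 hB'.2
    rw [Nat.card_congr (subgroupOfEquivOfLe hBS).toEquiv,
      Subgroup.card_map_of_injective (MulAut.conj g).injective] at h1
    omega
  have h2c := constrained_locals fun t ht => (constrained_of_not_componentType hc ht).2
  refine Fus.isCharacteristicTwoType_of_centralizers ?_ fun t ht => ?_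
  · obtain ⟨k, hk⟩ := IsPGroup.iff_card.1 hAp
    rw [even_iff_two_dvd]
    refine dvd_trans ?_ (card_subgroup_dvd_card A)
    rw [hk]
    exact dvd_pow_self 2 fun e => by rw [hk, e] at hAc; norm_num at hAc
  · haveI : (Cfsg.pPrimeCore 2 ↥(centralizer ({t} : Set G))).Normal := Grp.pPrimeCore_isNormal
    have hbot : Cfsg.pPrimeCore 2 ↥(centralizer ({t} : Set G)) = ⊥ :=
      (Subgroup.map_eq_bot_iff_of_injective _ (centralizer ({t} : Set G)).subtype_injective).1
        (core_trivial hSE hFT hO h2c S hS h3S t ht)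
    exact Invol.charP_of_mulEquiv
      ((QuotientGroup.quotientMulEquivOfEq hbot).trans QuotientGroup.quotientBot)
      (constrained_of_not_componentType hc ht).1

end

end Cfsg.Agent.CoreConsumers
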