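import Cfsg.Agent.S5893
import Cfsg.Agent.Lib.Lie.SympWreath
import Cfsg.Agent.Lib.Lie.Sz.SylowLie
import Cfsg.Agent.Lib.Transfer.PSUThreeIndex.Main
import Cfsg.Agent.Lib.Fus.CTSimpleLinear

/-!
# Sylow 2-normalizers in the rank one groups of characteristic two are maximal

`BorelMax L`: no proper subgroup of `L` strictly contains the normalizer of a Sylow 2-subgroup.
This holds for `SL₂(q)`, `PSU₃(q)` (`q ≥ 4` even) and the Suzuki groups.
-/

set_option autoImplicit false
set_option linter.style.haveILetI false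

namespace Cfsg.Agent.CoreConsumers

open Cfsg Subgroup

universe u v

/-- No proper subgroup strictly contains the normalizer of a Sylow 2-subgroup. -/
def BorelMax (L : Type u) [Group L] : Prop :=
  ∀ (S : Sylow 2 L) (X : Subgroup L), X ≠ ⊤ → normalizer ((S : Subgroup L) : Set L) ≤ X →
    X = normalizer ((S : Subgroup L) : Set L)

/-- The index of a Sylow 2-normalizer exceeds the order of the Sylow subgroup by one. -/
def BorelIndex (L : Type u) [Group L] : Prop :=
  ∀ S : Sylow 2 L, (normalizer ((S : Subgroup L) : Set L)).index = Nat.card ↥(S : Subgroup L) + 1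

theorem BorelIndex.congr {L : Type u} [Group L] [Finite L] {M : Type v} [Group M] [Finite M]
    (h : BorelIndex M) (e : L ≃* M) : BorelIndex L := by
  haveI : Fact (Nat.Prime 2) := ⟨Nat.prime_two⟩
  intro S
  have he : Function.Surjective e.toMonoidHom := e.surjective
  have h1 := h (S.mapSurjective (f := e.toMonoidHom) he)
  rw [Sylow.coe_mapSurjective] at h1
  erw [← Subgroup.map_equiv_normalizer_eq, Subgroup.index_map_equiv,
    Subgroup.card_map_of_injective e.injective] at h1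
  exact h1

/-- It suffices to check one Sylow subgroup. -/
theorem borelIndex_of_one {L : Type u} [Group L] [Finite L] (S₀ : Sylow 2 L)
    (h : (normalizer ((S₀ : Subgroup L) : Set L)).index = Nat.card ↥(S₀ : Subgroup L) + 1) :
    BorelIndex L := by
  haveI : Fact (Nat.Prime 2) := ⟨Nat.prime_two⟩
  intro S
  obtain ⟨g, rfl⟩ := MulAction.exists_smul_eq L S₀ S
  rw [Sylow.coe_subgroup_smul, Subgroup.pointwise_smul_def,
    show (MulDistribMulAction.toMonoidEnd _ _ (MulAut.conj g) : L →* L) = (MulAut.conj g).toMonoidHom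
      from rfl, ← Subgroup.map_equiv_normalizer_eq,
    Subgroup.card_map_of_injective (MulAut.conj g).injective]
  exact (Subgroup.index_map_equiv _ (MulAut.conj g)).trans h

theorem BorelMax.congr {L : Type u} [Group L] [Finite L] {M : Type v} [Group M] [Finite M]
    (h : BorelMax M) (e : L ≃* M) : BorelMax L := by
  haveI : Fact (Nat.Prime 2) := ⟨Nat.prime_two⟩
  intro S X hX hle
  have he : Function.Surjective e.toMonoidHom := e.surjective
  have h1 : normalizer ((S.mapSurjective (f := e.toMonoidHom) he : Subgroup M) : Set M) =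
      (normalizer ((S : Subgroup L) : Set L)).map e.toMonoidHom := by
    rw [Sylow.coe_mapSurjective]
    exact (Subgroup.map_equiv_normalizer_eq _ _).symm
  have h2 := h (S.mapSurjective (f := e.toMonoidHom) he) (X.map e.toMonoidHom) (fun htop =>
    hX (Subgroup.map_injective (f := e.toMonoidHom) e.injective
      (htop.trans (Subgroup.map_top_of_surjective _ e.surjective).symm)))
    (h1.le.trans (Subgroup.map_mono hle))
  exact Subgroup.map_injective (f := e.toMonoidHom) e.injective (h2.trans h1)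

/-- It suffices to bound the proper overgroups of the Sylow subgroups by the order of one
Sylow normalizer. -/
theorem borelMax_of_card {L : Type u} [Group L] [Finite L] (k : ℕ)
    (hk : ∀ (S : Sylow 2 L) (X : Subgroup L), X ≠ ⊤ → (S : Subgroup L) ≤ X → Nat.card X ≤ k)
    (S₀ : Sylow 2 L) (h₀ : k ≤ Nat.card ↥(normalizer ((S₀ : Subgroup L) : Set L))) :
    BorelMax L := by
  haveI : Fact (Nat.Prime 2) := ⟨Nat.prime_two⟩
  intro S X hX hle
  refine (Subgroup.eq_of_le_of_card_ge hle ?_).symm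
  refine (hk S X hX (le_normalizer.trans hle)).trans (h₀.trans (le_of_eq ?_))
  obtain ⟨g, hg⟩ := MulAction.exists_smul_eq L S₀ S
  subst hg
  rw [Sylow.coe_subgroup_smul, Subgroup.pointwise_smul_def,
    show (MulDistribMulAction.toMonoidEnd _ _ (MulAut.conj g) : L →* L) = (MulAut.conj g).toMonoidHom
      from rfl, ← Subgroup.map_equiv_normalizer_eq,
    Subgroup.card_map_of_injective (MulAut.conj g).injective]

/-- The two properties from a common bound. -/
theorem borel_of_card {L : Type u} [Group L] [Finite L] (k : ℕ)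
    (hk : ∀ (S : Sylow 2 L) (X : Subgroup L), X ≠ ⊤ → (S : Subgroup L) ≤ X → Nat.card X ≤ k)
    (S₀ : Sylow 2 L) (h₀ : k ≤ Nat.card ↥(normalizer ((S₀ : Subgroup L) : Set L)))
    (hI : (normalizer ((S₀ : Subgroup L) : Set L)).index = Nat.card ↥(S₀ : Subgroup L) + 1) :
    BorelMax L ∧ BorelIndex L :=
  ⟨borelMax_of_card k hk S₀ h₀, borelIndex_of_one S₀ hI⟩

/-- The Suzuki groups. -/
theorem borelMax_suzuki {L : Type u} [Group L] [Finite L] (h : Lie.IsoSuzuki L) : BorelMax L := by
  obtain ⟨F, i1, i2, m, hm, hF, ⟨e⟩⟩ := h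
  have hS : Suz.SzField F m := ⟨hm, hF⟩
  refine BorelMax.congr ?_ (e.trans (Suz.szEquiv hS).symm)
  intro S X hX hle
  obtain ⟨M, hM, hXM⟩ := (eq_top_or_exists_le_coatom X).resolve_left hX
  refine le_antisymm (hXM.trans (le_of_eq ?_)) hle
  exact (Suz.sylow_maximal hS S).2 M hM (le_normalizer.trans (hle.trans hXM))

section Linear

open Cfsg.Agent.Dickson Matrix

variable {F : Type*} [Field F] [Fintype F]

local notation "PSL₂" => Matrix.ProjectiveSpecialLinearGroup (Fin 2) F

theorem borel_psl (heven : Even (Fintype.card F)) (h4 : 4 ≤ Fintype.card F) :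
    BorelMax PSL₂ ∧ BorelIndex PSL₂ := by
  classical
  haveI : Fact (Nat.Prime 2) := ⟨Nat.prime_two⟩
  obtain ⟨p, hc⟩ := CharP.exists F
  haveI : Fact p.Prime := ⟨CharP.char_is_prime F p⟩
  obtain rfl : p = 2 := p_eq_two p heven
  have hd : del F = 1 := by
    rcases del_cases F with ⟨hd, -⟩ | ⟨-, ho⟩
    · exact hd
    · exact absurd heven (Nat.not_even_iff_odd.mpr ho)
  set q := Fintype.card F with hq
  -- an element of order two
  have h2card : 2 ∣ Nat.card PSL₂ := by
    have h := card_psl (F := F)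
    rw [hd, mul_one] at h
    rw [h]
    exact Dvd.dvd.mul_right (even_iff_two_dvd.1 heven) _
  obtain ⟨a, ha⟩ := exists_prime_orderOf_dvd_card' 2 h2card
  obtain ⟨hap, ha1⟩ := orderOf_eq_prime_iff.1 ha
  have hT := card_tor_uni 2 ha1 hap
  have hN := card_borel 2 ha1 hap
  rw [hd, mul_one] at hN
  obtain ⟨n, hn⟩ := FiniteField.card F 2
  have hTp : IsPGroup 2 ↥(tor a) := IsPGroup.of_card (hT.trans hn.2)
  obtain ⟨S₀, hS₀⟩ := hTp.exists_le_sylow
  -- maximal subgroups containing `tor a`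
  have key : ∀ M : Subgroup PSL₂, IsCoatom M → tor a ≤ M → Nat.card M = q * (q - 1) := by
    intro M hM hle
    have hdvd : q ∣ Nat.card M := by rw [hq, ← hT]; exact Subgroup.card_dvd_of_le hle
    have hdi : ∀ k : ℕ, Nat.Coprime q k → Nonempty (M ≃* DihedralGroup k) → False := by
      rintro k hcop ⟨i⟩
      rw [Nat.card_congr i.toEquiv, DihedralGroup.nat_card] at hdvd
      have := Nat.le_of_dvd two_pos (hcop.dvd_of_dvd_mul_right hdvd)
      omega
    have hodd : q.Coprime (q - 1) ∧ q.Coprime (q + 1) := by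
      refine ⟨?_, ?_⟩
      · rw [Nat.coprime_comm]
        exact (Nat.coprime_self_sub_left (m := 1) (n := q) (by omega)).2 (Nat.coprime_one_left q)
      · exact (Nat.coprime_self_add_right).2 (Nat.coprime_one_right q)
    rcases S5893.result heven h4 M hM with h | h | h | ⟨F₀, i0, j0, r, hr, hne, hqr, ⟨i⟩⟩
    · exact h
    · exact (hdi _ hodd.1 h).elim
    · exact (hdi _ hodd.2 h).elim
    · exfalso
      letI := i0
      letI := j0
      set q₀ := Fintype.card F₀
      have h1 : Nat.card M ∣ q₀ * (q₀ ^ 2 - 1) := by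
        rw [← Lie.SympWreath.natCard_SL2 (F := F₀), Nat.card_congr i.toEquiv]
        exact Subgroup.card_quotient_dvd_card _
      have hq₀ : 1 < q₀ := Fintype.one_lt_card
      have h2 : (q₀ ^ r).Coprime (q₀ ^ 2 - 1) := by
        refine Nat.Coprime.pow_left r ?_
        have : 1 ≤ q₀ ^ 2 := Nat.one_le_pow _ _ (by omega)
        refine Nat.Coprime.coprime_dvd_left (dvd_pow_self q₀ two_ne_zero) ?_
        rw [Nat.coprime_comm]
        exact (Nat.coprime_self_sub_left this).2 (Nat.coprime_one_left _)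
      have h3 := h2.dvd_of_dvd_mul_right ((show q₀ ^ r ∣ Nat.card M from by rw [hq, hqr] at hdvd; exact hdvd).trans h1)
      have h4 := Nat.le_of_dvd (by omega) h3
      have h5 : q₀ ^ 2 ≤ q₀ ^ r := Nat.pow_le_pow_right (by omega) hr.two_le
      nlinarith
  suffices hS : Nat.card ↥(normalizer ((S₀ : Subgroup PSL₂) : Set PSL₂)) = q * (q - 1) ∧
      Nat.card ↥(S₀ : Subgroup PSL₂) = q by
    refine borel_of_card (q * (q - 1)) ?_ S₀ hS.1.ge ?_
    swap
    · have h1 := (normalizer ((S₀ : Subgroup PSL₂) : Set PSL₂)).card_mul_index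
      have h2 := card_psl (F := F)
      rw [hd, mul_one] at h2
      rw [hS.1, h2, ← hq, ← mul_assoc] at h1
      rw [Nat.eq_of_mul_eq_mul_left (Nat.mul_pos (by omega) (by omega)) h1, hS.2]
    intro S X hX hle
    obtain ⟨M, hM, hXM⟩ := (eq_top_or_exists_le_coatom X).resolve_left hX
    obtain ⟨g, rfl⟩ := MulAction.exists_smul_eq PSL₂ S₀ S
    have hc : tor a ≤ M.map (MulAut.conj g⁻¹).toMonoidHom := by
      intro x hx
      refine ⟨g * x * g⁻¹, ?_, by simp [mul_assoc]⟩
      apply hXM; apply hle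
      rw [Sylow.coe_subgroup_smul]
      exact ⟨x, hS₀ hx, rfl⟩
    have h := key _ (((MulAut.conj g⁻¹).mapSubgroup.isCoatom_iff M).2 hM) hc
    rw [show Nat.card ↥((MulAut.conj g⁻¹).mapSubgroup M) = Nat.card M from
      Subgroup.card_map_of_injective (MulAut.conj g⁻¹).injective] at h
    exact h ▸ Subgroup.card_le_of_le hXM
  have hS₀eq : (S₀ : Subgroup PSL₂) = tor a := by
    by_cases htop : (S₀ : Subgroup PSL₂) = ⊤
    · exfalso
      obtain ⟨k, hk⟩ := IsPGroup.iff_card.1 S₀.isPGroup'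
      rw [htop, Subgroup.card_top] at hk
      have h := card_psl (F := F)
      rw [hd, mul_one, hk] at h
      have h6 : q - 1 ∣ 2 ^ k := h ▸ Dvd.dvd.mul_left (dvd_mul_right _ _) _
      obtain ⟨j, -, hj⟩ := (Nat.dvd_prime_pow Nat.prime_two).1 h6
      rcases j with _ | j
      · simp at hj; omega
      · obtain ⟨c, hc⟩ := even_iff_two_dvd.1 heven
        rw [pow_succ] at hj
        omega
    · obtain ⟨M, hM, hSM⟩ := (eq_top_or_exists_le_coatom _).resolve_left htop
      have hMc := key M hM (hS₀.trans hSM)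
      have hd1 : Nat.card (S₀ : Subgroup PSL₂) ∣ q * (q - 1) := hMc ▸ Subgroup.card_dvd_of_le hSM
      obtain ⟨k, hk⟩ := IsPGroup.iff_card.1 S₀.isPGroup'
      have hcop : (Nat.card (S₀ : Subgroup PSL₂)).Coprime (q - 1) := by
        rw [hk]
        refine Nat.Coprime.pow_left _ (Nat.coprime_two_left.2 ?_)
        obtain ⟨c, hc⟩ := heven
        exact ⟨c - 1, by omega⟩
      exact (Subgroup.eq_of_le_of_card_ge hS₀
        (hT ▸ Nat.le_of_dvd (by omega) (hcop.dvd_of_dvd_mul_right hd1))).symm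
  rw [hS₀eq, hN, hT]
  exact ⟨rfl, rfl⟩

theorem borelMax_psl (heven : Even (Fintype.card F)) (h4 : 4 ≤ Fintype.card F) : BorelMax PSL₂ :=
  (borel_psl heven h4).1

theorem borelMax_sl (heven : Even (Fintype.card F)) (h4 : 4 ≤ Fintype.card F) :
    BorelMax (Matrix.SpecialLinearGroup (Fin 2) F) := by
  obtain ⟨p, hc⟩ := CharP.exists F
  haveI : Fact p.Prime := ⟨CharP.char_is_prime F p⟩
  obtain rfl : p = 2 := p_eq_two p heven
  have h2F : (2 : F) = 0 := CharTwo.two_eq_zero
  exact (borelMax_psl heven h4).congr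
    ((QuotientGroup.quotientMulEquivOfEq (Fus.CTSimple.center_eq_bot_of_two h2F)).trans
      QuotientGroup.quotientBot).symm

end Linear

section Unitary

open Matrix Cfsg.Agent.Classical Cfsg.Agent.Classical.PSUAut Cfsg.Agent.Fus.UnitN Cfsg.Agent.Lie.SUGen
  Cfsg.Agent.Lie.SU3Pres Cfsg.Agent.Transfer.U3Min

variable {F : Type*} [Field F] [Fintype F] {q : ℕ}

theorem borel_psu (hF : Fintype.card F = q ^ 2) (heven : Even q) (h4 : 4 ≤ q) :
    BorelMax (PSU 3 F q) ∧ BorelIndex (PSU 3 F q) := by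
  haveI : Fact (Nat.Prime 2) := ⟨Nat.prime_two⟩
  obtain ⟨e, n, f, B⟩ := exists_frame hF
  have hmin := (psu_min_index hF (by omega) (fun h => by subst h; revert heven; decide)).1
  have hidx : ((Bor B).map (suToPSU 3 F q)).index = q ^ 3 + 1 := by
    rw [Subgroup.index_map_eq (Bor B) pi_surjective fun s hs => ?_, index_Bor hF B]
    obtain ⟨l, hl⟩ := (pi_eq_one_iff hF).1 hs
    exact ⟨l, by rw [hl, Matrix.smul_mulVec, Matrix.one_mulVec]⟩
  have hpos : 0 < q ^ 3 := pow_pos (by omega) 3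
  have hUle : Uni hF B ≤ Bor B := fun g hg => ⟨1, by rw [(mem_Uni_iff hF B).1 hg, one_smul]⟩
  have hU : Nat.card (Uni hF B) = q ^ 3 := by
    have h := card_inf_Uni hF B ⊤
    rw [top_inf_eq] at h
    have hb := card_inf_Bor hF B ⊤
    rw [top_inf_eq, card_Bor hF B, top_inf_eq] at hb
    have ht : tSet B ⊤ = ⊤ := eq_top_iff.2 fun l _ =>
      (mem_tSet hF B).2 ⟨Tm hF B (l : F), Subgroup.mem_top _, T_e hF B l.ne_zero⟩
    rw [ht, Subgroup.card_top, Nat.card_units, Nat.card_eq_fintype_card (α := F), hF] at hb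
    exact (Nat.eq_of_mul_eq_mul_right (Nat.sub_pos_of_lt (Nat.one_lt_pow two_ne_zero (by omega))) hb).symm
  have hUn : ∀ g ∈ Bor B, ∀ u ∈ Uni hF B, g * u * g⁻¹ ∈ Uni hF B := by
    intro g hg u hu
    obtain ⟨c, hc⟩ := inv_mem hg
    have h1 := (mem_Uni_iff hF B).1 hu
    refine (mem_Uni_iff hF B).2 ?_
    rw [mulVec_mul, hc, Matrix.mulVec_smul, mulVec_mul, h1, ← Matrix.mulVec_smul, ← hc,
      Matrix.mulVec_mulVec, ← suVal_mul, mul_inv_cancel, suVal_one', Matrix.one_mulVec]
  set U := (Uni hF B).map (suToPSU 3 F q) with hUdef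
  have hUp : IsPGroup 2 ↥U := by
    refine IsPGroup.map ?_ _
    obtain ⟨p, hc⟩ := CharP.exists F
    haveI : Fact p.Prime := ⟨CharP.char_is_prime F p⟩
    obtain rfl : p = 2 := Dickson.p_eq_two p (by rw [hF]; exact heven.pow_of_ne_zero two_ne_zero)
    obtain ⟨k, hk⟩ := FiniteField.card F 2
    obtain ⟨j, -, hj⟩ := (Nat.dvd_prime_pow Nat.prime_two).1
      (show q ∣ 2 ^ (k : ℕ) from hk.2 ▸ hF ▸ dvd_pow_self q two_ne_zero)
    exact IsPGroup.of_card (n := j * 3) (by rw [hU, hj, ← pow_mul])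
  have hUidx : ¬ 2 ∣ U.index := by
    intro h2
    have h3 := h2.trans (Subgroup.index_map_dvd (Uni hF B) pi_surjective)
    rw [← Subgroup.relIndex_mul_index hUle, index_Bor hF B] at h3
    have hr : (Uni hF B).relIndex (Bor B) * q ^ 3 = (q ^ 2 - 1) * q ^ 3 := by
      have := Subgroup.card_mul_index ((Uni hF B).subgroupOf (Bor B))
      rw [Nat.card_congr (Subgroup.subgroupOfEquivOfLe hUle).toEquiv, hU, card_Bor hF B] at this
      rw [Subgroup.relIndex, mul_comm, this, mul_comm]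
    rw [Nat.eq_of_mul_eq_mul_right hpos hr] at h3
    obtain ⟨c, hc⟩ := heven
    have hq3 : Odd (q ^ 3 + 1) := Even.add_one ((Even.pow_of_ne_zero ⟨c, hc⟩) (by norm_num))
    have hq2 : Odd (q ^ 2 - 1) := Nat.Even.sub_odd (Nat.one_le_pow _ _ (by omega))
      ((Even.pow_of_ne_zero ⟨c, hc⟩) (by norm_num)) odd_one
    exact (Nat.not_even_iff_odd.2 (hq2.mul hq3)) (even_iff_two_dvd.2 h3)
  let S₀ : Sylow 2 (PSU 3 F q) := hUp.toSylow hUidx
  have hbd : ∀ (S : Sylow 2 (PSU 3 F q)) (X : Subgroup (PSU 3 F q)), X ≠ ⊤ →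
      (S : Subgroup (PSU 3 F q)) ≤ X → Nat.card X ≤ Nat.card ↥((Bor B).map (suToPSU 3 F q)) := by
    intro S X hX _
    have h := hmin X hX
    have h1 := X.card_mul_index
    rw [← ((Bor B).map (suToPSU 3 F q)).card_mul_index, hidx] at h1
    refine Nat.le_of_mul_le_mul_right ?_ (show 0 < q ^ 3 + 1 by omega)
    rw [← h1]
    exact Nat.mul_le_mul_left _ h
  have hBN : (Bor B).map (suToPSU 3 F q) ≤ normalizer ((S₀ : Subgroup (PSU 3 F q)) : Set (PSU 3 F q)) := by
    refine le_trans ?_ (le_normalizer_map (suToPSU 3 F q))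
    refine Subgroup.map_mono fun g hg => Subgroup.mem_normalizer_iff.2 fun u => ⟨hUn g hg u, fun hu => ?_⟩
    simpa [mul_assoc] using hUn g⁻¹ (inv_mem hg) _ hu
  have hU3 : Nat.card U = q ^ 3 := by
    have hinj : Function.Injective ((suToPSU 3 F q).comp (Uni hF B).subtype) := by
      refine (injective_iff_map_eq_one _).2 fun x hx => ?_
      have hc : (x : SU 3 F q) ∈ Subgroup.center (SU 3 F q) := (QuotientGroup.eq_one_iff _).1 hx
      have h1 : orderOf x ∣ q ^ 3 := hU ▸ orderOf_dvd_natCard x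
      have h2 : orderOf x ∣ Nat.gcd 3 (q + 1) := by
        rw [← natCard_center_SU hF (by norm_num : 1 ≤ 3), ← Subgroup.orderOf_coe,
          ← Subgroup.orderOf_mk (x : SU 3 F q) hc]
        exact orderOf_dvd_natCard _
      have hcop : (q ^ 3).Coprime (Nat.gcd 3 (q + 1)) :=
        ((Nat.coprime_self_add_right.2 (Nat.coprime_one_right q)).pow_left 3).coprime_dvd_right
          (Nat.gcd_dvd_right _ _)
      exact orderOf_eq_one_iff.1 (Nat.eq_one_of_dvd_coprimes hcop h1 h2)
    have hr : ((suToPSU 3 F q).comp (Uni hF B).subtype).range = U := by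
      rw [MonoidHom.range_comp, Subgroup.range_subtype]
    rw [← hr, ← hU]
    exact (Nat.card_congr (MonoidHom.ofInjective hinj).toEquiv).symm
  refine borel_of_card _ hbd S₀ (Subgroup.card_le_of_le hBN) ?_
  show _ = Nat.card U + 1
  rw [hU3, ← hidx, ← Subgroup.eq_of_le_of_card_ge hBN (hbd S₀ _ ?_ le_normalizer)]
  intro htop
  haveI hn : U.Normal := (Subgroup.normalizer_eq_top_iff).1 htop
  obtain ⟨⟨u, hu⟩, hu1⟩ : ∃ x : Uni hF B, x ≠ 1 := by
    haveI : Nontrivial (Uni hF B) := Finite.one_lt_card_iff_nontrivial.1 (by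
      rw [hU]; exact Nat.one_lt_pow (by norm_num) (by omega))
    exact exists_ne 1
  have hker : ∀ s : SU 3 F q, suToPSU 3 F q s = 1 → s ∈ Bor B := fun s hs => by
    obtain ⟨l, hl⟩ := (pi_eq_one_iff hF).1 hs
    exact ⟨l, by rw [hl, Matrix.smul_mulVec, Matrix.one_mulVec]⟩
  obtain ⟨v, hv, hve⟩ := Subgroup.map_mono hUle
    (hn.conj_mem _ ⟨u, hu, rfl⟩ (suToPSU 3 F q (Wm hF B)))
  have hmem : Wm hF B * u * (Wm hF B)⁻¹ ∈ Bor B := by
    have h1 := (Bor B).mul_mem hv (hker (v⁻¹ * (Wm hF B * u * (Wm hF B)⁻¹))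
      (by rw [map_mul, map_inv, hve, map_mul, map_mul, map_inv, inv_mul_cancel]))
    rwa [mul_inv_cancel_left] at h1
  obtain ⟨c, hc⟩ := hmem
  have hue : suVal u *ᵥ e = e := (mem_Uni_iff hF B).1 hu
  have hWe : suVal (Wm hF B) *ᵥ e = f := by simpa [co] using W_act hF B 1 0 0
  have hWi : (Wm hF B)⁻¹ = Wm hF B := inv_eq_of_mul_eq_one_left (W_sq hF B)
  have huf : suVal u *ᵥ f = c • f := by
    rw [hWi, mulVec_mul, mulVec_mul, hWe] at hc
    have h2 := congrArg (fun x => suVal (Wm hF B) *ᵥ x) hc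
    rwa [Matrix.mulVec_mulVec, ← suVal_mul, W_sq hF B, suVal_one', Matrix.one_mulVec,
      Matrix.mulVec_smul, hWe] at h2
  have hc1 : c = 1 := by
    have h1 : hermForm 3 F q (suVal u *ᵥ e) (suVal u *ᵥ f) = 1 := by rw [su_form, B.P.ef]
    rw [hue, huf, show c • f = co e n f 0 0 c by simp [co], h_e hF B] at h1
    rw [← cj_cj hF c, h1, map_one]
  rw [hc1, one_smul] at huf
  exact hu1 (Subtype.ext (eq_one_of_fix hF B hue huf))

theorem borelMax_psu (hF : Fintype.card F = q ^ 2) (heven : Even q) (h4 : 4 ≤ q) :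
    BorelMax (PSU 3 F q) :=
  (borel_psu hF heven h4).1

end Unitary

theorem borelIndex_suzuki {L : Type*} [Group L] [Finite L] (h : Lie.IsoSuzuki L) : BorelIndex L := by
  haveI : Fact (Nat.Prime 2) := ⟨Nat.prime_two⟩
  obtain ⟨F, i1, i2, m, hm, hF, ⟨e⟩⟩ := h
  have hS : Suz.SzField F m := ⟨hm, hF⟩
  refine BorelIndex.congr (borelIndex_of_one (Suz.sylowU hS) ?_) (e.trans (Suz.szEquiv hS).symm)
  rw [Suz.coe_sylowU, Suz.normalizer_unip, Suz.index_borel hS, Suz.card_unip]

end Cfsg.Agent.CoreConsumers
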