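import Cfsg.Prelude.Def_ClassificationStages
import Cfsg.Prelude.Def_Amalgam
import Cfsg.Agent.Lib.Local.CoreConsumers.BorelMaximal
import Cfsg.Agent.Lib.Invol.SPEmbedded
import Cfsg.Agent.Lib.Grp.Cores

/-!
# Simple groups with a strongly embedded subgroup

Given the structure theorem for groups with a strongly embedded subgroup, a simple group with a
strongly embedded subgroup `M` is `L₂(2ⁿ)`, `Sz(2ⁿ)` or `U₃(2ⁿ)`, `M` is a Sylow 2-normalizer and
the group is doubly transitive of Suzuki type on the conjugates of `M`.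
-/

set_option autoImplicit false
set_option linter.style.haveILetI false

namespace Cfsg.Agent.CoreConsumers

open Cfsg Subgroup

universe u

variable {G : Type u} [Group G] [Finite G]

theorem isoSuzuki_congr {L : Type*} [Group L] {M : Type*} [Group M] (h : Lie.IsoSuzuki M)
    (e : L ≃* M) : Lie.IsoSuzuki L := by
  obtain ⟨F, i1, i2, m, hm, hF, ⟨e'⟩⟩ := h
  exact ⟨F, i1, i2, m, hm, hF, ⟨e.trans e'⟩⟩

/-- In a simple group the structure theorem gives an isomorphism with a rank one group. -/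
theorem simple_borel [IsSimpleGroup G] (hna : ¬ IsMulCommutative G) (h2 : 2 ∣ Nat.card G)
    (hB : (∀ t : G, orderOf t = 2 → pPrimeCore 2 G ⊔ Subgroup.centralizer ({t} : Set G) = ⊤ ∧
        ∀ u ∈ Subgroup.centralizer ({t} : Set G), orderOf u = 2 → u = t) ∨
      (∃ (F : Type) (_ : Field F) (_ : Fintype F), CharP F 2 ∧ 4 ≤ Fintype.card F ∧
        Nonempty (↥(pElementClosure 2 (⊤ : Subgroup (G ⧸ pPrimeCore 2 G))) ≃*
          Matrix.SpecialLinearGroup (Fin 2) F)) ∨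
      (∃ (F : Type) (_ : Field F) (_ : Fintype F) (q : ℕ), Even q ∧ 4 ≤ q ∧
        Fintype.card F = q ^ 2 ∧
        Nonempty (↥(pElementClosure 2 (⊤ : Subgroup (G ⧸ pPrimeCore 2 G))) ≃* PSU 3 F q)) ∨
      Lie.IsoSuzuki ↥(pElementClosure 2 (⊤ : Subgroup (G ⧸ pPrimeCore 2 G)))) :
    ((∃ (F : Type) (_ : Field F) (_ : Fintype F) (n : ℕ), 2 ≤ n ∧ Fintype.card F = 2 ^ n ∧
        Nonempty (G ≃* Matrix.ProjectiveSpecialLinearGroup (Fin 2) F)) ∨ Lie.IsoSuzuki G ∨
      (∃ (F : Type) (_ : Field F) (_ : Fintype F) (n : ℕ), 2 ≤ n ∧ Fintype.card F = (2 ^ n) ^ 2 ∧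
        Nonempty (G ≃* PSU 3 F (2 ^ n)))) ∧ BorelMax G ∧ BorelIndex G := by
  haveI : Fact (Nat.Prime 2) := ⟨Nat.prime_two⟩
  obtain ⟨t, ht⟩ := exists_prime_orderOf_dvd_card' 2 h2
  have ht1 : t ≠ 1 := fun e => by rw [e, orderOf_one] at ht; omega
  set O := pPrimeCore 2 G with hOdef
  haveI hOn : O.Normal := Grp.pPrimeCore_isNormal
  have hO : O = ⊥ := hOn.eq_bot_or_eq_top.resolve_right fun h => by
    have hc : (Nat.card O).Coprime 2 := Grp.pPrimeCore_coprime
    rw [h, Subgroup.card_top] at hc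
    exact (Nat.prime_two.coprime_iff_not_dvd.1 hc.symm) h2
  rcases hB with h | h
  · exfalso
    have h1 := (h t ht).1
    rw [← hOdef, hO, bot_sup_eq] at h1
    have htc : t ∈ center G := mem_center_iff.2 fun g =>
      mem_centralizer_singleton_iff.1 (h1 ▸ mem_top g : g ∈ centralizer ({t} : Set G))
    have hc := ((inferInstance : (center G).Normal).eq_bot_or_eq_top).resolve_left
      fun e => ht1 (mem_bot.1 (e ▸ htc))
    exact hna ⟨⟨fun p q => mem_center_iff.1 (hc ▸ mem_top q) p⟩⟩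
  let e₀ : G ⧸ O ≃* G := (QuotientGroup.quotientMulEquivOfEq hO).trans QuotientGroup.quotientBot
  set L := pElementClosure 2 (⊤ : Subgroup (G ⧸ O)) with hL
  have hLtop : L = ⊤ := by
    haveI hn : (L.map e₀.toMonoidHom).Normal := by
      refine Subgroup.Normal.map ⟨fun n hn y => ?_⟩ _ e₀.surjective
      suffices h : L.map (MulAut.conj y).toMonoidHom ≤ L from h ⟨n, hn, rfl⟩
      rw [hL, pElementClosure, MonoidHom.map_closure, Subgroup.closure_le]
      rintro _ ⟨x, ⟨-, k, hk⟩, rfl⟩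
      refine Subgroup.subset_closure ⟨mem_top _, k, ?_⟩
      rw [← hk]
      exact orderOf_injective (MulAut.conj y).toMonoidHom (MulAut.conj y).injective x
    have htL : t ∈ L.map e₀.toMonoidHom := by
      refine ⟨e₀.symm t, Subgroup.subset_closure ⟨mem_top _, 1, ?_⟩, e₀.apply_symm_apply t⟩
      rw [MulEquiv.orderOf_eq, ht, pow_one]
    have h1 := hn.eq_bot_or_eq_top.resolve_left fun e => ht1 (mem_bot.1 (e ▸ htL))
    exact Subgroup.map_injective (f := e₀.toMonoidHom) e₀.injective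
      (h1.trans (Subgroup.map_top_of_surjective _ e₀.surjective).symm)
  let e₁ : G ≃* ↥L :=
    e₀.symm.trans (Subgroup.topEquiv.symm.trans (MulEquiv.subgroupCongr hLtop.symm))
  rcases h with ⟨F, i1, i2, hc, h4, ⟨e⟩⟩ | ⟨F, i1, i2, q, hq, h4, hF, ⟨e⟩⟩ | h
  · obtain ⟨k, hk⟩ := FiniteField.card F 2
    have heven : Even (Fintype.card F) := by
      rw [hk.2]; exact Nat.even_pow.2 ⟨even_two, k.pos.ne'⟩
    have h2F : (2 : F) = 0 := CharTwo.two_eq_zero
    let e' : G ≃* Matrix.ProjectiveSpecialLinearGroup (Fin 2) F := e₁.trans (e.trans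
      ((QuotientGroup.quotientMulEquivOfEq (Fus.CTSimple.center_eq_bot_of_two h2F)).trans
        QuotientGroup.quotientBot).symm)
    refine ⟨Or.inl ⟨F, i1, i2, k, ?_, hk.2, ⟨e'⟩⟩, (borel_psl heven h4).1.congr e',
      (borel_psl heven h4).2.congr e'⟩
    by_contra hk2
    rw [hk.2, show (k : ℕ) = 1 by have := k.pos; omega] at h4
    omega
  · obtain ⟨p, hc⟩ := CharP.exists F
    haveI : Fact p.Prime := ⟨CharP.char_is_prime F p⟩
    obtain rfl : p = 2 := Dickson.p_eq_two p (by rw [hF]; exact hq.pow_of_ne_zero two_ne_zero)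
    obtain ⟨k, hk⟩ := FiniteField.card F 2
    obtain ⟨j, -, rfl⟩ := (Nat.dvd_prime_pow Nat.prime_two).1
      (show q ∣ 2 ^ (k : ℕ) from hk.2 ▸ hF ▸ dvd_pow_self q two_ne_zero)
    have hj : 2 ≤ j := by
      rcases j with _ | _ | j
      · simp at h4
      · simp at h4
      · omega
    exact ⟨Or.inr (Or.inr ⟨F, i1, i2, j, hj, hF, ⟨e₁.trans e⟩⟩),
      (borel_psu hF hq h4).1.congr (e₁.trans e), (borel_psu hF hq h4).2.congr (e₁.trans e)⟩
  · exact ⟨Or.inr (Or.inl (isoSuzuki_congr h e₁)), (borelMax_suzuki h).congr e₁,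
      (borelIndex_suzuki h).congr e₁⟩

/-- A strongly embedded subgroup of a simple group is a Sylow 2-normalizer. -/
theorem s1792_of [IsSimpleGroup G] (hG : ¬ IsMulCommutative G) (M : Subgroup G)
    (hM : IsStronglyPEmbedded 2 M)
    (hB : (∀ t : G, orderOf t = 2 → pPrimeCore 2 G ⊔ Subgroup.centralizer ({t} : Set G) = ⊤ ∧
        ∀ u ∈ Subgroup.centralizer ({t} : Set G), orderOf u = 2 → u = t) ∨
      (∃ (F : Type) (_ : Field F) (_ : Fintype F), CharP F 2 ∧ 4 ≤ Fintype.card F ∧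
        Nonempty (↥(pElementClosure 2 (⊤ : Subgroup (G ⧸ pPrimeCore 2 G))) ≃*
          Matrix.SpecialLinearGroup (Fin 2) F)) ∨
      (∃ (F : Type) (_ : Field F) (_ : Fintype F) (q : ℕ), Even q ∧ 4 ≤ q ∧
        Fintype.card F = q ^ 2 ∧
        Nonempty (↥(pElementClosure 2 (⊤ : Subgroup (G ⧸ pPrimeCore 2 G))) ≃* PSU 3 F q)) ∨
      Lie.IsoSuzuki ↥(pElementClosure 2 (⊤ : Subgroup (G ⧸ pPrimeCore 2 G)))) :
    ((∃ (F : Type) (_ : Field F) (_ : Fintype F) (n : ℕ), 2 ≤ n ∧ Fintype.card F = 2 ^ n ∧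
        Nonempty (G ≃* Matrix.ProjectiveSpecialLinearGroup (Fin 2) F)) ∨ Lie.IsoSuzuki G ∨
      (∃ (F : Type) (_ : Field F) (_ : Fintype F) (n : ℕ), 2 ≤ n ∧ Fintype.card F = (2 ^ n) ^ 2 ∧
        Nonempty (G ≃* PSU 3 F (2 ^ n)))) ∧
      ∃ S : Sylow 2 G, M = Subgroup.normalizer ((S : Subgroup G) : Set G) := by
  haveI : Fact (Nat.Prime 2) := ⟨Nat.prime_two⟩
  obtain ⟨h2, hne, P, hP⟩ := hM
  obtain ⟨h1, hmax, -⟩ := simple_borel hG h2 hB
  exact ⟨h1, P, hmax P M hne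
    (Fus.normalizer_le_of_kGeneratedCore P.isPGroup' hP le_rfl (P.ne_bot_of_dvd_card h2))⟩

/-- Double transitivity of Suzuki type on the conjugates of a strongly embedded subgroup. -/
theorem s2027_of [IsSimpleGroup G] (hG : ¬ IsMulCommutative G) (M : Subgroup G)
    (hM : IsStronglyPEmbedded 2 M)
    (hB : (∀ t : G, orderOf t = 2 → pPrimeCore 2 G ⊔ Subgroup.centralizer ({t} : Set G) = ⊤ ∧
        ∀ u ∈ Subgroup.centralizer ({t} : Set G), orderOf u = 2 → u = t) ∨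
      (∃ (F : Type) (_ : Field F) (_ : Fintype F), CharP F 2 ∧ 4 ≤ Fintype.card F ∧
        Nonempty (↥(pElementClosure 2 (⊤ : Subgroup (G ⧸ pPrimeCore 2 G))) ≃*
          Matrix.SpecialLinearGroup (Fin 2) F)) ∨
      (∃ (F : Type) (_ : Field F) (_ : Fintype F) (q : ℕ), Even q ∧ 4 ≤ q ∧
        Fintype.card F = q ^ 2 ∧
        Nonempty (↥(pElementClosure 2 (⊤ : Subgroup (G ⧸ pPrimeCore 2 G))) ≃* PSU 3 F q)) ∨
      Lie.IsoSuzuki ↥(pElementClosure 2 (⊤ : Subgroup (G ⧸ pPrimeCore 2 G)))) :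
    IsDoublyTransitiveSuzukiType M := by
  classical
  haveI : Fact (Nat.Prime 2) := ⟨Nat.prime_two⟩
  obtain ⟨-, -, hodd⟩ := (Invol.isStronglyPEmbedded_iff (p := 2)).1 hM
  obtain ⟨h2, hne, P, hP⟩ := hM
  obtain ⟨-, hmax, hidx⟩ := simple_borel hG h2 hB
  have hP1 : (P : Subgroup G) ≠ ⊥ := P.ne_bot_of_dvd_card h2
  have hMP : M = normalizer ((P : Subgroup G) : Set G) :=
    hmax P M hne (Fus.normalizer_le_of_kGeneratedCore P.isPGroup' hP le_rfl hP1)
  have hPM : (P : Subgroup G) ≤ M := le_normalizer.trans hMP.ge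
  have hNM : normalizer (M : Set G) = M := by rw [hMP]; exact Sylow.normalizer_normalizer P
  -- conjugates and cosets
  have hconj : ∀ g h : G, M.map (MulAut.conj g).toMonoidHom = M.map (MulAut.conj h).toMonoidHom ↔
      (g : G ⧸ M) = h := by
    intro g h
    rw [QuotientGroup.eq]
    constructor
    · intro e
      rw [← hNM, mem_normalizer_iff]
      intro x
      have h1 : ∀ y, g⁻¹ * y * g ∈ M ↔ h⁻¹ * y * h ∈ M := fun y => by
        have := SetLike.ext_iff.1 e y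
        rwa [Invol.mem_map_conj, Invol.mem_map_conj] at this
      have := h1 (h * x * h⁻¹)
      rw [show h⁻¹ * (h * x * h⁻¹) * h = x by group] at this
      rw [← this, show g⁻¹ * (h * x * h⁻¹) * g = g⁻¹ * h * x * (g⁻¹ * h)⁻¹ by group]
    · intro hm
      ext y
      rw [Invol.mem_map_conj, Invol.mem_map_conj]
      have := (mem_normalizer_iff.1 (show g⁻¹ * h ∈ normalizer (M : Set G) from hNM.symm ▸ hm))
        (h⁻¹ * y * h)
      rw [show g⁻¹ * h * (h⁻¹ * y * h) * (g⁻¹ * h)⁻¹ = g⁻¹ * y * g by group] at this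
      exact this.symm
  have hself : ∀ g : G, M.map (MulAut.conj g).toMonoidHom ≠ M ↔ g ∉ M := by
    intro g
    have h1 : M.map (MulAut.conj (1 : G)).toMonoidHom = M := by
      ext y; rw [Invol.mem_map_conj]; simp
    conv_lhs => rhs; rw [← h1]
    rw [ne_eq, hconj, QuotientGroup.eq, mul_one, inv_mem_iff]
  have hmap : ∀ x g : G, (M.map (MulAut.conj g).toMonoidHom).map (MulAut.conj x).toMonoidHom =
      M.map (MulAut.conj (x * g)).toMonoidHom := by
    intro x g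
    rw [Subgroup.map_map]
    congr 1
    ext y
    simp [mul_assoc]
  -- the Sylow subgroup is semiregular on the other conjugates
  have hfree : ∀ g : G, g ∉ M → ∀ z ∈ (P : Subgroup G), g⁻¹ * z * g ∈ M → z = 1 := by
    intro g hg z hz hzg
    by_contra hz1
    obtain ⟨k, hk⟩ := P.isPGroup' ⟨z, hz⟩
    obtain ⟨j, -, hj⟩ := (Nat.dvd_prime_pow Nat.prime_two).1
      (orderOf_dvd_of_pow_eq_one (x := z) (by simpa using congrArg Subtype.val hk))
    rcases j with _ | j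
    · rw [pow_zero, orderOf_eq_one_iff] at hj; exact hz1 hj
    · refine hodd g hg ((hj.symm ▸ dvd_pow_self 2 j.succ_ne_zero : 2 ∣ orderOf z).trans ?_)
      have hm : z ∈ M ⊓ M.map (MulAut.conj g).toMonoidHom :=
        mem_inf.2 ⟨hPM hz, Invol.mem_map_conj.2 hzg⟩
      rw [← orderOf_mk z hm]
      exact orderOf_dvd_natCard _
  -- and transitive
  have hreg : ∀ g₁ g₂ : G, g₁ ∉ M → g₂ ∉ M →
      ∃! x : ↥(P : Subgroup G), (((x : G) * g₁ : G) : G ⧸ M) = (g₂ : G ⧸ M) := by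
    intro g₁ g₂ hg₁ hg₂
    let f : ↥(P : Subgroup G) → {c : G ⧸ M // c ≠ ((1 : G) : G ⧸ M)} := fun x =>
      ⟨(((x : G) * g₁ : G) : G ⧸ M), fun e => by
        rw [QuotientGroup.eq, mul_one, inv_mem_iff] at e
        exact hg₁ ((M.mul_mem_cancel_left (hPM x.2)).1 e)⟩
    have hinj : Function.Injective f := by
      intro x y e
      have h1 : ((x : G) * g₁)⁻¹ * ((y : G) * g₁) ∈ M := QuotientGroup.eq.1 (congrArg Subtype.val e :)
      rw [show ((x : G) * g₁)⁻¹ * ((y : G) * g₁) = g₁⁻¹ * ((x : G)⁻¹ * y) * g₁ by group] at h1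
      exact Subtype.ext (inv_mul_eq_one.1 (hfree g₁ hg₁ _ (mul_mem (inv_mem x.2) y.2) h1))
    haveI := Fintype.ofFinite (G ⧸ M)
    haveI := Fintype.ofFinite ↥(P : Subgroup G)
    have hcard : Fintype.card ↥(P : Subgroup G) =
        Fintype.card {c : G ⧸ M // c ≠ ((1 : G) : G ⧸ M)} := by
      rw [Fintype.card_subtype_compl, Fintype.card_subtype_eq, ← Nat.card_eq_fintype_card,
        ← Nat.card_eq_fintype_card, ← Subgroup.index_eq_card]
      conv_rhs => rw [hMP, hidx P]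
      omega
    have hb := (Fintype.bijective_iff_injective_and_card f).2 ⟨hinj, hcard⟩
    obtain ⟨x, hx⟩ := hb.2 ⟨(g₂ : G ⧸ M), fun e => by
      rw [QuotientGroup.eq, mul_one, inv_mem_iff] at e; exact hg₂ e⟩
    exact ⟨x, congrArg Subtype.val hx, fun y hy => hb.1 ((Subtype.ext hy : f y = _).trans hx.symm)⟩
  obtain ⟨g, hg⟩ : ∃ g, g ∉ M := by
    by_contra! h
    exact hne (eq_top_iff.2 fun x _ => h x)
  have hD : ∀ z, z ∈ normalizer ((M.map (MulAut.conj g).toMonoidHom : Subgroup G) : Set G) ↔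
      g⁻¹ * z * g ∈ M := by
    intro z
    rw [← Subgroup.map_equiv_normalizer_eq, hNM, Invol.mem_map_conj]
  refine ⟨hNM, ⟨g, (hself g).2 hg⟩, fun g₁ g₂ h₁ h₂ => ?_, g, (hself g).2 hg, (P : Subgroup G),
    hPM, ?_, ?_, ?_, P.isPGroup'.isNilpotent, ⟨P, le_rfl⟩, fun g₁ g₂ h₁ h₂ => ?_⟩
  · obtain ⟨x, hx, -⟩ := hreg g₁ g₂ ((hself g₁).1 h₁) ((hself g₂).1 h₂)
    exact ⟨x, hPM x.2, by rw [hmap, hconj]; exact hx⟩
  · rw [hMP]; exact Subgroup.normal_in_normalizer
  · rw [eq_bot_iff]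
    rintro z ⟨hz, -, hz'⟩
    exact mem_bot.2 (hfree g hg z hz ((hD z).1 hz'))
  · refine le_antisymm (sup_le hPM inf_le_left) fun m hm => ?_
    obtain ⟨x, hx, -⟩ := hreg g (m * g) hg (fun h => hg ((M.mul_mem_cancel_left hm).1 h))
    rw [QuotientGroup.eq] at hx
    rw [show m = (x : G) * ((x : G)⁻¹ * m) by group]
    refine Subgroup.mul_mem_sup x.2 (mem_inf.2 ⟨mul_mem (inv_mem (hPM x.2)) hm, (hD _).2 ?_⟩)
    rwa [show g⁻¹ * ((x : G)⁻¹ * m) * g = ((x : G) * g)⁻¹ * (m * g) by group]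
  · simp_rw [hmap, hconj]
    exact hreg g₁ g₂ ((hself g₁).1 h₁) ((hself g₂).1 h₂)

end Cfsg.Agent.CoreConsumers
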