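import Cfsg.Prelude.Def_TwoFusion
import Cfsg.Prelude.Def_Transfer
import Cfsg.Agent.Lib.Fus.KleinAutPSL
import Cfsg.Agent.Lib.Transfer.Burnside
import Cfsg.Agent.Lib.Invol.ZStar

/-!
# The Sylow 2-subgroup inside a centralizer `⟨t⟩ × E` with `PSL(2, q)` normal in `E`

In a simple group with abelian Sylow 2-subgroups the Sylow subgroup through `t` is `⟨t⟩ × V` for a
four-group `V` of the normal `PSL(2, q)`, and all seven involutions are conjugate.
-/

set_option autoImplicit false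
set_option linter.unusedSectionVars false
set_option linter.style.haveILetI false

namespace Cfsg.Agent.CoreConsumers.MaxCent

open Cfsg Matrix Cfsg.Agent.Dickson Cfsg.Agent.Grp.SL2 Cfsg.Agent.PSL2Spec Cfsg.Agent.Fus

universe u w

variable {G : Type u} [Group G] [Finite G] {F : Type w} [Field F] [Fintype F]

local notation "PSL₂" => Matrix.ProjectiveSpecialLinearGroup (Fin 2) F

/-- The 2-local data. -/
structure Frame (F : Type w) [Field F] [Fintype F] (t : G) (E : Subgroup G) where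
  ι : Matrix.ProjectiveSpecialLinearGroup (Fin 2) F →* G
  inj : Function.Injective ι
  memE : ∀ z, ι z ∈ E
  conjE : ∀ x ∈ E, ∀ z, ∃ z', x * ι z * x⁻¹ = ι z'
  cent : ∀ x ∈ E, (∀ z, Commute x (ι z)) → x = 1
  tC : ∀ x ∈ E, Commute x t
  tE : t ∉ E
  dec : ∀ c, Commute c t → ∃ x ∈ E, c = x ∨ c = t * x
  a : Matrix.ProjectiveSpecialLinearGroup (Fin 2) F
  b : Matrix.ProjectiveSpecialLinearGroup (Fin 2) F
  r : Matrix.ProjectiveSpecialLinearGroup (Fin 2) F
  oa : orderOf a = 2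
  ob : orderOf b = 2
  oab : orderOf (a * b) = 2
  comm : Commute a b
  ra : r * a * r⁻¹ = a * b
  rb : r * b * r⁻¹ = a
  cen : ∀ c, Commute c a → Commute c b → c * c = 1
  S : Sylow 2 G
  tS : t ∈ (S : Subgroup G)
  aS : ι a ∈ (S : Subgroup G)
  bS : ι b ∈ (S : Subgroup G)
  rS : ι r ∈ Subgroup.normalizer ((S : Subgroup G) : Set G)
  decomp : ∀ s ∈ (S : Subgroup G), ∃ v, (v = 1 ∨ v = a ∨ v = b ∨ v = a * b) ∧ (s = ι v ∨ s = t * ι v)
  scomm : ∀ s ∈ (S : Subgroup G), ∀ s' ∈ (S : Subgroup G), Commute s s'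

theorem Frame.rab {t : G} {E : Subgroup G} (P : Frame F t E) :
    P.r * (P.a * P.b) * P.r⁻¹ = P.b := by
  have ha2 := (orderOf_eq_prime_iff.1 P.oa).1
  calc P.r * (P.a * P.b) * P.r⁻¹ = P.r * P.a * P.r⁻¹ * (P.r * P.b * P.r⁻¹) := by group
    _ = P.b := by
      rw [P.ra, P.rb, mul_assoc, ← P.comm.eq, ← mul_assoc, ← pow_two, ha2, one_mul]

theorem exists_frame (hab : ∀ S : Sylow 2 G, IsMulCommutative ↥(S : Subgroup G)) {t : G}
    (ht : orderOf t = 2) {E E₀ : Subgroup G}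
    (hE : Cfsg.IsInternalDirectProduct (Subgroup.zpowers t) E (Subgroup.centralizer ({t} : Set G)))
    (hFo : Odd (Fintype.card F)) (hle : E₀ ≤ E) (hn : (E₀.subgroupOf E).Normal)
    (e : E₀ ≃* PSL₂) (hCE : E ⊓ Subgroup.centralizer (E₀ : Set G) = ⊥) :
    Nonempty (Frame F t E) := by
  classical
  haveI := Fact.mk Nat.prime_two
  obtain ⟨hle1, hEC, hcommE, hbot, hsup⟩ := hE
  have htt : t * t = 1 := by rw [← pow_two, ← ht, pow_orderOf_eq_one]
  have ht1 : t ≠ 1 := fun h => by rw [h, orderOf_one] at ht; omega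
  have hEt : ∀ x ∈ E, x * t = t * x := fun x hx => (hcommE t (Subgroup.mem_zpowers t) x hx).symm
  have htE : t ∉ E := fun h =>
    ht1 ((Subgroup.eq_bot_iff_forall _).1 hbot t ⟨Subgroup.mem_zpowers t, h⟩)
  have hnorm : Subgroup.zpowers t ≤ Subgroup.normalizer (E : Set G) := Subgroup.zpowers_le.2
    (Subgroup.centralizer_le_normalizer _ (Subgroup.mem_centralizer_iff.2 fun x hx => hEt x hx))
  have hdec : ∀ c, c * t = t * c → ∃ x ∈ E, c = x ∨ c = t * x := by
    intro c hc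
    have h1 : c ∈ (Subgroup.zpowers t ⊔ E : Subgroup G) := by
      rw [hsup]; exact Subgroup.mem_centralizer_singleton_iff.2 hc
    rw [← SetLike.mem_coe, Subgroup.coe_mul_of_left_le_normalizer_right _ _ hnorm] at h1
    obtain ⟨u, ⟨i, rfl⟩, x, hx, rfl⟩ := h1
    refine ⟨x, hx, ?_⟩
    have hz : t ^ i = t ^ (i % 2) := by rw [← zpow_mod_orderOf, ht]; rfl
    rcases Int.emod_two_eq_zero_or_one i with h | h <;> simp only [hz, h]
    · left; simp
    · right; simp
  -- the copy of `PSL(2, q)`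
  let ι : PSL₂ →* G := E₀.subtype.comp e.symm.toMonoidHom
  have hι : Function.Injective ι := E₀.subtype_injective.comp e.symm.injective
  have hmemE : ∀ z, ι z ∈ E := fun z => hle (e.symm z).2
  have hrange : ∀ g ∈ E₀, ∃ z, ι z = g := fun g hg => ⟨e ⟨g, hg⟩, by simp [ι]⟩
  have hconj : ∀ x ∈ E, ∀ z, ∃ z', x * ι z * x⁻¹ = ι z' := fun x hx z => by
    obtain ⟨z', hz'⟩ := hrange _ (Subgroup.mem_subgroupOf.1
      (hn.conj_mem ⟨ι z, hmemE z⟩ (Subgroup.mem_subgroupOf.2 (e.symm z).2) ⟨x, hx⟩))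
    exact ⟨z', hz'.symm⟩
  have hcent : ∀ x ∈ E, (∀ z, Commute x (ι z)) → x = 1 := by
    intro x hx h
    have hm : x ∈ E ⊓ Subgroup.centralizer (E₀ : Set G) := ⟨hx, Subgroup.mem_centralizer_iff.2
      fun n hn' => by obtain ⟨z, rfl⟩ := hrange n hn'; exact (h z).eq.symm⟩
    rwa [hCE, Subgroup.mem_bot] at hm
  have hcommP : ∀ P : Subgroup G, IsPGroup 2 P → ∀ p ∈ P, ∀ q ∈ P, p * q = q * p := by
    intro P hP p hp q hq
    obtain ⟨S, hS⟩ := hP.exists_le_sylow
    exact congrArg Subtype.val ((hab S).is_comm.comm ⟨p, hS hp⟩ ⟨q, hS hq⟩)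
  have h2 := two_ne_zero_of_odd_card hFo
  obtain ⟨x, y, hq⟩ := exists_quat hFo
  have hm := KleinAut.mod_eight_of_abelian hFo hq fun P hP p hp q hq' => hι (by
    rw [map_mul, map_mul]
    exact hcommP _ (hP.map ι) _ ⟨p, hp, rfl⟩ _ ⟨q, hq', rfl⟩)
  obtain ⟨t₃, -, ht₃N, hta, htb⟩ := exists_three hFo hq
  haveI := hq.isKleinFour h2
  have hksq : ∀ v ∈ hq.klein, v * v = 1 := fun v hv =>
    congrArg Subtype.val (IsKleinFour.mul_self (⟨v, hv⟩ : hq.klein))
  set a := proj x with ha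
  set b := proj y with hb
  have hak : a ∈ hq.klein := Or.inr (Or.inl rfl)
  have hbk : b ∈ hq.klein := Or.inr (Or.inr (Or.inl rfl))
  have ha1 : a ≠ 1 := Quat.proj_ne_one h2 hq.xx
  have hb1 : b ≠ 1 := Quat.proj_ne_one h2 hq.yy
  have hab1 : a * b ≠ 1 := fun h0 => by
    refine ha1 (conj_eq_one_iff (a := t₃).1 ?_)
    rw [hta]
    exact h0
  set V := hq.klein.map ι with hV
  have hVcases : ∀ v ∈ hq.klein, v = 1 ∨ v = a ∨ v = b ∨ v = a * b := by
    intro v hv
    rcases hv with rfl | rfl | rfl | rfl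
    · exact Or.inl rfl
    · exact Or.inr (Or.inl rfl)
    · exact Or.inr (Or.inr (Or.inl rfl))
    · exact Or.inr (Or.inr (Or.inr rfl))
  have hVE : V ≤ E := by rintro _ ⟨z, -, rfl⟩; exact hmemE z
  have hVp : IsPGroup 2 V := (IsPGroup.of_card (p := 2) (n := 2) (hq.card_klein h2)).map ι
  -- 2-elements of `E` centralizing `V` lie in `V`
  haveI := hn
  have key : ∀ (c : G) (j : ℕ), c ∈ E → c ^ 2 ^ j = 1 → c * ι a = ι a * c → c * ι b = ι b * c →
      c ∈ V := by
    intro c j hc hcj hca hcb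
    let e' : ↥(E₀.subgroupOf E) ≃* PSL₂ := (Subgroup.subgroupOfEquivOfLe hle).trans e
    have hval : ∀ z, (((e'.symm z : ↥(E₀.subgroupOf E)) : E) : G) = ι z := fun z => rfl
    let β : MulAut PSL₂ := MulAut.congr e' (MulAut.conjNormal (⟨c, hc⟩ : E))
    have hβι : ∀ z, ι (β z) = c * ι z * c⁻¹ := by
      intro z
      rw [← hval (β z)]
      show (((e'.symm (e' (MulAut.conjNormal (⟨c, hc⟩ : E) (e'.symm z))) : ↥(E₀.subgroupOf E)) : E) : G) = _
      rw [e'.symm_apply_apply, MulAut.conjNormal_apply]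
      rfl
    have hfix : ∀ z, c * ι z = ι z * c → β z = z := fun z hz =>
      hι (by rw [hβι, hz, mul_inv_cancel_right])
    have hpow : β ^ 2 ^ j = 1 := by
      show (MulAut.congr e' (MulAut.conjNormal (⟨c, hc⟩ : E))) ^ 2 ^ j = 1
      rw [← map_pow, ← map_pow, show (⟨c, hc⟩ : E) ^ 2 ^ j = 1 from Subtype.ext hcj, map_one, map_one]
    obtain ⟨v, hv, hβ⟩ := KleinAut.eq_conj_of_fix hFo hm hq hpow (hfix _ hca) (hfix _ hcb)
    refine ⟨v, hv, ?_⟩
    refine inv_mul_eq_one.1 (hcent _ (mul_mem (inv_mem (hmemE v)) hc) fun z => ?_)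
    have h3 : ι (v * z * v⁻¹) = c * ι z * c⁻¹ := by rw [← hβι z, hβ, MulAut.conj_apply]
    rw [map_mul, map_mul, map_inv] at h3
    show (ι v)⁻¹ * c * ι z = ι z * ((ι v)⁻¹ * c)
    calc (ι v)⁻¹ * c * ι z = (ι v)⁻¹ * (c * ι z * c⁻¹) * c := by group
      _ = ι z * ((ι v)⁻¹ * c) := by rw [← h3]; group
  have htV : ∀ v ∈ V, t * v = v * t := fun v hv => (hEt v (hVE hv)).symm
  have htp : IsPGroup 2 (Subgroup.zpowers t) :=
    IsPGroup.of_card (n := 1) (by rw [Nat.card_zpowers, ht, pow_one])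
  have htN : Subgroup.zpowers t ≤ Subgroup.normalizer (V : Set G) := Subgroup.zpowers_le.2
    (Subgroup.centralizer_le_normalizer _ (Subgroup.mem_centralizer_iff.2 fun v hv => (htV v hv).symm))
  obtain ⟨S, hS⟩ := (hVp.to_sup_of_normal_left' htp htN).exists_le_sylow
  have htS : t ∈ (S : Subgroup G) := hS (Subgroup.mem_sup_right (Subgroup.mem_zpowers t))
  have hVS : V ≤ (S : Subgroup G) := le_sup_left.trans hS
  have hScomm : ∀ s ∈ (S : Subgroup G), ∀ s' ∈ (S : Subgroup G), s * s' = s' * s :=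
    hcommP _ S.isPGroup'
  have haV : ι a ∈ V := ⟨a, hak, rfl⟩
  have hbV : ι b ∈ V := ⟨b, hbk, rfl⟩
  have hSdec : ∀ s ∈ (S : Subgroup G), ∃ v ∈ V, s = v ∨ s = t * v := by
    intro s hs
    obtain ⟨j, hj⟩ := S.isPGroup' ⟨s, hs⟩
    have hj' : s ^ 2 ^ j = 1 := congrArg Subtype.val hj
    have hst := hScomm s hs t htS
    have hsa := hScomm s hs _ (hVS haV)
    have hsb := hScomm s hs _ (hVS hbV)
    obtain ⟨u, hu, h | h⟩ := hdec s hst
    · subst h; exact ⟨s, key s j hu hj' hsa hsb, Or.inl rfl⟩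
    · refine ⟨u, ?_, Or.inr h⟩
      have hu' : u = t * s := by rw [h, ← mul_assoc, htt, one_mul]
      refine key u (j + 1) hu ?_ ?_ ?_
      · have hcm : Commute t s := hst.symm
        rw [hu', hcm.mul_pow, pow_succ 2 j, pow_mul s, hj', one_pow, mul_one, mul_comm (2 ^ j) 2,
          pow_mul, pow_two t, htt, one_pow]
      · rw [hu', mul_assoc, hsa, ← mul_assoc, htV _ haV, mul_assoc]
      · rw [hu', mul_assoc, hsb, ← mul_assoc, htV _ hbV, mul_assoc]
  refine ⟨{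
    ι := ι, inj := hι, memE := hmemE, conjE := hconj, cent := hcent, tC := hEt, tE := htE
    dec := hdec, a := a, b := b, r := t₃
    oa := orderOf_eq_prime ((pow_two a).trans (hksq a hak)) ha1
    ob := orderOf_eq_prime ((pow_two b).trans (hksq b hbk)) hb1
    oab := orderOf_eq_prime ((pow_two _).trans (hksq _ (mul_mem hak hbk))) hab1
    comm := hι (by rw [map_mul, map_mul]; exact hScomm _ (hVS haV) _ (hVS hbV))
    ra := hta, rb := htb
    cen := fun c hca hcb => hksq c (hq.centralizer h2 hca hcb)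
    S := S, tS := htS, aS := hVS haV, bS := hVS hbV
    rS := ?_, decomp := ?_, scomm := hScomm }⟩
  · refine Cfsg.Agent.Dickson.mem_normalizer_of_forall fun s hs => ?_
    obtain ⟨_, ⟨z, hz, rfl⟩, h⟩ := hSdec s hs
    have hrz : ι t₃ * ι z * (ι t₃)⁻¹ ∈ V :=
      ⟨_, (Subgroup.mem_normalizer_iff.1 ht₃N z).1 hz, by simp⟩
    rcases h with rfl | rfl
    · exact hVS hrz
    · rw [← mul_assoc, hEt _ (hmemE t₃), mul_assoc t (ι t₃), mul_assoc]
      exact mul_mem htS (hVS hrz)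
  · intro s hs
    obtain ⟨_, ⟨z, hz, rfl⟩, h⟩ := hSdec s hs
    exact ⟨z, hVcases z hz, h⟩

variable {t : G} {E : Subgroup G} (P : Frame F t E)
include P

theorem Frame.orderOf_ι (z : PSL₂) : orderOf (P.ι z) = orderOf z :=
  orderOf_injective P.ι P.inj z

theorem Frame.t_ne_ι (z : PSL₂) : t ≠ P.ι z := fun h => P.tE (h ▸ P.memE z)

/-- An element of the centralizer of `t` of odd order lies in `E`. -/
theorem Frame.mem_of_odd (ht : t * t = 1) {y : G} (hy : Odd (orderOf y)) (hyt : Commute y t) :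
    y ∈ E := by
  obtain ⟨k, hk⟩ := hy
  have h2 : y ^ 2 ∈ E := by
    obtain ⟨x, hx, rfl | rfl⟩ := P.dec y hyt
    · exact pow_mem hx 2
    · rw [(P.tC x hx).symm.mul_pow, pow_two t, ht, one_mul]
      exact pow_mem hx 2
  have : y = (y ^ 2) ^ (k + 1) := by
    rw [← pow_mul, show 2 * (k + 1) = (2 * k + 1) + 1 by ring, ← hk, pow_succ, pow_orderOf_eq_one,
      one_mul]
  rw [this]
  exact pow_mem h2 _

/-- The fusion of `t` inside a subgroup containing its centralizer. -/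
theorem Frame.all_conj (ht : orderOf t = 2) {H : Subgroup G}
    (hC : ∀ c, Commute c t → c ∈ H)
    (hmv : ∃ n ∈ H, n * t * n⁻¹ ∈ (P.S : Subgroup G) ∧ n * t * n⁻¹ ≠ t) :
    ∀ s ∈ (P.S : Subgroup G), orderOf s = 2 →
      ∃ m ∈ H, m ∈ Subgroup.normalizer ((P.S : Subgroup G) : Set G) ∧ m * t * m⁻¹ = s := by
  classical
  haveI := Fact.mk Nat.prime_two
  set S := P.S
  have hSH : (S : Subgroup G) ≤ H := fun s hs => hC s (P.scomm s hs t P.tS)
  set N : Subgroup G := H ⊓ Subgroup.normalizer ((S : Subgroup G) : Set G) with hN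
  letI : MulAction N G := MulAction.compHom G ((MulAut.conj : G →* MulAut G).comp N.subtype)
  have hsmul : ∀ (n : N) (g : G), n • g = (n : G) * g * (n : G)⁻¹ := fun _ _ => rfl
  set O := MulAction.orbit N t with hO
  suffices hall : ∀ s ∈ (S : Subgroup G), orderOf s = 2 → s ∈ O by
    intro s hs hs2
    obtain ⟨n, hn⟩ := hall s hs hs2
    exact ⟨n, n.2.1, n.2.2, hn⟩
  have htO : t ∈ O := MulAction.mem_orbit_self t
  have hclosed : ∀ n ∈ N, ∀ u ∈ O, n * u * n⁻¹ ∈ O := by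
    rintro n hn u ⟨m, rfl⟩
    refine ⟨⟨n, hn⟩ * m, ?_⟩
    show (n * (m : G)) * t * (n * (m : G))⁻¹ = n * ((m : G) * t * (m : G)⁻¹) * n⁻¹
    group
  have hrN : P.ι P.r ∈ N := ⟨hC _ (P.tC _ (P.memE _)), P.rS⟩
  have hrι : ∀ v v', P.r * v * P.r⁻¹ = v' → P.ι v ∈ O → P.ι v' ∈ O := by
    rintro v v' rfl h
    simpa using hclosed _ hrN _ h
  have hrt : ∀ v v', P.r * v * P.r⁻¹ = v' → t * P.ι v ∈ O → t * P.ι v' ∈ O := by
    rintro v v' rfl h
    have h1 := hclosed _ hrN _ h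
    rwa [← mul_assoc, (P.tC _ (P.memE _)).eq, mul_assoc t, mul_assoc t, ← map_inv, ← map_mul,
      ← map_mul] at h1
  -- the orbit lies in `S` and consists of involutions
  have hOS : ∀ u ∈ O, u ∈ (S : Subgroup G) ∧ orderOf u = 2 := by
    rintro u ⟨m, rfl⟩
    refine ⟨(Subgroup.mem_normalizer_iff.1 m.2.2 t).1 P.tS, ?_⟩
    exact (orderOf_injective (MulAut.conj (m : G)).toMonoidHom (MulAut.conj (m : G)).injective t).trans ht
  -- the orbit has odd length
  have hodd : Odd O.ncard := by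
    rw [← MulAction.index_stabilizer, ← Nat.not_even_iff_odd, even_iff_two_dvd]
    intro h
    have h1 : ((S : Subgroup G).subgroupOf N) ≤ MulAction.stabilizer N t := fun s hs => by
      rw [MulAction.mem_stabilizer_iff, hsmul]
      exact mul_inv_eq_iff_eq_mul.2 (P.scomm _ hs t P.tS).eq
    have h2 : 2 ∣ (S : Subgroup G).relIndex N := h.trans (Subgroup.index_dvd_of_le h1)
    exact S.not_dvd_index (h2.trans
      (Subgroup.relIndex_dvd_index_of_le (show (S : Subgroup G) ≤ N from le_inf hSH Subgroup.le_normalizer)))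
  -- the seven involutions
  have hseven : ∀ s ∈ (S : Subgroup G), orderOf s = 2 →
      s = t ∨ ∃ v, (v = P.a ∨ v = P.b ∨ v = P.a * P.b) ∧ (s = P.ι v ∨ s = t * P.ι v) := by
    intro s hs hs2
    obtain ⟨v, hv, h⟩ := P.decomp s hs
    rcases hv with rfl | hv
    · refine Or.inl (h.elim (fun e => ?_) fun e => by rw [e, map_one, mul_one])
      rw [e, map_one, orderOf_one] at hs2
      omega
    · exact Or.inr ⟨v, hv, h⟩
  -- a non-trivial orbit meets both kinds
  obtain ⟨n, hn, hnS, hnt⟩ := hmv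
  obtain ⟨n', hn', hn'e⟩ := Transfer.exists_normalizer_conj_of_abelian (S.subtype hSH)
    ⟨⟨fun p q => Subtype.ext (Subtype.ext (P.scomm _ p.2 _ q.2).eq)⟩⟩
    (x := (⟨t, hSH P.tS⟩ : H)) (g := ⟨n, hn⟩) P.tS hnS
  have hn'N : (n' : G) ∈ N := by
    refine ⟨n'.2, Subgroup.mem_normalizer_iff.2 fun s => ⟨fun hs => ?_, fun hs => ?_⟩⟩
    · exact (Subgroup.mem_normalizer_iff.1 hn' ⟨s, hSH hs⟩).1 hs
    · have hsH : s ∈ H := by
        have := H.mul_mem (H.mul_mem (H.inv_mem n'.2) (hSH hs)) n'.2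
        simpa [mul_assoc] using this
      exact (Subgroup.mem_normalizer_iff.1 hn' ⟨s, hsH⟩).2 hs
  have hnO : n * t * n⁻¹ ∈ O := ⟨⟨n', hn'N⟩, congrArg Subtype.val hn'e⟩
  -- closure under the element of order three
  have cyc : ∀ f : PSL₂ → G, (∀ v v', P.r * v * P.r⁻¹ = v' → f v ∈ O → f v' ∈ O) →
      (∃ v, (v = P.a ∨ v = P.b ∨ v = P.a * P.b) ∧ f v ∈ O) →
      f P.a ∈ O ∧ f P.b ∈ O ∧ f (P.a * P.b) ∈ O := by
    rintro f hf ⟨v, rfl | rfl | rfl, hv⟩
    · exact ⟨hv, hf _ _ P.rab (hf _ _ P.ra hv), hf _ _ P.ra hv⟩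
    · exact ⟨hf _ _ P.rb hv, hv, hf _ _ P.ra (hf _ _ P.rb hv)⟩
    · exact ⟨hf _ _ P.rb (hf _ _ P.rab hv), hf _ _ P.rab hv, hv⟩
  have hne : ∀ v, (v = P.a ∨ v = P.b ∨ v = P.a * P.b) → orderOf v = 2 := by
    rintro v (rfl | rfl | rfl)
    exacts [P.oa, P.ob, P.oab]
  have dist : P.a ≠ P.b ∧ P.a ≠ P.a * P.b ∧ P.b ≠ P.a * P.b := by
    obtain ⟨-, ha1⟩ := orderOf_eq_prime_iff.1 P.oa
    obtain ⟨hb2, hb1⟩ := orderOf_eq_prime_iff.1 P.ob
    refine ⟨fun h => ?_, fun h => hb1 (mul_eq_left.1 h.symm), fun h => ha1 (mul_eq_right.1 h.symm)⟩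
    have := (orderOf_eq_prime_iff.1 P.oab).2
    rw [h, ← pow_two] at this
    exact this hb2
  -- the orbit is not one of the two blocks of size four
  have four : ∀ f : PSL₂ → G, Function.Injective f → (∀ v, orderOf v = 2 → f v ≠ t) →
      f P.a ∈ O → f P.b ∈ O → f (P.a * P.b) ∈ O →
      (∀ u ∈ O, u = t ∨ ∃ v, (v = P.a ∨ v = P.b ∨ v = P.a * P.b) ∧ u = f v) → False := by
    intro f hf hft ha hb hab hsub
    have hOeq : O = {t, f P.a, f P.b, f (P.a * P.b)} := by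
      ext u
      simp only [Set.mem_insert_iff, Set.mem_singleton_iff]
      constructor
      · intro hu
        rcases hsub u hu with e | ⟨v, rfl | rfl | rfl, e⟩
        exacts [Or.inl e, Or.inr (Or.inl e), Or.inr (Or.inr (Or.inl e)), Or.inr (Or.inr (Or.inr e))]
      · rintro (rfl | rfl | rfl | rfl)
        exacts [htO, ha, hb, hab]
    have h4 : O.ncard = 4 := by
      rw [hOeq, Set.ncard_insert_of_notMem, Set.ncard_insert_of_notMem, Set.ncard_pair]
      · exact fun e => dist.2.2 (hf e)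
      · simp only [Set.mem_insert_iff, Set.mem_singleton_iff]
        rintro (e | e)
        exacts [dist.1 (hf e), dist.2.1 (hf e)]
      · simp only [Set.mem_insert_iff, Set.mem_singleton_iff]
        rintro (e | e | e)
        exacts [hft _ P.oa e.symm, hft _ P.ob e.symm, hft _ P.oab e.symm]
    rw [h4] at hodd
    exact absurd hodd (by decide)
  have both : (∃ v, (v = P.a ∨ v = P.b ∨ v = P.a * P.b) ∧ P.ι v ∈ O) ∧
      (∃ v, (v = P.a ∨ v = P.b ∨ v = P.a * P.b) ∧ t * P.ι v ∈ O) := by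
    have hsplit : ∀ u ∈ O, u = t ∨ ∃ v, (v = P.a ∨ v = P.b ∨ v = P.a * P.b) ∧
        (u = P.ι v ∨ u = t * P.ι v) := fun u hu => hseven u (hOS u hu).1 (hOS u hu).2
    obtain ⟨v₀, hv₀, h₀⟩ := (hsplit _ hnO).resolve_left hnt
    constructor <;> by_contra hno <;> push_neg at hno
    · obtain ⟨h1, h2, h3⟩ := cyc (fun v => t * P.ι v) hrt
        ⟨v₀, hv₀, h₀.elim (fun e => absurd (e ▸ hnO) (hno v₀ hv₀)) (fun e => e ▸ hnO)⟩
      refine four (fun v => t * P.ι v) (fun p q e => P.inj (mul_left_cancel e))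
        (fun v hv e => ?_) h1 h2 h3 fun u hu => ?_
      · rw [mul_eq_left, map_eq_one_iff P.ι P.inj] at e
        rw [e, orderOf_one] at hv
        omega
      · rcases hsplit u hu with e | ⟨v, hv, e | e⟩
        exacts [Or.inl e, absurd (e ▸ hu) (hno v hv), Or.inr ⟨v, hv, e⟩]
    · obtain ⟨h1, h2, h3⟩ := cyc P.ι hrι
        ⟨v₀, hv₀, h₀.elim (fun e => e ▸ hnO) (fun e => absurd (e ▸ hnO) (hno v₀ hv₀))⟩
      refine four P.ι P.inj (fun v _ e => P.t_ne_ι v e.symm) h1 h2 h3 fun u hu => ?_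
      rcases hsplit u hu with e | ⟨v, hv, e | e⟩
      exacts [Or.inl e, Or.inr ⟨v, hv, e⟩, absurd (e ▸ hu) (hno v hv)]
  obtain ⟨ha, hb, hab⟩ := cyc P.ι hrι both.1
  obtain ⟨hta, htb, htab⟩ := cyc (fun v => t * P.ι v) hrt both.2
  intro s hs hs2
  rcases hseven s hs hs2 with rfl | ⟨v, rfl | rfl | rfl, rfl | rfl⟩
  exacts [htO, ha, hta, hb, htb, hab, htab]

/-- In a simple non-abelian group all involutions of `S` are conjugate to `t`. -/
theorem Frame.conj_top [IsSimpleGroup G] (hna : ¬ IsMulCommutative G) (ht : orderOf t = 2) :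
    ∀ s ∈ (P.S : Subgroup G), orderOf s = 2 →
      ∃ m ∈ Subgroup.normalizer ((P.S : Subgroup G) : Set G), m * t * m⁻¹ = s := by
  haveI := Fact.mk Nat.prime_two
  intro s hs hs2
  obtain ⟨m, -, hm, he⟩ := P.all_conj ht (H := ⊤) (fun c _ => Subgroup.mem_top c) (by
    by_contra hno
    push_neg at hno
    obtain ⟨N, hN, hodd, hcomm⟩ := ZStar.exists_odd_normal (t := t)
      (ZStar.isIsolated_of_sylow P.tS ht fun g hg => hno g (Subgroup.mem_top g) hg)
    haveI := hN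
    rcases hN.eq_bot_or_eq_top with h | h
    · have htc : t ∈ Subgroup.center G := Subgroup.mem_center_iff.2 fun g => by
        have h1 := hcomm g
        rw [h, Subgroup.mem_bot, mul_inv_eq_one, mul_inv_eq_iff_eq_mul] at h1
        exact h1.symm
      have ht1 : t ≠ 1 := fun e => by rw [e, orderOf_one] at ht; omega
      have hc := ((inferInstance : (Subgroup.center G).Normal).eq_bot_or_eq_top).resolve_left
        fun e => ht1 (Subgroup.mem_bot.1 (e ▸ htc))
      exact hna ⟨⟨fun p q => Subgroup.mem_center_iff.1 (hc ▸ Subgroup.mem_top q) p⟩⟩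
    · rw [h, Subgroup.card_top] at hodd
      refine Nat.not_even_iff_odd.2 hodd (even_iff_two_dvd.2 ?_)
      rw [← ht]
      exact orderOf_dvd_natCard t) s hs hs2
  exact ⟨m, hm, he⟩

end Cfsg.Agent.CoreConsumers.MaxCent
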