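import Cfsg.Agent.Lib.Classical.DicksonKlein
import Cfsg.Agent.Lib.Classical.DicksonTorus
import Cfsg.Agent.Lib.Classical.SLNormal
import Cfsg.Agent.Lib.Invol.PSp43.CentU

/-!
# Odd subgroups of `PSL(2, q)` normalized by the centralizer of an involution

For odd `q`, an element of odd order commutes with at most one involution, so a subgroup of odd
order inverted by an involution `w` and normalized by the centralizer of `w` has no non-trivial
element commuting with a second involution of a suitable four-group, and there are no normal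
subgroups of odd order.
-/

set_option autoImplicit false
set_option linter.unusedSectionVars false
set_option linter.style.haveILetI false

namespace Cfsg.Agent.CoreConsumers.PSLInvol

open Cfsg.Agent.Dickson Matrix

variable {F : Type*} [Field F] [Fintype F]

local notation "PSL₂" => Matrix.ProjectiveSpecialLinearGroup (Fin 2) F

theorem eq_one_of_sq {G : Type*} [Group G] {x : G} (hx : Odd (orderOf x)) (h : x * x = 1) :
    x = 1 := by
  rcases (Nat.dvd_prime Nat.prime_two).1
    (orderOf_dvd_of_pow_eq_one (x := x) (n := 2) (by rw [pow_two, h])) with e | e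
  · exact orderOf_eq_one_iff.1 e
  · rw [e] at hx; exact absurd hx (by decide)

theorem odd_orderOf_mem {G : Type*} [Group G] [Finite G] {X : Subgroup G} (hX : Odd (Nat.card X))
    {x : G} (hx : x ∈ X) : Odd (orderOf x) :=
  hX.of_dvd_nat (by rw [← Subgroup.orderOf_mk x hx]; exact orderOf_dvd_natCard _)

/-- Involutions and elements commuting with an element of odd order. -/
theorem key (hodd : Odd (Fintype.card F)) {x u : PSL₂} (hx : Odd (orderOf x)) (hx1 : x ≠ 1)
    (hu : orderOf u = 2) (h : Commute u x) :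
    (∀ v : PSL₂, Commute v x → Commute u v) ∧
      ∀ v : PSL₂, orderOf v = 2 → Commute v x → v = u := by
  classical
  obtain ⟨p, hc⟩ := CharP.exists F
  haveI : Fact p.Prime := ⟨CharP.char_is_prime F p⟩
  have hp2 : p ≠ 2 := by
    rintro rfl
    exact two_ne_zero_of_odd_card hodd CharTwo.two_eq_zero
  set D := pslData (F := F) p
  have hxp : x ^ p ≠ 1 := by
    intro e
    have h1 := orderOf_dvd_of_pow_eq_one (D.uni_exp hx1 e (D.uni_cent hx1 e h))
    rw [hu] at h1
    exact hp2 (((Nat.prime_dvd_prime_iff_eq Nat.prime_two Fact.out).1 h1).symm)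
  have mem : ∀ v : PSL₂, Commute v x → v ∈ D.T x := by
    intro v hv
    by_contra hn
    have hvx : v * x * v⁻¹ = x := by rw [hv.eq, mul_inv_cancel_right]
    obtain ⟨-, hinv⟩ := D.semi_flip hx1 hxp (hvx.symm ▸ D.self x) hn
    have := hinv x (D.self x)
    rw [hvx] at this
    exact hx1 (eq_one_of_sq hx (mul_eq_one_iff_eq_inv.2 this))
  refine ⟨fun v hv => D.comm hx1 (mem u h) (mem v hv), fun v hv hvx => ?_⟩
  haveI := D.semi_cyclic hx1 hxp
  haveI := Fintype.ofFinite ↥(D.T x)
  by_contra hne
  obtain ⟨hu2, hu1⟩ := orderOf_eq_prime_iff.1 hu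
  obtain ⟨hv2, hv1⟩ := orderOf_eq_prime_iff.1 hv
  have hle := IsCyclic.card_pow_eq_one_le (α := ↥(D.T x)) (n := 2) two_pos
  have hsub : ({1, ⟨u, mem u h⟩, ⟨v, mem v hvx⟩} : Finset ↥(D.T x)) ⊆
      Finset.univ.filter (fun a => a ^ 2 = 1) := by
    intro a ha
    simp only [Finset.mem_insert, Finset.mem_singleton] at ha
    refine Finset.mem_filter.2 ⟨Finset.mem_univ _, ?_⟩
    rcases ha with rfl | rfl | rfl
    exacts [one_pow _, Subtype.ext hu2, Subtype.ext hv2]
  have h3 : ({1, ⟨u, mem u h⟩, ⟨v, mem v hvx⟩} : Finset ↥(D.T x)).card = 3 := by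
    rw [Finset.card_insert_of_notMem, Finset.card_insert_of_notMem, Finset.card_singleton]
    · rw [Finset.mem_singleton, Subtype.ext_iff]
      exact Ne.symm hne
    · simp only [Finset.mem_insert, Finset.mem_singleton, Subtype.ext_iff]
      rintro (e | e)
      exacts [hu1 e.symm, hv1 e.symm]
  have := (Finset.card_le_card hsub).trans hle
  omega

/-- A subgroup of odd order inverted by `w` and normalized by the centralizer of `w` has no element
commuting with an involution `u` conjugate to `w` and with `C(w) ∩ C(u)` of exponent two. -/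
theorem eq_one_of_inverted (hodd : Odd (Fintype.card F)) {w u s : PSL₂} (hu : orderOf u = 2)
    (hs : s * w * s⁻¹ = u) (hcen : ∀ c : PSL₂, Commute c w → Commute c u → c * c = 1)
    {X : Subgroup PSL₂} (hX : Odd (Nat.card X)) (hinv : ∀ x ∈ X, w * x * w⁻¹ = x⁻¹)
    (hnorm : ∀ c : PSL₂, Commute c w → ∀ x ∈ X, c * x * c⁻¹ ∈ X) {x : PSL₂} (hx : x ∈ X)
    (hux : Commute u x) : x = 1 := by
  by_contra hx1
  have hxo := odd_orderOf_mem hX hx
  have hcomm : ∀ y ∈ X, ∀ z ∈ X, Commute y z := by
    intro y hy z hz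
    have h1 := hinv _ (X.mul_mem hy hz)
    rw [show w * (y * z) * w⁻¹ = w * y * w⁻¹ * (w * z * w⁻¹) by group, hinv y hy, hinv z hz,
      ← _root_.mul_inv_rev, _root_.inv_inj] at h1
    exact h1.symm
  have hC : ∀ c : PSL₂, Commute c w → Commute c u := by
    intro c hc
    set y := c * x * c⁻¹ with hy
    have hyX : y ∈ X := hnorm c hc x hx
    have hy1 : y ≠ 1 := fun e => hx1 (conj_eq_one_iff.1 e)
    have huy : Commute u y := (key hodd hxo hx1 hu hux).1 y (hcomm y hyX x hx)
    have hu' : orderOf (c * u * c⁻¹) = 2 :=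
      (orderOf_injective (MulAut.conj c).toMonoidHom (MulAut.conj c).injective u).trans hu
    have hu'y : Commute (c * u * c⁻¹) y := by
      have := hux.map (MulAut.conj c).toMonoidHom
      simpa [hy] using this
    have h1 := (key hodd (odd_orderOf_mem hX hyX) hy1 hu huy).2 _ hu' hu'y
    exact mul_inv_eq_iff_eq_mul.1 h1
  have hsq : ∀ c : PSL₂, Commute c u → c * c = 1 := by
    intro c hc
    have h1 : Commute (s⁻¹ * c * s) w := by
      have := hc.map (MulAut.conj s⁻¹).toMonoidHom
      rw [← hs] at this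
      simpa [mul_assoc] using this
    have h2 := hcen _ h1 (hC _ h1)
    rw [show s⁻¹ * c * s * (s⁻¹ * c * s) = s⁻¹ * (c * c) * s⁻¹⁻¹ by group, conj_eq_one_iff] at h2
    exact h2
  exact hx1 (eq_one_of_sq hxo (hsq x hux.symm))

/-- There are no normal subgroups of odd order. -/
theorem eq_bot_of_normal_odd (hodd : Odd (Fintype.card F)) {a b r : PSL₂} (ha : orderOf a = 2)
    (hb : orderOf b = 2) (hab : orderOf (a * b) = 2) (hra : r * a * r⁻¹ = a * b)
    (hrb : r * b * r⁻¹ = a) {L : Subgroup PSL₂} [hLn : L.Normal] (hL : Odd (Nat.card L)) :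
    L = ⊥ := by
  classical
  by_cases hq : 4 ≤ Fintype.card F
  · haveI : IsSimpleGroup PSL₂ := Classical.PSL_isSimple le_rfl fun _ => hq
    refine (Subgroup.Normal.eq_bot_or_eq_top hLn).resolve_right fun h => ?_
    rw [h, Subgroup.card_top] at hL
    refine Nat.not_even_iff_odd.2 hL (even_iff_two_dvd.2 ?_)
    exact ha.symm.dvd.trans (orderOf_dvd_natCard a)
  · have hq3 : Fintype.card F = 3 := by
      have := Fintype.one_lt_card (α := F)
      obtain ⟨k, hk⟩ := hodd
      omega
    obtain ⟨p, hc⟩ := CharP.exists F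
    haveI : Fact p.Prime := ⟨CharP.char_is_prime F p⟩
    have hcard := card_psl (F := F)
    rw [del, hq3] at hcard
    norm_num [Nat.gcd] at hcard
    rw [eq_bot_iff]
    intro x hx
    rw [Subgroup.mem_bot]
    by_contra hx1
    have hdvd : Nat.card L ∣ 12 := by
      have := Subgroup.card_subgroup_dvd_card L
      rwa [show Nat.card PSL₂ = 12 by rw [Nat.card_eq_fintype_card]; omega] at this
    have hL3 : Nat.card L = 3 := by
      have h1 : Nat.card L ≠ 1 := fun e => hx1 (by
        have := Subgroup.eq_bot_of_card_eq L e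
        rw [this, Subgroup.mem_bot] at hx
        exact hx)
      have hle := Nat.le_of_dvd (by norm_num) hdvd
      interval_cases hn : Nat.card L <;> revert hdvd hL h1 <;> decide
    have hxo : orderOf x = 3 := by
      have h := orderOf_dvd_natCard (⟨x, hx⟩ : L)
      rw [Subgroup.orderOf_mk, hL3] at h
      exact (((Nat.dvd_prime Nat.prime_three).1 h).resolve_left fun e => hx1 (orderOf_eq_one_iff.1 e))
    have hLx : L = Subgroup.zpowers x := (Subgroup.eq_of_le_of_card_ge (Subgroup.zpowers_le.2 hx)
      (by rw [Nat.card_zpowers, hxo, hL3])).symm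
    have hcases : ∀ v : PSL₂, v * x * v⁻¹ = x ∨ v * x * v⁻¹ = x⁻¹ := by
      intro v
      have hm := hLn.conj_mem x hx v
      rw [hLx, Subgroup.mem_zpowers_iff] at hm
      obtain ⟨i, hi⟩ := hm
      rw [← zpow_mod_orderOf, hxo] at hi
      have h0 : 0 ≤ i % 3 := Int.emod_nonneg _ (by norm_num)
      have h3 : i % 3 < 3 := Int.emod_lt_of_pos _ (by norm_num)
      push_cast at hi
      interval_cases hj : i % 3
      · rw [zpow_zero] at hi
        exact absurd (conj_eq_one_iff.1 hi.symm) hx1
      · exact Or.inl (by simpa using hi.symm)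
      · refine Or.inr (hi.symm.trans ?_)
        rw [eq_inv_iff_mul_eq_one, zpow_two, mul_assoc, ← pow_three, ← hxo, pow_orderOf_eq_one]
    have hfix : ∃ u, (u = a ∨ u = b ∨ u = a * b) ∧ Commute u x := by
      rcases hcases a with e | e
      · exact ⟨a, Or.inl rfl, mul_inv_eq_iff_eq_mul.1 e⟩
      rcases hcases b with e' | e'
      · exact ⟨b, Or.inr (Or.inl rfl), mul_inv_eq_iff_eq_mul.1 e'⟩
      refine ⟨a * b, Or.inr (Or.inr rfl), mul_inv_eq_iff_eq_mul.1 ?_⟩
      rw [show a * b * x * (a * b)⁻¹ = a * (b * x * b⁻¹) * a⁻¹ by group, e',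
        show a * x⁻¹ * a⁻¹ = (a * x * a⁻¹)⁻¹ by group, e, inv_inv]
    obtain ⟨u, hu, hux⟩ := hfix
    have hu2 : orderOf u = 2 := by rcases hu with rfl | rfl | rfl <;> assumption
    have hux' : Commute (r⁻¹ * u * r) x := by
      have h1 : Commute u (r * x * r⁻¹) := by
        rcases hcases r with e | e <;> rw [e]
        exacts [hux, hux.inv_right]
      have := h1.map (MulAut.conj r⁻¹).toMonoidHom
      simpa [mul_assoc] using this
    have hu' : orderOf (r⁻¹ * u * r) = 2 := by
      refine Eq.trans ?_ hu2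
      simpa [mul_assoc] using
        orderOf_injective (MulAut.conj r⁻¹).toMonoidHom (MulAut.conj r⁻¹).injective u
    have h1 := (key hodd (by rw [hxo]; decide) hx1 hu2 hux).2 _ hu' hux'
    have hru : r * u * r⁻¹ = u := by
      conv_lhs => rw [← h1]
      group
    obtain ⟨-, ha1⟩ := orderOf_eq_prime_iff.1 ha
    obtain ⟨-, hb1⟩ := orderOf_eq_prime_iff.1 hb
    obtain ⟨hab2, hab1⟩ := orderOf_eq_prime_iff.1 hab
    rcases hu with rfl | rfl | rfl
    · rw [hra, mul_eq_left] at hru
      exact hb1 hru
    · rw [hrb] at hru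
      rw [hru, ← pow_two] at hab1
      exact hab1 (orderOf_eq_prime_iff.1 hb).1
    · rw [show r * (a * b) * r⁻¹ = r * a * r⁻¹ * (r * b * r⁻¹) by group, hra, hrb,
        mul_eq_left] at hru
      exact ha1 hru

end Cfsg.Agent.CoreConsumers.PSLInvol
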