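import Cfsg.Prelude.Def_Exceptional
import Cfsg.Agent.Lib.Local.CoreConsumers.Main
import Cfsg.Agent.Lib.Local.CoreConsumers.PSLInvolution
import Cfsg.Agent.Lib.Local.CoreConsumers.InvolutionFrame
import Cfsg.Agent.Lib.Classical.UnitMultThreeGen
import Cfsg.Agent.Lib.Classical.UnitCenter

/-!
# A centralizer `⟨t⟩ × E` with `PSL(2, q)` normal in `E` is maximal

In a simple group with abelian Sylow 2-subgroups, a proper subgroup properly containing such a
centralizer would be strongly embedded, which Bender's theorem excludes, or `t` would be isolated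
in it, and then Glauberman's Z*-theorem makes `t` central in it.
-/

set_option autoImplicit false
set_option linter.unusedSectionVars false
set_option linter.style.haveILetI false

namespace Cfsg.Agent.CoreConsumers.MaxCent

open Cfsg Subgroup

universe u w

variable {G : Type u} [Group G] [Finite G] {F : Type w} [Field F] [Fintype F]
  {t : G} {E : Subgroup G} (P : Frame F t E)
include P

local notation "PSL₂" => Matrix.ProjectiveSpecialLinearGroup (Fin 2) F

theorem mem_range_of_sq {y : G} (hy : Odd (orderOf y)) {R : Subgroup G} (h : y * y ∈ R) : y ∈ R := by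
  obtain ⟨k, hk⟩ := hy
  have : y = (y * y) ^ (k + 1) := by
    rw [← pow_two, ← pow_mul, show 2 * (k + 1) = (2 * k + 1) + 1 by ring, ← hk, pow_succ,
      pow_orderOf_eq_one, one_mul]
  rw [this]
  exact pow_mem h _

/-- No involution of `⟨t⟩ × V` other than `t` centralizes part of a normal odd subgroup of an
overgroup inverted by `t`. -/
theorem eq_one_of_commute (ht : orderOf t = 2) (hFo : Odd (Fintype.card F))
    (hconj : ∀ s ∈ (P.S : Subgroup G), orderOf s = 2 →
      ∃ m ∈ normalizer ((P.S : Subgroup G) : Set G), m * t * m⁻¹ = s)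
    {K : Subgroup G} (hK : Odd (Nat.card K))
    (hnorm : ∀ c, Commute c t → ∀ k ∈ K, c * k * c⁻¹ ∈ K)
    (hinv : ∀ k ∈ K, t * k * t⁻¹ = k⁻¹)
    {v : PSL₂} (hv : v = P.a ∨ v = P.b ∨ v = P.a * P.b) :
    ∀ k ∈ K, Commute (P.ι v) k → k = 1 := by
  classical
  haveI := Fact.mk Nat.prime_two
  have htt : t * t = 1 := by rw [← pow_two, ← ht, pow_orderOf_eq_one]
  have hvS : P.ι v ∈ (P.S : Subgroup G) := by
    rcases hv with rfl | rfl | rfl
    exacts [P.aS, P.bS, (map_mul P.ι _ _).symm ▸ mul_mem P.aS P.bS]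
  have hv2 : orderOf v = 2 := by
    rcases hv with rfl | rfl | rfl
    exacts [P.oa, P.ob, P.oab]
  obtain ⟨g, hg, hgt⟩ := hconj _ hvS ((P.orderOf_ι v).trans hv2)
  -- the involution playing the role of `t`
  set w := g⁻¹ * t * g with hw
  have hwS : w ∈ (P.S : Subgroup G) := (Subgroup.mem_normalizer_iff''.1 hg t).1 P.tS
  have hw2 : orderOf w = 2 := by
    refine Eq.trans ?_ ht
    simpa [hw, mul_assoc] using
      orderOf_injective (MulAut.conj g⁻¹).toMonoidHom (MulAut.conj g⁻¹).injective t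
  have hwt : w ≠ t := by
    intro e
    refine P.t_ne_ι v ?_
    rw [← hgt]
    conv_rhs => rw [← e, hw]
    group
  obtain ⟨v', hv', hwv⟩ : ∃ v', (v' = P.a ∨ v' = P.b ∨ v' = P.a * P.b) ∧ (w = P.ι v' ∨ w = t * P.ι v') := by
    obtain ⟨v', hv', h⟩ := P.decomp w hwS
    rcases hv' with rfl | hv'
    · rcases h with e | e
      · rw [e, map_one, orderOf_one] at hw2; omega
      · rw [e, map_one, mul_one] at hwt; exact absurd rfl hwt
    · exact ⟨v', hv', h⟩
  -- the pulled back subgroup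
  set Y : Subgroup G := (K ⊓ centralizer ({P.ι v} : Set G)).map (MulAut.conj g⁻¹).toMonoidHom with hY
  have hYodd : Odd (Nat.card Y) := by
    rw [hY, Subgroup.card_map_of_injective (f := (MulAut.conj g⁻¹).toMonoidHom) (MulAut.conj g⁻¹).injective]
    exact hK.of_dvd_nat (Subgroup.card_dvd_of_le inf_le_left)
  have hYmem : ∀ y, y ∈ Y ↔ g * y * g⁻¹ ∈ K ∧ Commute (g * y * g⁻¹) (P.ι v) := by
    intro y
    constructor
    · rintro ⟨k, hk, rfl⟩
      obtain ⟨hk1, hk2⟩ := Subgroup.mem_inf.1 hk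
      simpa [mul_assoc] using ⟨hk1, mem_centralizer_singleton_iff.1 hk2⟩
    · rintro ⟨h1, h2⟩
      exact ⟨_, Subgroup.mem_inf.2 ⟨h1, mem_centralizer_singleton_iff.2 h2⟩, by simp [mul_assoc]⟩
  have hYt : ∀ y ∈ Y, Commute y t := by
    intro y hy
    have h1 := ((hYmem y).1 hy).2
    rw [← hgt] at h1
    have h2 := h1.map (MulAut.conj g⁻¹).toMonoidHom
    simpa [mul_assoc] using h2
  have hYinvw : ∀ y ∈ Y, w * y * w⁻¹ = y⁻¹ := by
    intro y hy
    have h := hinv _ ((hYmem y).1 hy).1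
    calc w * y * w⁻¹ = g⁻¹ * (t * (g * y * g⁻¹) * t⁻¹) * g := by rw [hw]; group
      _ = y⁻¹ := by rw [h]; group
  have hYinv : ∀ y ∈ Y, P.ι v' * y * (P.ι v')⁻¹ = y⁻¹ := by
    intro y hy
    have h := hYinvw y hy
    rcases hwv with e | e
    · rwa [e] at h
    · have h1 : Commute (P.ι v' * y * (P.ι v')⁻¹) t :=
        ((P.tC _ (P.memE v')).mul_left (hYt y hy)).mul_left (P.tC _ (P.memE v')).inv_left
      rw [e, show t * P.ι v' * y * (t * P.ι v')⁻¹ = t * (P.ι v' * y * (P.ι v')⁻¹) * t⁻¹ by group,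
        h1.symm.eq, mul_inv_cancel_right] at h
      exact h
  have hYrange : ∀ y ∈ Y, y ∈ P.ι.range := by
    intro y hy
    have hyo : Odd (orderOf y) := PSLInvol.odd_orderOf_mem hYodd hy
    have hyE : y ∈ E := P.mem_of_odd htt hyo (hYt y hy)
    have h := hYinv y⁻¹ (inv_mem hy)
    rw [inv_inv] at h
    obtain ⟨z, hz⟩ := P.conjE y hyE v'
    refine mem_range_of_sq P hyo (R := P.ι.range) ?_
    rw [show y * y = y * (P.ι v' * y⁻¹ * (P.ι v')⁻¹) by rw [h],
      show y * (P.ι v' * y⁻¹ * (P.ι v')⁻¹) = y * P.ι v' * y⁻¹ * (P.ι v')⁻¹ by group, hz]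
    exact mul_mem ⟨z, rfl⟩ (inv_mem ⟨v', rfl⟩)
  set X : Subgroup PSL₂ := Y.comap P.ι with hX
  have hXodd : Odd (Nat.card X) := by
    rw [← Subgroup.card_map_of_injective (K := X) P.inj]
    exact hYodd.of_dvd_nat (Subgroup.card_dvd_of_le (Subgroup.map_comap_le _ _))
  have hXinv : ∀ x ∈ X, v' * x * v'⁻¹ = x⁻¹ := fun x hx =>
    P.inj (by rw [map_mul, map_mul, map_inv, map_inv]; exact hYinv _ hx)
  have hXnorm : ∀ c : PSL₂, Commute c v' → ∀ x ∈ X, c * x * c⁻¹ ∈ X := by
    intro c hc x hx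
    have hct : Commute (P.ι c) t := P.tC _ (P.memE c)
    have hcw : Commute (P.ι c) w := by
      rcases hwv with e | e <;> rw [e]
      exacts [hc.map P.ι, hct.mul_right (hc.map P.ι)]
    have h1 : Commute (g * P.ι c * g⁻¹) t := by
      have := hcw.map (MulAut.conj g).toMonoidHom
      simpa [hw, mul_assoc] using this
    have h2 : Commute (g * P.ι c * g⁻¹) (P.ι v) := by
      have := hct.map (MulAut.conj g).toMonoidHom
      simpa [hgt] using this
    obtain ⟨hx1, hx2⟩ := (hYmem _).1 hx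
    show P.ι (c * x * c⁻¹) ∈ Y
    rw [hYmem, show g * P.ι (c * x * c⁻¹) * g⁻¹ =
      g * P.ι c * g⁻¹ * (g * P.ι x * g⁻¹) * (g * P.ι c * g⁻¹)⁻¹ by simp [mul_assoc]]
    exact ⟨hnorm _ h1 _ hx1, (h2.mul_left hx2).mul_left h2.inv_left⟩
  -- the other two involutions of the four-group
  obtain ⟨u₁, u₂, hu₁, hu₂, hs₁, hs₂, hc₁, hc₂, hprod, hcv⟩ : ∃ u₁ u₂ : PSL₂,
      orderOf u₁ = 2 ∧ orderOf u₂ = 2 ∧ P.r * v' * P.r⁻¹ = u₁ ∧ P.r * u₁ * P.r⁻¹ = u₂ ∧
      (∀ c, Commute c v' → Commute c u₁ → c * c = 1) ∧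
      (∀ c, Commute c v' → Commute c u₂ → c * c = 1) ∧ u₁ * u₂ = v' ∧
      Commute u₁ v' ∧ Commute u₂ v' := by
    obtain ⟨ha2, -⟩ := orderOf_eq_prime_iff.1 P.oa
    obtain ⟨hb2, -⟩ := orderOf_eq_prime_iff.1 P.ob
    rw [pow_two] at ha2 hb2
    have hcab : ∀ c, Commute c P.a → Commute c (P.a * P.b) → Commute c P.b := by
      intro c h1 h2
      have h3 := h1.mul_right h2
      rwa [← mul_assoc, ha2, one_mul] at h3
    have hcba : ∀ c, Commute c P.b → Commute c (P.a * P.b) → Commute c P.a := by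
      intro c h1 h2
      have h3 := h2.mul_right h1
      rwa [mul_assoc, hb2, mul_one] at h3
    rcases hv' with rfl | rfl | rfl
    · exact ⟨P.a * P.b, P.b, P.oab, P.ob, P.ra, P.rab,
        fun c h1 h2 => P.cen c h1 (hcab c h1 h2), fun c h1 h2 => P.cen c h1 h2,
        by rw [mul_assoc, hb2, mul_one], (Commute.refl _).mul_left P.comm.symm, P.comm.symm⟩
    · exact ⟨P.a, P.a * P.b, P.oa, P.oab, P.rb, P.ra,
        fun c h1 h2 => P.cen c h2 h1, fun c h1 h2 => P.cen c (hcba c h1 h2) h1,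
        by rw [← mul_assoc, ha2, one_mul], P.comm, P.comm.mul_left (Commute.refl _)⟩
    · exact ⟨P.b, P.a, P.ob, P.oa, P.rab, P.rb,
        fun c h1 h2 => P.cen c (hcba c h2 h1) h2, fun c h1 h2 => P.cen c h2 (hcab c h2 h1),
        P.comm.symm.eq, P.comm.symm.mul_right (Commute.refl _), (Commute.refl _).mul_right P.comm⟩
  have hfix₁ : ∀ x ∈ X, Commute u₁ x → x = 1 := fun x hx hux =>
    PSLInvol.eq_one_of_inverted hFo hu₁ hs₁ hc₁ hXodd hXinv hXnorm hx hux
  have hfix₂ : ∀ x ∈ X, Commute u₂ x → x = 1 := fun x hx hux =>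
    PSLInvol.eq_one_of_inverted hFo hu₂ (s := P.r * P.r)
      (by rw [← hs₂, ← hs₁]; group) hc₂ hXodd hXinv hXnorm hx hux
  have inv_of : ∀ u : PSL₂, orderOf u = 2 → Commute u v' → (∀ x ∈ X, Commute u x → x = 1) →
      ∀ x ∈ X, u * x * u⁻¹ = x⁻¹ := fun u hu huv hfix =>
    Invol.PSp43.inv_of_fpf ((pow_two u).symm.trans (orderOf_eq_prime_iff.1 hu).1) (hXnorm u huv)
      (fun x hx e => hfix x hx (mul_inv_eq_iff_eq_mul.1 e))
  have hXtriv : ∀ x ∈ X, x = 1 := by
    intro x hx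
    have h1 := hXinv x hx
    rw [← hprod, show u₁ * u₂ * x * (u₁ * u₂)⁻¹ = u₁ * (u₂ * x * u₂⁻¹) * u₁⁻¹ by group,
      inv_of u₂ hu₂ hcv.2 hfix₂ x hx, inv_of u₁ hu₁ hcv.1 hfix₁ _ (inv_mem hx), inv_inv] at h1
    exact PSLInvol.eq_one_of_sq (PSLInvol.odd_orderOf_mem hXodd hx) (mul_eq_one_iff_eq_inv.2 h1)
  intro k hk hvk
  have hy : g⁻¹ * k * g ∈ Y := by
    rw [hYmem, show g * (g⁻¹ * k * g) * g⁻¹ = k by group]
    exact ⟨hk, hvk.symm⟩
  obtain ⟨x, hx⟩ := hYrange _ hy
  have h1 := hXtriv x (show P.ι x ∈ Y from hx ▸ hy)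
  rw [h1, map_one] at hx
  calc k = g * (g⁻¹ * k * g) * g⁻¹ := by group
    _ = 1 := by rw [← hx]; group

omit P in
/-- Bender's conclusion is incompatible with the data. -/
theorem not_bender (P : Frame F t E) (ht : orderOf t = 2)
    (h : (∃ (K : Type) (_ : Field K) (_ : Fintype K), CharP K 2 ∧ 4 ≤ Fintype.card K ∧
        Nonempty (G ≃* Matrix.ProjectiveSpecialLinearGroup (Fin 2) K)) ∨ IsSuzuki G ∨
      (∃ (K : Type) (_ : Field K) (_ : Fintype K) (q : ℕ), Fintype.card K = q ^ 2 ∧ Even q ∧ 4 ≤ q ∧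
        Nonempty (G ≃* PSU 3 K q))) : False := by
  classical
  haveI := Fact.mk Nat.prime_two
  have hS8 : Nat.card (P.S : Subgroup G) ≤ 8 := by
    let A : Finset G := ({1, P.a, P.b, P.a * P.b} : Finset _).image P.ι
    let B : Finset G := A ∪ A.image (t * ·)
    have hB : ∀ s : (P.S : Subgroup G), (s : G) ∈ B := by
      intro s
      obtain ⟨v, hv, h⟩ := P.decomp _ s.2
      have hvA : P.ι v ∈ A := Finset.mem_image_of_mem _ (by simpa using hv)
      rcases h with e | e <;> rw [e]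
      exacts [Finset.mem_union_left _ hvA,
        Finset.mem_union_right _ (Finset.mem_image_of_mem _ hvA)]
    calc Nat.card (P.S : Subgroup G) ≤ Nat.card B :=
          Nat.card_le_card_of_injective (fun s => (⟨(s : G), hB s⟩ : B))
            fun p q e => Subtype.ext (congrArg (fun b : B => (b : G)) e :)
      _ = B.card := by rw [Nat.card_eq_fintype_card, Fintype.card_coe]
      _ ≤ A.card + A.card := (Finset.card_union_le _ _).trans
          (Nat.add_le_add_left Finset.card_image_le _)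
      _ ≤ 8 := by
          have h4 : A.card ≤ 4 := Finset.card_image_le.trans Finset.card_le_four
          omega
  have hpow : ∀ n : ℕ, 2 ^ n ∣ Nat.card G → 2 ^ n ≤ 8 := fun n hn => by
    refine le_trans ?_ hS8
    rw [Sylow.card_eq_multiplicity]
    exact Nat.pow_le_pow_right two_pos
      ((Nat.prime_two.pow_dvd_iff_le_factorization Nat.card_pos.ne').1 hn)
  rcases h with ⟨K, i1, i2, hc, h4, ⟨e⟩⟩ | hSz | ⟨K, i1, i2, q, hK, hq, h4, ⟨e⟩⟩
  · obtain ⟨-, ha1⟩ := orderOf_eq_prime_iff.1 (show orderOf (e t) = 2 by rw [MulEquiv.orderOf_eq]; exact ht)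
    have hap : (e t) ^ 2 = 1 := by
      rw [← map_pow, (orderOf_eq_prime_iff.1 ht).1, map_one]
    let D := Dickson.pslData (F := K) 2
    have hmem : ∀ c, Commute c t → e c ∈ D.T (e t) := fun c hc =>
      D.uni_cent ha1 hap (hc.map e)
    have hcomm := (D.comm ha1 (hmem _ (P.tC _ (P.memE P.r))) (hmem _ (P.tC _ (P.memE P.a))))
    have h1 := hcomm.map e.symm
    simp only [MulEquiv.symm_apply_apply] at h1
    have h2 : P.r * P.a * P.r⁻¹ = P.a :=
      P.inj (by rw [map_mul, map_mul, map_inv, h1.eq, mul_inv_cancel_right])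
    rw [P.ra, mul_eq_left] at h2
    exact (orderOf_eq_prime_iff.1 P.ob).2 h2
  · obtain ⟨-, m, hm, hcard⟩ := hSz
    have h := hpow (2 * (2 * m + 1)) (by
      rw [hcard, pow_mul', mul_assoc]; exact dvd_mul_right _ _)
    have : 2 ^ 6 ≤ 2 ^ (2 * (2 * m + 1)) := Nat.pow_le_pow_right two_pos (by omega)
    omega
  · obtain ⟨p, hc⟩ := CharP.exists K
    haveI : Fact p.Prime := ⟨CharP.char_is_prime K p⟩
    obtain rfl : p = 2 := Dickson.p_eq_two p (by rw [hK]; exact hq.pow_of_ne_zero two_ne_zero)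
    obtain ⟨k, hk⟩ := FiniteField.card K 2
    obtain ⟨j, -, hj⟩ := (Nat.dvd_prime_pow Nat.prime_two).1
      (show q ∣ 2 ^ (k : ℕ) from hk.2 ▸ hK ▸ dvd_pow_self q two_ne_zero)
    have hdvd : q ^ 3 ∣ Nat.card G := by
      rw [Nat.card_congr e.toEquiv]
      have hSU : q ^ 3 ∣ Nat.card (SU 3 K q) := by
        rw [Classical.UnitMult.natCard_SU3 hK, mul_assoc]
        exact dvd_mul_right _ _
      rw [Subgroup.card_eq_card_quotient_mul_card_subgroup (Subgroup.center (SU 3 K q))] at hSU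
      refine Nat.Coprime.dvd_of_dvd_mul_right ?_ hSU
      rw [Classical.natCard_center_SU hK (by norm_num)]
      refine Nat.Coprime.coprime_dvd_right (Nat.gcd_dvd_right _ _) ?_
      exact (Nat.coprime_self_add_right.2 (Nat.coprime_one_right q)).pow_left 3
    rw [hj, ← pow_mul] at hdvd
    have h := hpow _ hdvd
    have : 2 ^ 6 ≤ 2 ^ (j * 3) := by
      refine Nat.pow_le_pow_right two_pos ?_
      rcases j with _ | _ | j
      · simp [hj] at h4
      · simp [hj] at h4
      · omega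
    omega

end Cfsg.Agent.CoreConsumers.MaxCent

namespace Cfsg.Agent.CoreConsumers

open Cfsg Subgroup

universe u

/-- The centralizer is maximal, given Bender's theorem for the group. -/
theorem s1245_of {G : Type u} [Group G] [Finite G] [IsSimpleGroup G] (hna : ¬ IsMulCommutative G)
    (S₁ : Sylow 2 G) (hS₁ : IsMulCommutative (S₁ : Subgroup G)) (t : G) (ht : orderOf t = 2)
    (E E₀ : Subgroup G)
    (hprod : Cfsg.IsInternalDirectProduct (zpowers t) E (centralizer ({t} : Set G)))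
    (hE₀E : E₀ ≤ E) (hE₀n : (E₀.subgroupOf E).Normal)
    (hE₀ : ∃ (F : Type) (_ : Field F) (_ : Fintype F), Odd (Fintype.card F) ∧
      Nonempty (E₀ ≃* Matrix.ProjectiveSpecialLinearGroup (Fin 2) F))
    (hCE : E ⊓ centralizer (E₀ : Set G) = ⊥)
    (hB : ∀ M : Subgroup G, IsStronglyEmbedded M →
      (∃ (F : Type) (_ : Field F) (_ : Fintype F), CharP F 2 ∧ 4 ≤ Fintype.card F ∧
        Nonempty (G ≃* Matrix.ProjectiveSpecialLinearGroup (Fin 2) F)) ∨ IsSuzuki G ∨
      (∃ (F : Type) (_ : Field F) (_ : Fintype F) (q : ℕ), Fintype.card F = q ^ 2 ∧ Even q ∧ 4 ≤ q ∧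
        Nonempty (G ≃* PSU 3 F q))) :
    IsCoatom (centralizer ({t} : Set G)) := by
  classical
  haveI := Fact.mk Nat.prime_two
  obtain ⟨F, i1, i2, hFo, ⟨e⟩⟩ := hE₀
  have hab : ∀ S : Sylow 2 G, IsMulCommutative ↥(S : Subgroup G) := fun S => by
    obtain ⟨g, rfl⟩ := MulAction.exists_smul_eq G S₁ S
    rw [Sylow.coe_subgroup_smul]
    exact Subgroup.map_isMulCommutative _ _
  obtain ⟨P⟩ := MaxCent.exists_frame hab ht hprod hFo hE₀E hE₀n e hCE
  have ht1 : t ≠ 1 := fun h => by rw [h, orderOf_one] at ht; omega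
  refine ⟨fun htop => ?_, fun M hM => ?_⟩
  · have htc : t ∈ center G := mem_center_iff.2 fun g =>
      (mem_centralizer_singleton_iff.1 (htop ▸ mem_top g : g ∈ centralizer ({t} : Set G)))
    have hc := ((inferInstance : (center G).Normal).eq_bot_or_eq_top).resolve_left
      fun h => ht1 (mem_bot.1 (h ▸ htc))
    exact hna ⟨⟨fun p q => mem_center_iff.1 (hc ▸ mem_top q) p⟩⟩
  by_contra hMtop
  have hCM : ∀ c, Commute c t → c ∈ M := fun c hc => hM.le (mem_centralizer_singleton_iff.2 hc)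
  have htM : t ∈ M := hCM t (Commute.refl t)
  have hSM : (P.S : Subgroup G) ≤ M := fun s hs => hCM s (P.scomm s hs t P.tS)
  have hconj := P.conj_top hna ht
  by_cases hiso : ∀ m ∈ M, m * t * m⁻¹ ∈ (P.S : Subgroup G) → m * t * m⁻¹ = t
  · -- `t` is isolated in `M`
    obtain ⟨N, hN, hNodd, hNcomm⟩ := ZStar.exists_odd_normal (G := M) (t := ⟨t, htM⟩)
      (ZStar.isIsolated_of_sylow (P := P.S.subtype hSM) P.tS (by rw [orderOf_mk]; exact ht)
        fun g hg => Subtype.ext (hiso g g.2 hg))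
    haveI := hN
    set K : Subgroup G := N.map M.subtype with hKdef
    have hKodd : Odd (Nat.card K) := by
      rw [hKdef, card_map_of_injective M.subtype_injective]; exact hNodd
    have hKn : ∀ m ∈ M, ∀ k ∈ K, m * k * m⁻¹ ∈ K := by
      rintro m hm _ ⟨k, hk, rfl⟩
      exact ⟨_, hN.conj_mem k hk ⟨m, hm⟩, rfl⟩
    -- `t` is fixed-point-free on `K`
    have hfix : ∀ k ∈ K, t * k * t⁻¹ = k → k = 1 := by
      intro k hk hkt
      have hkt' : Commute k t := (mul_inv_eq_iff_eq_mul.1 hkt).symm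
      have htt : t * t = 1 := by rw [← pow_two, ← ht, pow_orderOf_eq_one]
      have hkE := P.mem_of_odd htt (PSLInvol.odd_orderOf_mem hKodd hk) hkt'
      set L : Subgroup (Matrix.ProjectiveSpecialLinearGroup (Fin 2) F) :=
        (K ⊓ centralizer ({t} : Set G)).comap P.ι with hL
      haveI : L.Normal := ⟨fun x hx z => by
        rw [hL, mem_comap, map_mul, map_mul, map_inv]
        have hz := P.tC _ (P.memE z)
        obtain ⟨h1, h2⟩ := mem_inf.1 (mem_comap.1 hx)
        exact mem_inf.2 ⟨hKn _ (hCM _ hz) _ h1, mul_mem (mul_mem (mem_centralizer_singleton_iff.2 hz) h2)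
          (inv_mem (mem_centralizer_singleton_iff.2 hz))⟩⟩
      have hLb : L = ⊥ := PSLInvol.eq_bot_of_normal_odd hFo P.oa P.ob P.oab P.ra P.rb (by
        rw [← card_map_of_injective (K := L) P.inj]
        exact hKodd.of_dvd_nat (card_dvd_of_le ((map_comap_le _ _).trans inf_le_left)))
      refine P.cent k hkE fun z => ?_
      obtain ⟨z', hz'⟩ := P.conjE k hkE z
      have hmem : z' * z⁻¹ ∈ L := by
        rw [hL, mem_comap, map_mul, map_inv, ← hz']
        refine mem_inf.2 ⟨?_, mem_centralizer_singleton_iff.2 ((((hkt'.mul_left (P.tC _ (P.memE z))).mul_left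
          hkt'.inv_left)).mul_left (P.tC _ (P.memE z)).inv_left)⟩
        rw [show k * P.ι z * k⁻¹ * (P.ι z)⁻¹ = k * (P.ι z * k⁻¹ * (P.ι z)⁻¹) by group]
        exact mul_mem hk (hKn _ (hCM _ (P.tC _ (P.memE z))) _ (inv_mem hk))
      rw [hLb, mem_bot, mul_inv_eq_one] at hmem
      rw [hmem] at hz'
      exact mul_inv_eq_iff_eq_mul.1 hz'
    have hinv := Invol.PSp43.inv_of_fpf (show t * t = 1 by rw [← pow_two, ← ht, pow_orderOf_eq_one])
      (hKn t htM) hfix
    have hnorm : ∀ c, Commute c t → ∀ k ∈ K, c * k * c⁻¹ ∈ K := fun c hc => hKn c (hCM c hc)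
    have hvinv : ∀ v, (v = P.a ∨ v = P.b ∨ v = P.a * P.b) →
        ∀ k ∈ K, P.ι v * k * (P.ι v)⁻¹ = k⁻¹ := fun v hv => by
      refine Invol.PSp43.inv_of_fpf ?_ (hnorm _ (P.tC _ (P.memE v)))
        fun k hk e => MaxCent.eq_one_of_commute P ht hFo hconj hKodd hnorm hinv hv k hk
          (mul_inv_eq_iff_eq_mul.1 e)
      have hv2 : orderOf (P.ι v) = 2 := by
        rw [P.orderOf_ι]; rcases hv with rfl | rfl | rfl
        exacts [P.oa, P.ob, P.oab]
      exact (pow_two _).symm.trans (orderOf_eq_prime_iff.1 hv2).1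
    have hK1 : ∀ k ∈ K, k = 1 := by
      intro k hk
      have h1 := hvinv _ (Or.inr (Or.inr rfl)) k hk
      rw [map_mul, show P.ι P.a * P.ι P.b * k * (P.ι P.a * P.ι P.b)⁻¹ =
        P.ι P.a * (P.ι P.b * k * (P.ι P.b)⁻¹) * (P.ι P.a)⁻¹ by group, hvinv _ (Or.inr (Or.inl rfl)) k hk,
        hvinv _ (Or.inl rfl) _ (inv_mem hk), inv_inv] at h1
      exact PSLInvol.eq_one_of_sq (PSLInvol.odd_orderOf_mem hKodd hk) (mul_eq_one_iff_eq_inv.2 h1)
    refine hM.not_ge fun m hm => mem_centralizer_singleton_iff.2 ?_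
    have h1 := hK1 (t * m * t⁻¹ * m⁻¹) ⟨_, hNcomm ⟨m, hm⟩, rfl⟩
    rw [mul_inv_eq_one, mul_inv_eq_iff_eq_mul] at h1
    exact h1.symm
  · -- `M` is strongly embedded
    push_neg at hiso
    obtain ⟨n, hn, hnS, hnt⟩ := hiso
    have hall := P.all_conj ht hCM ⟨n, hn, hnS, hnt⟩
    refine MaxCent.not_bender P ht (hB M (isStronglyEmbedded_of_centralizers hMtop P.S ?_ ?_ ?_))
    · intro g hg
      obtain ⟨m, hm, -, he⟩ := hall _ ((mem_normalizer_iff.1 hg t).1 P.tS)
        ((orderOf_injective (MulAut.conj g).toMonoidHom (MulAut.conj g).injective t).trans ht)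
      have h1 : Commute (m⁻¹ * g) t := by
        show m⁻¹ * g * t = t * (m⁻¹ * g)
        calc m⁻¹ * g * t = m⁻¹ * (g * t * g⁻¹) * g := by group
          _ = m⁻¹ * (m * t * m⁻¹) * g := by rw [he]
          _ = _ := by group
      simpa using M.mul_mem hm (hCM _ h1)
    · exact fun h => ht1 (mem_bot.1 (h ▸ P.tS))
    · intro s hs hs2 c hc
      obtain ⟨m, hm, -, he⟩ := hall s hs hs2
      have hc' := (mem_centralizer_singleton_iff.1 hc : c * s = s * c)
      have h1 : Commute (m⁻¹ * c * m) t := by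
        rw [show t = m⁻¹ * s * m by rw [← he]; group]
        show m⁻¹ * c * m * (m⁻¹ * s * m) = m⁻¹ * s * m * (m⁻¹ * c * m)
        calc _ = m⁻¹ * (c * s) * m := by group
          _ = m⁻¹ * (s * c) * m := by rw [hc']
          _ = _ := by group
      have h2 := M.mul_mem (M.mul_mem hm (hCM _ h1)) (M.inv_mem hm)
      simpa [mul_assoc] using h2

end Cfsg.Agent.CoreConsumers
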