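import Cfsg.Agent.Lib.Local.CoreConsumers.BorelMaximal
import Cfsg.Agent.Lib.Invol.SPEmbedded
import Cfsg.Agent.Lib.Grp.Signalizer
import Cfsg.Agent.Lib.Grp.PComponents
import Cfsg.Prelude.Def_Amalgam

/-!
# Strongly embedded subgroups are solvable in 2-rank at least 2

Given the structure theorem for groups with a strongly embedded subgroup and the solvability of
groups of odd order, a strongly embedded subgroup of a group of 2-rank at least 2 is solvable.
-/

set_option autoImplicit false
set_option linter.style.haveILetI false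

namespace Cfsg.Agent.CoreConsumers

open Cfsg Subgroup

universe u

variable {G : Type u} [Group G] [Finite G]

/-- A finite group with a normal Sylow 2-subgroup is solvable if groups of odd order are. -/
theorem isSolvable_of_normal_sylow
    (hFT : ∀ (K : Type u) [Group K] [Finite K], Odd (Nat.card K) → Group.IsSolvable K)
    {K : Type u} [Group K] [Finite K] (S : Sylow 2 K) (hn : (S : Subgroup K).Normal) :
    Group.IsSolvable K := by
  haveI : Fact (Nat.Prime 2) := ⟨Nat.prime_two⟩
  haveI := hn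
  haveI : Group.IsNilpotent ↥(S : Subgroup K) := S.isPGroup'.isNilpotent
  haveI : Group.IsSolvable ↥(S : Subgroup K) := inferInstance
  haveI : Group.IsSolvable (K ⧸ (S : Subgroup K)) := hFT _ (by
    rw [← Subgroup.index_eq_card, Nat.odd_iff]
    have := S.not_dvd_index
    omega)
  exact solvable_of_ker_le_range (S : Subgroup K).subtype (QuotientGroup.mk' (S : Subgroup K))
    (by rw [QuotientGroup.ker_mk', Subgroup.range_subtype])

/-- A strongly embedded subgroup is solvable. -/
theorem s2903_of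
    (hFT : ∀ (K : Type u) [Group K] [Finite K], Odd (Nat.card K) → Group.IsSolvable K)
    (hrank : PRankAtLeast 2 2 G) (H : Subgroup G) (hH : IsStronglyPEmbedded 2 H)
    (hB : (∀ t : G, orderOf t = 2 → pPrimeCore 2 G ⊔ Subgroup.centralizer ({t} : Set G) = ⊤ ∧
        ∀ u ∈ Subgroup.centralizer ({t} : Set G), orderOf u = 2 → u = t) ∨
      (∃ (F : Type) (_ : Field F) (_ : Fintype F), CharP F 2 ∧ 4 ≤ Fintype.card F ∧
        Nonempty (↥(pElementClosure 2 (⊤ : Subgroup (G ⧸ pPrimeCore 2 G))) ≃*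
          Matrix.SpecialLinearGroup (Fin 2) F)) ∨
      (∃ (F : Type) (_ : Field F) (_ : Fintype F) (q : ℕ), Even q ∧ 4 ≤ q ∧
        Fintype.card F = q ^ 2 ∧
        Nonempty (↥(pElementClosure 2 (⊤ : Subgroup (G ⧸ pPrimeCore 2 G))) ≃* PSU 3 F q)) ∨
      Lie.IsoSuzuki ↥(pElementClosure 2 (⊤ : Subgroup (G ⧸ pPrimeCore 2 G)))) :
    Group.IsSolvable ↥H := by
  classical
  haveI : Fact (Nat.Prime 2) := ⟨Nat.prime_two⟩
  obtain ⟨A, hAc, hA2, hAcard⟩ := hrank
  have hAe : Cfsg.IsElementaryAbelian 2 A := ⟨hAc, hA2⟩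
  have hA4 : 4 ≤ Nat.card A := hAcard
  -- two commuting involutions
  have hbm : BorelMax ↥(pElementClosure 2 (⊤ : Subgroup (G ⧸ pPrimeCore 2 G))) := by
    rcases hB with h | ⟨F, i1, i2, hc, h4, ⟨e⟩⟩ | ⟨F, i1, i2, q, hq, h4, hF, ⟨e⟩⟩ | h
    · exfalso
      have h2 : ∀ x : A, x ≠ 1 → orderOf (x : G) = 2 := fun x hx =>
        orderOf_eq_prime (hA2 _ x.2) fun e => hx (Subtype.ext e)
      haveI : Nontrivial A := Finite.one_lt_card_iff_nontrivial.1 (by omega)
      obtain ⟨a, ha⟩ := exists_ne (1 : A)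
      have hsub : ∀ x : A, x ≠ 1 → x = a := fun x hx =>
        Subtype.ext ((h a (h2 a ha)).2 _ (mem_centralizer_singleton_iff.2
          (congrArg Subtype.val (hAc.is_comm.comm x a))) (h2 x hx))
      have hle : Nat.card A ≤ 2 := by
        haveI := Fintype.ofFinite A
        rw [Nat.card_eq_fintype_card]
        refine (Finset.card_le_card (s := Finset.univ) (t := {1, a}) fun x _ => ?_).trans
          Finset.card_le_two
        by_cases hx : x = 1
        · simp [hx]
        · simp [hsub x hx]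
      omega
    · exact (borelMax_sl (by
        obtain ⟨k, hk⟩ := FiniteField.card F 2
        rw [hk.2]
        exact Nat.even_pow.2 ⟨even_two, k.pos.ne'⟩) h4).congr e
    · exact (borelMax_psu hF hq h4).congr e
    · exact borelMax_suzuki h
  obtain ⟨hev, hne, P, hP⟩ := hH
  set O := pPrimeCore 2 G with hOdef
  haveI : O.Normal := Grp.pPrimeCore_isNormal
  -- normalizers of nontrivial subgroups of `P` lie in `H`
  have hN : ∀ Q : Subgroup G, Q ≤ (P : Subgroup G) → Q ≠ ⊥ →
      normalizer (Q : Set G) ≤ H := fun Q hQ hQ1 =>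
    Fus.normalizer_le_of_kGeneratedCore P.isPGroup' hP hQ hQ1
  -- a conjugate of `A` inside `P`
  obtain ⟨S, hS⟩ := (Grp.elemAb_isPGroup hAe).exists_le_sylow
  obtain ⟨g, hg⟩ := MulAction.exists_smul_eq G S P
  have hA' : A.map (MulAut.conj g).toMonoidHom ≤ (P : Subgroup G) := by
    rw [← hg, Sylow.coe_subgroup_smul]
    exact Subgroup.map_mono hS
  have hA'e : Cfsg.IsElementaryAbelian 2 (A.map (MulAut.conj g).toMonoidHom) := by
    refine ⟨Subgroup.map_isMulCommutative _ _, ?_⟩
    rintro _ ⟨a, ha, rfl⟩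
    rw [← map_pow, hA2 a ha, map_one]
  have hA'4 : 2 ^ 2 ≤ Nat.card ↥(A.map (MulAut.conj g).toMonoidHom) := by
    show 2 ^ 2 ≤ Nat.card ↥(A.map (MulAut.conj g).toMonoidHom)
    rw [Subgroup.card_map_of_injective (f := (MulAut.conj g).toMonoidHom) (MulAut.conj g).injective]
    exact hAcard
  have hOcop : (Nat.card O).Coprime 2 := Grp.pPrimeCore_coprime
  have hOH : O ≤ H := by
    refine Grp.le_of_hyperplanes hA'e (fun h => ?_) O ?_ ?_ fun D hD hidx => ?_
    · rw [h, Subgroup.card_bot] at hA'4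
      omega
    · rw [← Nat.prime_two.coprime_iff_not_dvd, Nat.coprime_comm]
      exact hOcop
    · rw [Subgroup.normalizer_eq_top]; exact le_top
    · exact inf_le_right.trans ((centralizer_le_normalizer _).trans
        (hN D (hD.trans hA') (Grp.ne_bot_of_relIndex hA'4 hidx)))
  set π := QuotientGroup.mk' O with hπ
  have hπs : Function.Surjective π := QuotientGroup.mk'_surjective O
  set L := pElementClosure 2 (⊤ : Subgroup (G ⧸ O)) with hL
  set Pb : Sylow 2 (G ⧸ O) := P.mapSurjective hπs with hPb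
  have hPbL : (Pb : Subgroup (G ⧸ O)) ≤ L := by
    intro x hx
    obtain ⟨k, hk⟩ := Pb.isPGroup' ⟨x, hx⟩
    obtain ⟨j, -, hj⟩ := (Nat.dvd_prime_pow Nat.prime_two).1
      (orderOf_dvd_of_pow_eq_one (x := x) (by simpa using congrArg Subtype.val hk))
    exact Subgroup.subset_closure ⟨mem_top _, j, hj⟩
  haveI hLn : L.Normal := by
    refine ⟨fun n hn y => ?_⟩
    suffices h : L.map (MulAut.conj y).toMonoidHom ≤ L from h ⟨n, hn, rfl⟩
    rw [hL, pElementClosure, MonoidHom.map_closure, Subgroup.closure_le]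
    rintro _ ⟨x, ⟨-, k, hk⟩, rfl⟩
    refine Subgroup.subset_closure ⟨mem_top _, k, ?_⟩
    rw [← hk]
    exact orderOf_injective (MulAut.conj y).toMonoidHom (MulAut.conj y).injective x
  have hPP : IsPGroup 2 ↥(P : Subgroup G) := P.isPGroup'
  have hNb : normalizer ((Pb : Subgroup (G ⧸ O)) : Set (G ⧸ O)) ≤ H.map π := by
    rw [hPb, Sylow.coe_mapSurjective, hπ, ← Grp.map_normalizer_pGroup hPP]
    exact Subgroup.map_mono (hN _ le_rfl (P.ne_bot_of_dvd_card hev))
  have hcomap : (H.map π).comap π = H :=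
    Subgroup.comap_map_eq_self (by rw [hπ, QuotientGroup.ker_mk']; exact hOH)
  set X : Subgroup ↥L := (H.map π).subgroupOf L with hX
  have hXtop : X ≠ ⊤ := by
    intro h
    have hle : L ≤ H.map π := Subgroup.subgroupOf_eq_top.1 h
    have hF := Sylow.normalizer_sup_eq_top' Pb hPbL
    have htop : H.map π = ⊤ := top_le_iff.1 (hF.ge.trans (sup_le hNb hle))
    exact hne (by rw [← hcomap, htop, Subgroup.comap_top])
  have hXN := hbm (Pb.subtype hPbL) X hXtop (fun x hx => Subgroup.mem_subgroupOf.2 (hNb (by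
    refine Subgroup.mem_normalizer_iff.2 fun y => ⟨fun hy => ?_, fun hy => ?_⟩
    · exact (Subgroup.mem_normalizer_iff.1 hx ⟨y, hPbL hy⟩).1 hy
    · have hyL : y ∈ L := by
        have h := mul_mem (mul_mem (inv_mem x.2) (hPbL hy)) x.2
        simpa [mul_assoc] using h
      exact (Subgroup.mem_normalizer_iff.1 hx ⟨y, hyL⟩).2 hy)))
  haveI hXsol : Group.IsSolvable ↥X := by
    rw [hXN]
    refine isSolvable_of_normal_sylow hFT ((Pb.subtype hPbL).subtype le_normalizer) ?_
    exact Subgroup.normal_in_normalizer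
  -- the quotient by `L` has odd order
  have hodd : Odd (Nat.card ((G ⧸ O) ⧸ L)) := by
    rw [← Subgroup.index_eq_card, ← Nat.not_even_iff_odd, even_iff_two_dvd]
    exact fun h => Pb.not_dvd_index (h.trans (Subgroup.index_dvd_of_le hPbL))
  haveI : Group.IsSolvable ((G ⧸ O) ⧸ L) := hFT _ hodd
  haveI hHb : Group.IsSolvable ↥(H.map π) := by
    refine solvable_of_ker_le_range
      (G' := ↥X) ((((Subgroup.subtype L).comp X.subtype).codRestrict (H.map π) fun x => x.2))
      ((QuotientGroup.mk' L).comp (H.map π).subtype) ?_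
    intro y hy
    have hyL : (y : G ⧸ O) ∈ L := (QuotientGroup.eq_one_iff _).1 hy
    exact ⟨⟨⟨y, hyL⟩, y.2⟩, Subtype.ext rfl⟩
  haveI : Group.IsSolvable ↥O := hFT _ (Nat.coprime_two_right.1 hOcop)
  refine solvable_of_ker_le_range (Subgroup.inclusion hOH)
    ((π.comp H.subtype).codRestrict (H.map π) fun x => ⟨x, x.2, rfl⟩) ?_
  intro y hy
  exact ⟨⟨y, (QuotientGroup.eq_one_iff _).1 (congrArg Subtype.val hy)⟩, Subtype.ext rfl⟩

end Cfsg.Agent.CoreConsumers
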