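import Cfsg.Agent.Lib.Invol.ConstrainedCoreClosure
import Cfsg.Agent.Lib.Transfer.Local.Normed
import Cfsg.Agent.Lib.Grp.Cores
import Cfsg.Agent.Lib.Grp.Zassenhaus.CoreFree
import Cfsg.Agent.Lib.Block.SharplySolvable

/-!
# Two-constrained groups with an elementary subgroup of order eight

Such a group is generated by its core and the normalizer of a 2-subgroup of 2-rank at least 2 of
a given Sylow 2-subgroup.
-/

set_option autoImplicit false
set_option linter.style.haveILetI false

namespace Cfsg.Agent.CoreConsumers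

open Cfsg Subgroup

universe u

variable {X : Type u} [Group X] [Finite X]

/-- Commuting involutions of a group of 2-rank at most one are equal. -/
theorem eq_of_rank_one (h : Cfsg.PRankLE 2 1 X) {a b : X} (ha : orderOf a = 2)
    (hb : orderOf b = 2) (hab : Commute a b) : a = b := by
  haveI : Fact (Nat.Prime 2) := ⟨Nat.prime_two⟩
  obtain ⟨ha2, ha1⟩ := orderOf_eq_prime_iff.1 ha
  obtain ⟨hb2, hb1⟩ := orderOf_eq_prime_iff.1 hb
  by_contra hne
  have hbz : b ∉ zpowers a := by
    intro hm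
    obtain ⟨i, hi⟩ := mem_zpowers_iff.1 hm
    rcases Int.even_or_odd i with ⟨j, rfl⟩ | ⟨j, rfl⟩
    · rw [← two_mul, _root_.zpow_mul, zpow_two, ← pow_two, ha2, one_zpow] at hi
      exact hb1 hi.symm
    · rw [zpow_add_one, _root_.zpow_mul, zpow_two, ← pow_two, ha2, one_zpow, one_mul] at hi
      exact hne hi
  have hF := ConstrainedCores.elemAb_sup (ConstrainedCores.elemAb_zpowers ha2)
    (ConstrainedCores.elemAb_zpowers hb2) fun x hx y hy => by
      obtain ⟨i, rfl⟩ := mem_zpowers_iff.1 hx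
      obtain ⟨j, rfl⟩ := mem_zpowers_iff.1 hy
      exact hab.zpow_zpow i j
  have h4 := ConstrainedCores.four_le_card_sup ha2 hb2 hab ha1 hbz
  have h2 := h _ hF.1 hF.2
  omega

/-- A 2-constrained group containing an elementary subgroup of order 8 is the product of its core
and the normalizer of a subgroup of rank at least 2 of a given Sylow subgroup. -/
theorem exists_rank_two_normalizer (hX : Cfsg.IsPConstrained 2 X) (T : Sylow 2 X) (F : Subgroup X)
    (hF : Cfsg.IsElementaryAbelian 2 F) (hFT : F ≤ (T : Subgroup X)) (h8 : 8 ≤ Nat.card F) :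
    ∃ R : Subgroup X, R ≤ (T : Subgroup X) ∧ ¬ Cfsg.PRankLE 2 1 R ∧
      normalizer (R : Set X) ⊔ Cfsg.pPrimeCore 2 X = ⊤ := by
  haveI : Fact (Nat.Prime 2) := ⟨Nat.prime_two⟩
  haveI hOn : (Cfsg.pPrimeCore 2 X).Normal := Grp.pPrimeCore_isNormal
  haveI : (Cfsg.pCore 2 (X ⧸ Cfsg.pPrimeCore 2 X)).Normal := Grp.pCore_isNormal
  haveI hYn : (Cfsg.pPrimePCore 2 X).Normal := Subgroup.Normal.comap inferInstance _
  set O := Cfsg.pPrimeCore 2 X with hO
  set Y := Cfsg.pPrimePCore 2 X with hY
  set f := QuotientGroup.mk' O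
  set B := Cfsg.pCore 2 (X ⧸ O) with hB
  haveI : B.Normal := Grp.pCore_isNormal
  set R := Y ⊓ (T : Subgroup X) with hR
  have hOY : O ≤ Y := fun x hx => mem_comap.2 (by
    rw [show f x = 1 from (QuotientGroup.eq_one_iff x).2 hx]; exact one_mem _)
  have hYR : R ⊔ O = Y := by
    refine le_antisymm (sup_le inf_le_left hOY) fun y hy => ?_
    have hyB : f y ∈ (T : Subgroup X).map f :=
      Grp.pCore_le_sylow (T.mapSurjective (QuotientGroup.mk'_surjective O)) (mem_comap.1 hy)
    rw [← mem_comap, comap_map_eq, QuotientGroup.ker_mk', sup_comm] at hyB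
    obtain ⟨o, ho, t, ht, rfl⟩ := mem_sup_of_normal_left.1 hyB
    refine mul_mem (mem_sup_right ho) (mem_sup_left ⟨?_, ht⟩)
    simpa using Y.mul_mem (Y.inv_mem (hOY ho)) hy
  have hTO : (T : Subgroup X) ⊓ O = ⊥ := Grp.inf_eq_bot_of_coprime (by
    obtain ⟨k, hk⟩ := IsPGroup.iff_card.1 T.isPGroup'
    rw [hk]
    exact ((Grp.pPrimeCore_coprime (p := 2) (G := X)).symm).pow_left k)
  have hinj : Function.Injective (f.comp (T : Subgroup X).subtype) := by
    refine (injective_iff_map_eq_one _).2 fun t ht => ?_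
    have h : (t : X) ∈ (T : Subgroup X) ⊓ O := ⟨t.2, (QuotientGroup.eq_one_iff _).1 ht⟩
    rw [hTO, mem_bot] at h
    exact Subtype.ext h
  refine ⟨R, inf_le_right, fun hR1 => ?_, ?_⟩
  swap
  · refine Transfer.Loc.frattini_core (p := 2) R Y O (T.isPGroup'.to_le inf_le_right)
      Grp.pPrimeCore_coprime hYR ?_
    rw [normalizer_eq_top]
    exact le_top
  have hRB : R.map f = B := by
    have e : f.ker = O := QuotientGroup.ker_mk' O
    rw [show B = Y.map f from (map_comap_eq_self_of_surjective (QuotientGroup.mk'_surjective O) B).symm,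
      ← hYR, Subgroup.map_sup, (Subgroup.map_eq_bot_iff O).2 e.ge, sup_bot_eq]
  let e : R ≃* B := (MulEquiv.ofBijective (f.subgroupMap R) ⟨fun a b hab => by
      have h1 : (⟨(a : X), a.2.2⟩ : (T : Subgroup X)) = ⟨b, b.2.2⟩ :=
        hinj (congrArg Subtype.val hab)
      exact Subtype.ext (congrArg (fun x : ↥(T : Subgroup X) => (x : X)) h1), f.subgroupMap_surjective R⟩).trans
    (MulEquiv.subgroupCongr hRB)
  have hU : ∀ a b : B, orderOf a = 2 → orderOf b = 2 → Commute a b → a = b := fun a b ha hb hab =>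
    e.symm.injective (eq_of_rank_one hR1 (by rw [MulEquiv.orderOf_eq, ha])
      (by rw [MulEquiv.orderOf_eq, hb]) (hab.map e.symm))
  have hBp : IsPGroup 2 B := Grp.pCore_isPGroup
  let ψ : X ⧸ O →* MulAut B := MulAut.conjNormal
  have hkerC : ψ.ker ≤ centralizer (B : Set (X ⧸ O)) := fun x hx => mem_centralizer_iff.2 fun r hr => by
    have h := congrArg (fun φ : MulAut B => ((φ ⟨r, hr⟩ : B) : X ⧸ O)) (show ψ x = 1 from hx)
    simp [ψ] at h
    exact (mul_inv_eq_iff_eq_mul.mp h).symm
  have hker : ψ.ker ≤ B :=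
    hkerC.trans (Transfer.Transitivity.centralizer_pCore_quotient hX)
  have hFR : Nat.card ↥(F ⊓ R) ≤ 2 := by
    have hS : Cfsg.IsElementaryAbelian 2 ((F ⊓ R).subgroupOf R) := by
      refine ⟨⟨⟨fun a b => Subtype.ext (Subtype.ext ?_)⟩⟩, fun a ha => Subtype.ext ?_⟩
      · exact Grp.elemAb_comm hF _ (mem_subgroupOf.1 a.2).1 _ (mem_subgroupOf.1 b.2).1
      · exact hF.2 _ (mem_subgroupOf.1 ha).1
    have h := hR1 _ hS.1 hS.2
    rwa [Nat.card_congr (subgroupOfEquivOfLe (inf_le_right : F ⊓ R ≤ R)).toEquiv] at h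
  -- the automorphism group of `B` is not a 2-group
  have hno : ¬ IsPGroup 2 (MulAut B) := by
    intro hA
    obtain ⟨a, ha⟩ := IsPGroup.iff_card.1 (hA.to_subgroup ψ.range)
    obtain ⟨b, hb⟩ := IsPGroup.iff_card.1 (hBp.to_le hker)
    have hXp : IsPGroup 2 (X ⧸ O) := IsPGroup.of_card (n := b + a) (by
      rw [← ψ.ker.card_mul_index, Subgroup.index_ker, ha, hb, pow_add])
    have hBtop : (⊤ : Subgroup (X ⧸ O)) ≤ B :=
      Grp.le_pCore inferInstance (hXp.to_subgroup _)
    have hFR' : F ⊓ R = F := inf_eq_left.2 (le_inf (fun x _ => mem_comap.2 (hBtop trivial)) hFT)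
    rw [hFR'] at hFR
    omega
  rcases Grp.Zas.two_group_cases hBp hU with hc | ⟨n, hn, ⟨eQ⟩⟩
  · exact hno (Grp.Zas.isPGroup_two_mulAut_of_isCyclic hBp)
  rcases Nat.lt_or_ge n 2 with hn2 | hn2
  swap
  · exact hno (Fus.isPGroup_mulAut_congr eQ (Fus.isPGroup_mulAut_quaternionGroup hn2))
  obtain rfl : n = 1 := by omega
  let eQ' : B ≃* Grp.Zas.Q8 := eQ
  have hBcard : Nat.card B = 8 := by
    rw [Nat.card_congr eQ'.toEquiv, Nat.card_eq_fintype_card]; rfl
  have hRcard : Nat.card R = 8 := (Nat.card_congr e.toEquiv).trans hBcard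
  let g : (T : Subgroup X) →* MulAut B := ψ.comp (f.comp (T : Subgroup X).subtype)
  have hrange : Nat.card g.range ≤ 8 := by
    obtain ⟨a, ha⟩ := IsPGroup.iff_card.1
      (T.isPGroup'.of_surjective g.rangeRestrict g.rangeRestrict_surjective)
    have h24 : Nat.card g.range ∣ 24 := (card_subgroup_dvd_card g.range).trans (by
      rw [Nat.card_congr (MulAut.congr eQ').toEquiv]; exact Block.SharpTwo.q8_aut_card_dvd)
    have h25 := Nat.le_of_dvd (by norm_num) h24
    rw [ha] at h24 h25 ⊢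
    have ha4 : a ≤ 4 := by
      by_contra h
      have := Nat.pow_le_pow_right two_pos (show 5 ≤ a by omega)
      omega
    interval_cases a <;> norm_num at *
  have hgker : Nat.card g.ker ≤ 2 := by
    have hmem : ∀ t : g.ker, f ((t : (T : Subgroup X)) : X) ∈ ψ.ker := fun t => t.2
    let φ : g.ker → {x : Grp.Zas.Q8 // ∀ y, x * y = y * x} := fun t =>
      ⟨eQ' ⟨f ((t : (T : Subgroup X)) : X), hker (hmem t)⟩, fun y => by
        obtain ⟨r, rfl⟩ := eQ'.surjective y
        rw [← map_mul, ← map_mul]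
        exact congrArg eQ' (Subtype.ext
          (mem_centralizer_iff.1 (hkerC (hmem t)) r r.2).symm)⟩
    refine (Nat.card_le_card_of_injective φ fun a b hab => ?_).trans
      (Nat.card_eq_fintype_card.trans Grp.Zas.q8_central).le
    exact Subtype.ext (hinj (congrArg Subtype.val (eQ'.injective (congrArg Subtype.val hab))))
  have hTle : Nat.card (T : Subgroup X) ≤ 16 := by
    rw [← g.ker.card_mul_index, Subgroup.index_ker]
    exact (Nat.mul_le_mul hgker hrange)
  have h1 : R.relIndex F * Nat.card ↥(F ⊓ R) = Nat.card F := by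
    rw [mul_comm, ← Subgroup.inf_relIndex_right R F, inf_comm R F, ← relIndex_bot_left (F ⊓ R),
      relIndex_mul_relIndex _ _ _ bot_le inf_le_left, relIndex_bot_left]
  have h4 : 4 ≤ R.relIndex F := by
    have := Nat.mul_le_mul_left (R.relIndex F) hFR
    omega
  have h6 := relIndex_mul_relIndex _ _ _ (bot_le : (⊥ : Subgroup X) ≤ R)
    (inf_le_right : R ≤ (T : Subgroup X))
  rw [relIndex_bot_left, relIndex_bot_left, hRcard] at h6
  have h5 : R.relIndex F ≤ R.relIndex (T : Subgroup X) :=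
    relIndex_le_of_le_right hFT (fun h0 => by
      rw [h0, mul_zero] at h6
      exact Nat.card_pos.ne h6)
  omega

/-- A 2-constrained subgroup with an elementary subgroup of order 8 lies in `M` as soon as `M`
contains its core and the normalizers of the rank 2 subgroups of one of its Sylow subgroups. -/
theorem le_of_constrained {G : Type u} [Group G] [Finite G] {M H : Subgroup G}
    (hH : Cfsg.IsPConstrained 2 H) (T : Sylow 2 H) (F : Subgroup H)
    (hF : Cfsg.IsElementaryAbelian 2 F) (hFT : F ≤ (T : Subgroup H)) (h8 : 8 ≤ Nat.card F)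
    (hO : (Cfsg.pPrimeCore 2 H).map H.subtype ≤ M)
    (hN : ∀ Q : Subgroup G, Q ≤ (T : Subgroup H).map H.subtype → ¬ Cfsg.PRankLE 2 1 Q →
      normalizer (Q : Set G) ≤ M) : H ≤ M := by
  obtain ⟨R, hRT, hR1, hsup⟩ := exists_rank_two_normalizer hH T F hF hFT h8
  obtain ⟨K, hK, hKR⟩ := Fus.FourGraph.exists_klein_le hR1
  have hR2 : ¬ Cfsg.PRankLE 2 1 ↥(R.map H.subtype) := Fus.FourGraph.not_prankLE_of_klein
    (Fus.FourGraph.isKleinFour_map H.subtype H.subtype_injective hK) (map_mono hKR)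
  calc H = (⊤ : Subgroup H).map H.subtype := by rw [← MonoidHom.range_eq_map, H.range_subtype]
    _ ≤ M := by
      rw [← hsup, Subgroup.map_sup]
      exact sup_le ((le_normalizer_map H.subtype).trans (hN _ (map_mono hRT) hR2)) hO

end Cfsg.Agent.CoreConsumers
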