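import Cfsg.Agent.Lib.Local.CoreConsumers.Connected
import Cfsg.Agent.Lib.Fus.ElemChain
import Cfsg.Agent.Lib.Invol.NormalFour
import Cfsg.Agent.Lib.Invol.CharP
import Cfsg.Agent.Lib.Transfer.Local.Normed
import Cfsg.Agent.Lib.Grp.Signalizer

/-!
# A normal four-subgroup of a Sylow 2-subgroup without normal elementary subgroup of order 8

In a group with 2-constrained 2-local subgroups, whose Sylow 2-subgroups have rank at least 3 and
no normal elementary abelian subgroup of order 8, the centralizer of the central involution of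
a normal four-subgroup normalizes the subgroup generated by the cores over that four-subgroup.
-/

set_option autoImplicit false
set_option linter.style.haveILetI false
set_option linter.unusedSectionVars false

namespace Cfsg.Agent.CoreConsumers.Disc

open Cfsg Subgroup ConstrainedCores

universe u

variable {G : Type u} [Group G] [Finite G]

/-- No elementary abelian subgroup of order at least 8 is normal in a Sylow 2-subgroup. -/
def NoEightNormal (G : Type u) [Group G] : Prop :=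
  ∀ (S : Sylow 2 G) (E : Subgroup G), E ≤ (S : Subgroup G) → Cfsg.IsElementaryAbelian 2 E →
    (∀ x ∈ (S : Subgroup G), ∀ e ∈ E, x * e * x⁻¹ ∈ E) → Nat.card E ≤ 4

/-- A normal four-subgroup of `S` with a central involution `z`. -/
structure FourIn (S : Sylow 2 G) (U : Subgroup G) (z : G) : Prop where
  le : U ≤ (S : Subgroup G)
  elem : Cfsg.IsElementaryAbelian 2 U
  card : Nat.card U = 4
  mem : z ∈ U
  ord : orderOf z = 2
  central : ∀ x ∈ (S : Subgroup G), Commute z x
  normal : ∀ x ∈ (S : Subgroup G), ∀ u ∈ U, x * u * x⁻¹ ∈ U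

theorem exists_fourIn (S : Sylow 2 G) {F : Subgroup G} (hFS : F ≤ (S : Subgroup G))
    (hF : Cfsg.IsElementaryAbelian 2 F) (h8 : 8 ≤ Nat.card F) : ∃ U z, FourIn S U z := by
  haveI : Fact (Nat.Prime 2) := ⟨Nat.prime_two⟩
  set ι := (S : Subgroup G).subtype with hι
  have hsub : Nat.card (F.subgroupOf (S : Subgroup G)) = Nat.card F :=
    Nat.card_congr (subgroupOfEquivOfLe hFS).toEquiv
  obtain ⟨E, -, hEF, hE⟩ := Fus.exists_le_card S.isPGroup' (m := 3)
    (V := (⊥ : Subgroup (S : Subgroup G))) (W := F.subgroupOf (S : Subgroup G)) bot_le (by simp)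
    (by rw [hsub]; exact le_trans (by norm_num) h8)
  obtain ⟨U, hUn, hUc, hU2⟩ := Invol.NormalFour.exists_normal_four S.isPGroup' E
    (by simpa using hE) fun e he => Subtype.ext (hF.2 _ (mem_subgroupOf.1 (hEF he)))
  have hcomm : ∀ a ∈ U, ∀ b ∈ U, a * b = b * a := fun a ha b hb => by
    have hi : ∀ c ∈ U, c⁻¹ = c := fun c hc =>
      inv_eq_of_mul_eq_one_right (by rw [← pow_two]; exact hU2 c hc)
    have h := hi _ (U.mul_mem ha hb)
    rw [mul_inv_rev, hi a ha, hi b hb] at h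
    exact h.symm
  have hUel : Cfsg.IsElementaryAbelian 2 U :=
    ⟨⟨⟨fun a b => Subtype.ext (hcomm a a.2 b b.2)⟩⟩, hU2⟩
  haveI := hUn
  obtain ⟨z, hzU, hz1, hzc⟩ := Fus.exists_central_involution S.isPGroup' hUel fun e => by
    rw [e, Subgroup.card_bot] at hUc; omega
  refine ⟨U.map ι, ι z, map_subtype_le U, ⟨⟨⟨?_⟩⟩, ?_⟩, ?_, mem_map_of_mem _ hzU, ?_, ?_, ?_⟩
  · rintro ⟨_, a, ha, rfl⟩ ⟨_, b, hb, rfl⟩
    exact Subtype.ext ((show Commute a b from hcomm a ha b hb).map ι).eq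
  · rintro _ ⟨a, ha, rfl⟩
    rw [← map_pow, hU2 a ha, map_one]
  · rw [Subgroup.card_map_of_injective (S : Subgroup G).subtype_injective, hUc]
  · rw [hι, Subgroup.coe_subtype, orderOf_coe]
    exact orderOf_eq_prime (hU2 z hzU) hz1
  · intro x hx
    exact ((show Commute (⟨x, hx⟩ : (S : Subgroup G)) z from (hzc _).1).map ι).symm
  · rintro x hx _ ⟨a, ha, rfl⟩
    exact ⟨⟨x, hx⟩ * a * (⟨x, hx⟩ : (S : Subgroup G))⁻¹, hUn.conj_mem a ha _, rfl⟩

theorem FourIn.map {S : Sylow 2 G} {U : Subgroup G} {z : G} (h : FourIn S U z) (g : G) :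
    FourIn (g • S) (U.map (MulAut.conj g).toMonoidHom) (g * z * g⁻¹) := by
  refine ⟨?_, elemAb_map _ h.elem, ?_, mem_map_of_mem _ h.mem, ?_, ?_, ?_⟩
  · rw [Fus.FourGraph.sylow_smul]
    exact map_mono h.le
  · rw [Subgroup.card_map_of_injective (MulAut.conj g).injective, h.card]
  · rw [← h.ord]
    exact orderOf_injective (MulAut.conj g).toMonoidHom (MulAut.conj g).injective z
  · rw [Fus.FourGraph.sylow_smul]
    rintro _ ⟨x, hx, rfl⟩
    exact (h.central x hx).map (MulAut.conj g).toMonoidHom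
  · rw [Fus.FourGraph.sylow_smul]
    rintro _ ⟨x, hx, rfl⟩ _ ⟨u, hu, rfl⟩
    exact ⟨x * u * x⁻¹, h.normal x hx u hu, by simp [mul_assoc]⟩

section

variable {S : Sylow 2 G} {U : Subgroup G} {z : G} (h : FourIn S U z)
include h

theorem FourIn.mul_self {u : G} (hu : u ∈ U) : u * u = 1 := by
  rw [← pow_two]; exact h.elem.2 u hu

theorem FourIn.ne_one : z ≠ 1 := fun e => by
  have := h.ord
  rw [e, orderOf_one] at this
  omega

theorem FourIn.exists_ne : ∃ b ∈ U, b ≠ 1 ∧ b ≠ z := by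
  by_contra hno
  push Not at hno
  have hle : U ≤ zpowers z := fun u hu => by
    by_cases h1 : u = 1
    · exact h1 ▸ one_mem _
    · exact hno u hu h1 ▸ mem_zpowers _
  have := card_le_of_le hle
  rw [h.card, Nat.card_zpowers, h.ord] at this
  omega

theorem FourIn.cases {b u : G} (hb : b ∈ U) (hb1 : b ≠ 1) (hbz : b ≠ z) (hu : u ∈ U) :
    u = 1 ∨ u = z ∨ u = b ∨ u = z * b := by
  classical
  haveI : Fintype U := Fintype.ofFinite U
  let f : Finset U := {1, ⟨z, h.mem⟩, ⟨b, hb⟩, ⟨z, h.mem⟩ * ⟨b, hb⟩}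
  have h4 : f = Finset.univ := by
    refine Finset.eq_univ_of_card f ?_
    rw [← Nat.card_eq_fintype_card, h.card]
    simp only [f]
    rw [Finset.card_insert_of_notMem, Finset.card_insert_of_notMem, Finset.card_insert_of_notMem,
      Finset.card_singleton]
    · simp only [Finset.mem_singleton, Subtype.ext_iff, Subgroup.coe_mul]
      exact fun e => h.ne_one (mul_eq_right.1 e.symm)
    · simp only [Finset.mem_insert, Finset.mem_singleton, Subtype.ext_iff, Subgroup.coe_mul, not_or]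
      exact ⟨Ne.symm hbz, fun e => hb1 (mul_eq_left.1 e.symm)⟩
    · simp only [Finset.mem_insert, Finset.mem_singleton, Subtype.ext_iff, Subgroup.coe_one,
        Subgroup.coe_mul, not_or]
      refine ⟨Ne.symm h.ne_one, Ne.symm hb1, fun e => hbz ?_⟩
      rw [← mul_one z, e, ← mul_assoc, h.mul_self h.mem, one_mul]
  have := h4.ge (Finset.mem_univ (⟨u, hu⟩ : U))
  simp only [f, Finset.mem_insert, Finset.mem_singleton, Subtype.ext_iff, Subgroup.coe_one,
    Subgroup.coe_mul] at this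
  exact this

theorem FourIn.conj_cases {b x : G} (hb : b ∈ U) (hb1 : b ≠ 1) (hbz : b ≠ z)
    (hx : x ∈ (S : Subgroup G)) : x * b * x⁻¹ = b ∨ x * b * x⁻¹ = z * b := by
  rcases h.cases hb hb1 hbz (h.normal x hx b hb) with e | e | e | e
  · exact absurd (conj_eq_one_iff.1 e) hb1
  · refine absurd ?_ hbz
    calc b = x⁻¹ * (x * b * x⁻¹) * x := by group
      _ = z := by rw [e, mul_assoc, (h.central x hx).eq, inv_mul_cancel_left]
  · exact Or.inl e
  · exact Or.inr e

/-- A central element and one centralizing a further element of `U` centralize `U`. -/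
theorem FourIn.commute_all {b : G} (hb : b ∈ U) (hb1 : b ≠ 1) (hbz : b ≠ z) {x : G}
    (hx : x ∈ (S : Subgroup G)) (hxb : Commute x b) {u : G} (hu : u ∈ U) : Commute x u := by
  rcases h.cases hb hb1 hbz hu with rfl | rfl | rfl | rfl
  · exact Commute.one_right x
  · exact (h.central x hx).symm
  · exact hxb
  · exact (h.central x hx).symm.mul_right hxb

/-- Squares in `S` centralize `U`. -/
theorem FourIn.commute_sq {x : G} (hx : x ∈ (S : Subgroup G)) {u : G} (hu : u ∈ U) :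
    Commute (x * x) u := by
  obtain ⟨b, hb, hb1, hbz⟩ := h.exists_ne
  refine h.commute_all hb hb1 hbz ((S : Subgroup G).mul_mem hx hx) ?_ hu
  refine mul_inv_eq_iff_eq_mul.1 ?_
  rw [show x * x * b * (x * x)⁻¹ = x * (x * b * x⁻¹) * x⁻¹ by group]
  rcases h.conj_cases hb hb1 hbz hx with e | e
  · rw [e, e]
  · rw [e, show x * (z * b) * x⁻¹ = (x * z * x⁻¹) * (x * b * x⁻¹) by group, e,
      show x * z * x⁻¹ = z by rw [← (h.central x hx).eq, mul_inv_cancel_right], ← mul_assoc,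
      h.mul_self h.mem, one_mul]

/-- At least half of every subgroup of `S` centralizes an element of `U`. -/
theorem FourIn.card_le_two_mul {b : G} (hb : b ∈ U) (hb1 : b ≠ 1) (hbz : b ≠ z) {H : Subgroup G}
    (hH : H ≤ (S : Subgroup G)) :
    Nat.card H ≤ 2 * Nat.card ↥(H ⊓ centralizer ({b} : Set G)) := by
  classical
  by_cases hall : H ≤ centralizer ({b} : Set G)
  · rw [inf_eq_left.2 hall]; omega
  obtain ⟨x₀, hx₀, hx₀b⟩ := SetLike.not_le_iff_exists.1 hall
  have hmove : ∀ x ∈ H, x ∉ centralizer ({b} : Set G) → x * b * x⁻¹ = z * b := fun x hx hxb =>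
    (h.conj_cases hb hb1 hbz (hH hx)).resolve_left fun e =>
      hxb (mem_centralizer_singleton_iff.2 (mul_inv_eq_iff_eq_mul.1 e))
  have hback : ∀ x ∈ H, x ∉ centralizer ({b} : Set G) →
      x₀⁻¹ * x ∈ centralizer ({b} : Set G) := fun x hx hxb => by
    refine mem_centralizer_singleton_iff.2 (mul_inv_eq_iff_eq_mul.1 ?_)
    calc x₀⁻¹ * x * b * (x₀⁻¹ * x)⁻¹ = x₀⁻¹ * (x * b * x⁻¹) * x₀ := by group
      _ = x₀⁻¹ * (x₀ * b * x₀⁻¹) * x₀ := by rw [hmove x hx hxb, hmove x₀ hx₀ hx₀b]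
      _ = b := by group
  let φ : H → ↥(H ⊓ centralizer ({b} : Set G)) × Bool := fun x =>
    if hxb : (x : G) ∈ centralizer ({b} : Set G) then (⟨x, x.2, hxb⟩, false)
    else (⟨x₀⁻¹ * x, H.mul_mem (H.inv_mem hx₀) x.2, hback x x.2 hxb⟩, true)
  have hφ : Function.Injective φ := fun x y e => by
    simp only [φ] at e
    by_cases hxb : (x : G) ∈ centralizer ({b} : Set G) <;>
      by_cases hyb : (y : G) ∈ centralizer ({b} : Set G) <;> simp [hxb, hyb] at e
    · exact Subtype.ext (congrArg Subtype.val e :)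
    · exact Subtype.ext (mul_left_cancel (congrArg Subtype.val e))
  refine (Nat.card_le_card_of_injective φ hφ).trans ?_
  rw [Nat.card_prod, Nat.card_eq_fintype_card (α := Bool), Fintype.card_bool, mul_comm]

/-- The four-subgroup lies in an elementary subgroup of order at least 8 of `S`. -/
theorem FourIn.exists_eight {F : Subgroup G} (hFS : F ≤ (S : Subgroup G))
    (hF : Cfsg.IsElementaryAbelian 2 F) (h8 : 8 ≤ Nat.card F) :
    ∃ E : Subgroup G, U ≤ E ∧ E ≤ (S : Subgroup G) ∧ Cfsg.IsElementaryAbelian 2 E ∧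
      8 ≤ Nat.card E := by
  haveI : Fact (Nat.Prime 2) := ⟨Nat.prime_two⟩
  obtain ⟨b, hb, hb1, hbz⟩ := h.exists_ne
  have hB := h.card_le_two_mul hb hb1 hbz hFS
  have hBel : Cfsg.IsElementaryAbelian 2 (F ⊓ centralizer ({b} : Set G) : Subgroup G) :=
    Grp.elemAb_mono hF inf_le_left
  have hel := elemAb_sup h.elem hBel fun u hu c hc => (h.commute_all hb hb1 hbz (hFS hc.1)
    (mem_centralizer_singleton_iff.1 hc.2) hu).symm
  by_cases hBU : F ⊓ centralizer ({b} : Set G) ≤ U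
  · have he := eq_of_le_of_card_ge hBU (by rw [h.card]; omega)
    exact ⟨F, he ▸ inf_le_left, hFS, hF, h8⟩
  refine ⟨_, le_sup_left, sup_le h.le (inf_le_left.trans hFS), hel, ?_⟩
  obtain ⟨k, hk⟩ := IsPGroup.iff_card.1 (Grp.elemAb_isPGroup (p := 2) hel)
  have h4 := lt_of_le_of_ne (card_le_of_le (le_sup_left : U ≤ U ⊔ (F ⊓ centralizer ({b} : Set G))))
    fun e => hBU ((eq_of_le_of_card_ge le_sup_left e.ge).ge.trans' le_sup_right)
  rw [h.card, hk] at h4
  rw [hk]
  rcases Nat.lt_or_ge k 3 with hlt | hge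
  · interval_cases k <;> omega
  · exact le_trans (by norm_num) (Nat.pow_le_pow_right two_pos hge)

/-- A Sylow subgroup of the centralizer of an element `b` of `U` moves `z` at most to `z * b`. -/
theorem FourIn.exists_sylow (hN : NoEightNormal G) {b : G} (hb : b ∈ U) (hb1 : b ≠ 1)
    (hbz : b ≠ z) :
    ∃ T : Sylow 2 ↥(centralizer ({b} : Set G)), ∀ t : ↥(centralizer ({b} : Set G)),
      t ∈ (T : Subgroup ↥(centralizer ({b} : Set G))) →
        (t : G) * z * (t : G)⁻¹ = z ∨ (t : G) * z * (t : G)⁻¹ = z * b := by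
  haveI : Fact (Nat.Prime 2) := ⟨Nat.prime_two⟩
  set X := centralizer ({b} : Set G) with hX
  set K := (S : Subgroup G) ⊓ X with hK
  obtain ⟨T, hT⟩ := ((S.isPGroup'.to_le (inf_le_left : K ≤ _)).comap_subtype
    (K := X)).exists_le_sylow
  set T' := (T : Subgroup X).map X.subtype with hT'
  have hKT : K ≤ T' := fun k hk => ⟨⟨k, hk.2⟩, hT (mem_subgroupOf.2 hk), rfl⟩
  obtain ⟨P, hP⟩ := (T.isPGroup'.map X.subtype).exists_le_sylow
  have hcard : Nat.card T' ≤ 2 * Nat.card K := by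
    refine (card_le_of_le hP).trans ?_
    rw [show Nat.card (P : Subgroup G) = Nat.card (S : Subgroup G) by
      rw [Sylow.card_eq_multiplicity, Sylow.card_eq_multiplicity]]
    exact h.card_le_two_mul hb hb1 hbz le_rfl
  have hnorm : (K.subgroupOf T').Normal := by
    have h1 := (K.subgroupOf T').card_mul_index
    rw [Nat.card_congr (subgroupOfEquivOfLe hKT).toEquiv] at h1
    have h2 : (K.subgroupOf T').index ≤ 2 := by
      by_contra hlt
      have := Nat.mul_le_mul_left (Nat.card K) (show 3 ≤ (K.subgroupOf T').index by omega)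
      have := Nat.card_pos (α := K)
      omega
    have h3 : (K.subgroupOf T').index ≠ 0 := index_ne_zero_of_finite
    rcases (show (K.subgroupOf T').index = 1 ∨ (K.subgroupOf T').index = 2 by omega) with e | e
    · rw [index_eq_one.1 e]; infer_instance
    · exact normal_of_index_eq_two e
  -- the involutions of the centre of `K`
  let Z : Subgroup G :=
    { carrier := {x | x ∈ K ∧ x ^ 2 = 1 ∧ ∀ k ∈ K, Commute x k}
      mul_mem' := fun {x y} hx hy => ⟨K.mul_mem hx.1 hy.1,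
        by rw [(hx.2.2 y hy.1).mul_pow, hx.2.1, hy.2.1, one_mul],
        fun k hk => (hx.2.2 k hk).mul_left (hy.2.2 k hk)⟩
      one_mem' := ⟨K.one_mem, one_pow 2, fun k _ => Commute.one_left k⟩
      inv_mem' := fun {x} hx => ⟨K.inv_mem hx.1, by rw [inv_pow, hx.2.1, inv_one],
        fun k hk => (hx.2.2 k hk).inv_left⟩ }
  have hUZ : U ≤ Z := fun u hu =>
    ⟨⟨h.le hu, mem_centralizer_singleton_iff.2 (Grp.elemAb_comm h.elem u hu b hb)⟩, h.elem.2 u hu,
      fun k hk => (h.commute_all hb hb1 hbz hk.1 (mem_centralizer_singleton_iff.1 hk.2) hu).symm⟩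
  have hKS : ∀ x ∈ (S : Subgroup G), ∀ k ∈ K, x * k * x⁻¹ ∈ K := fun x hx k hk => by
    refine ⟨(S : Subgroup G).mul_mem ((S : Subgroup G).mul_mem hx hk.1)
      ((S : Subgroup G).inv_mem hx), mem_centralizer_singleton_iff.2 ?_⟩
    have h1 := h.commute_all hb hb1 hbz hk.1 (mem_centralizer_singleton_iff.1 hk.2)
      (h.normal x⁻¹ ((S : Subgroup G).inv_mem hx) b hb)
    rw [inv_inv] at h1
    simpa [mul_assoc] using (h1.map (MulAut.conj x).toMonoidHom).eq
  have hZU : U = Z := by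
    refine eq_of_le_of_card_ge hUZ (h.card ▸ hN S Z (fun x hx => hx.1.1)
      ⟨⟨⟨fun x y => Subtype.ext (x.2.2.2 y y.2.1).eq⟩⟩, fun x hx => hx.2.1⟩ ?_)
    intro x hx e he
    refine ⟨hKS x hx e he.1, by rw [conj_pow, he.2.1, mul_one, mul_inv_cancel], fun k hk => ?_⟩
    have h1 := he.2.2 _ (hKS x⁻¹ ((S : Subgroup G).inv_mem hx) k hk)
    rw [inv_inv] at h1
    simpa [mul_assoc] using h1.map (MulAut.conj x).toMonoidHom
  refine ⟨T, fun t ht => ?_⟩
  have htT : (t : G) ∈ T' := mem_map_of_mem _ ht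
  have htb : Commute (t : G) b := mem_centralizer_singleton_iff.1 t.2
  have hKt : ∀ s ∈ T', ∀ k ∈ K, s * k * s⁻¹ ∈ K := fun s hs k hk =>
    hnorm.conj_mem ⟨k, hKT hk⟩ (mem_subgroupOf.2 hk) ⟨s, hs⟩
  have hz : (t : G) * z * (t : G)⁻¹ ∈ U := by
    rw [hZU]
    have hzZ := hUZ h.mem
    refine ⟨hKt _ htT z hzZ.1, by rw [conj_pow, hzZ.2.1, mul_one, mul_inv_cancel], fun k hk => ?_⟩
    have h1 := hzZ.2.2 _ (hKt _ (T'.inv_mem htT) k hk)
    rw [inv_inv] at h1
    simpa [mul_assoc] using h1.map (MulAut.conj (t : G)).toMonoidHom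
  rcases h.cases hb hb1 hbz hz with e | e | e | e
  · exact absurd (conj_eq_one_iff.1 e) h.ne_one
  · exact Or.inl e
  · refine absurd ?_ hbz.symm
    calc z = (t : G)⁻¹ * ((t : G) * z * (t : G)⁻¹) * t := by group
      _ = b := by rw [e, mul_assoc, htb.symm.eq, inv_mul_cancel_left]
  · exact Or.inr e

end

/-- An element moving a Sylow 2-subgroup of a 2-constrained group only by a central involution
lies in `O_{2',2}`. -/
theorem mem_pPrimePCore_of_stable {X : Type u} [Group X] [Finite X]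
    (hX : Cfsg.IsPConstrained 2 X) {b : X} (hb : b * b = 1) (hbc : ∀ x, Commute b x)
    (T : Sylow 2 X) {x : X}
    (hx : ∀ t ∈ (T : Subgroup X), x * t * x⁻¹ * t⁻¹ ∈ zpowers b) :
    x ∈ Cfsg.pPrimePCore 2 X := by
  haveI : Fact (Nat.Prime 2) := ⟨Nat.prime_two⟩
  haveI : (Cfsg.pPrimeCore 2 X).Normal := Grp.pPrimeCore_isNormal
  set f := QuotientGroup.mk' (Cfsg.pPrimeCore 2 X) with hf
  have hfs : Function.Surjective f := QuotientGroup.mk'_surjective _
  set R := Cfsg.pCore 2 (X ⧸ Cfsg.pPrimeCore 2 X) with hR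
  have hRn : R.Normal := Grp.pCore_isNormal
  have hcen : ∀ c ∈ zpowers (f b), ∀ y, Commute c y := fun c hc y => by
    obtain ⟨i, rfl⟩ := mem_zpowers_iff.1 hc
    obtain ⟨y, rfl⟩ := hfs y
    exact ((hbc y).map f).zpow_left i
  let St : Subgroup (X ⧸ Cfsg.pPrimeCore 2 X) :=
    { carrier := {y | ∀ r ∈ R, y * r * y⁻¹ * r⁻¹ ∈ zpowers (f b)}
      mul_mem' := fun {y y'} hy hy' r hr => by
        have h1 := hy _ (hRn.conj_mem r hr y')
        have h2 := hy' r hr
        have := (zpowers (f b)).mul_mem h1 h2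
        simpa [mul_assoc] using this
      one_mem' := fun r _ => by simp
      inv_mem' := fun {y} hy r hr => by
        have h1 := (zpowers (f b)).inv_mem (hy _ (hRn.conj_mem r hr y⁻¹))
        simpa [mul_assoc] using h1 }
  have hStn : St.Normal := by
    refine ⟨fun y hy g r hr => ?_⟩
    have h1 := hy _ (hRn.conj_mem r hr g⁻¹)
    have h2 := hcen _ h1 g
    have h3 : g * y * g⁻¹ * r * (g * y * g⁻¹)⁻¹ * r⁻¹ =
        g * (y * (g⁻¹ * r * g⁻¹⁻¹) * y⁻¹ * (g⁻¹ * r * g⁻¹⁻¹)⁻¹) * g⁻¹ := by group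
    rw [h3, ← h2.eq, mul_inv_cancel_right]
    exact h1
  have hRp : IsPGroup 2 R := Grp.pCore_isPGroup
  have hStp : IsPGroup 2 St := by
    refine Invol.isPGroup_of_coprime_elements fun y hy => ?_
    rw [← orderOf_coe y] at hy
    set n := orderOf (y : X ⧸ Cfsg.pPrimeCore 2 X) with hn
    refine Subtype.ext (Invol.eq_one_of_coprime_of_mem hRp ?_ hy)
    refine Transfer.Transitivity.centralizer_pCore_quotient hX (mem_centralizer_iff.2 fun r hr => ?_)
    set c := (y : X ⧸ Cfsg.pPrimeCore 2 X) * r * (y : X ⧸ Cfsg.pPrimeCore 2 X)⁻¹ * r⁻¹ with hc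
    have hcz : c ∈ zpowers (f b) := y.2 r hr
    have hyr : (y : X ⧸ Cfsg.pPrimeCore 2 X) * r * (y : X ⧸ Cfsg.pPrimeCore 2 X)⁻¹ = c * r := by
      rw [hc]; group
    have hpow : ∀ k : ℕ, (y : X ⧸ Cfsg.pPrimeCore 2 X) ^ k * r *
        ((y : X ⧸ Cfsg.pPrimeCore 2 X) ^ k)⁻¹ = c ^ k * r := by
      intro k
      induction k with
      | zero => simp
      | succ k ih =>
        have hck : Commute (y : X ⧸ Cfsg.pPrimeCore 2 X) (c ^ k) :=
          ((hcen c hcz _).pow_left k).symm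
        rw [pow_succ' (y : X ⧸ Cfsg.pPrimeCore 2 X) k, mul_inv_rev,
          show (y : X ⧸ Cfsg.pPrimeCore 2 X) * (y : X ⧸ Cfsg.pPrimeCore 2 X) ^ k * r *
            (((y : X ⧸ Cfsg.pPrimeCore 2 X) ^ k)⁻¹ * (y : X ⧸ Cfsg.pPrimeCore 2 X)⁻¹) =
            (y : X ⧸ Cfsg.pPrimeCore 2 X) * ((y : X ⧸ Cfsg.pPrimeCore 2 X) ^ k * r *
            ((y : X ⧸ Cfsg.pPrimeCore 2 X) ^ k)⁻¹) * (y : X ⧸ Cfsg.pPrimeCore 2 X)⁻¹ by group,
          ih, ← mul_assoc, hck.eq, mul_assoc (c ^ k) (y : X ⧸ Cfsg.pPrimeCore 2 X) r,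
          mul_assoc (c ^ k), hyr, ← mul_assoc, ← pow_succ]
    have h1 : c ^ n = 1 := by
      have h2 := hpow n
      rw [hn, pow_orderOf_eq_one, one_mul, inv_one, mul_one] at h2
      exact mul_eq_right.1 h2.symm
    have h2 : c ^ 2 = 1 := by
      obtain ⟨i, hi⟩ := mem_zpowers_iff.1 hcz
      rw [← hi]
      rw [← zpow_natCast, ← zpow_mul, mul_comm, zpow_mul, zpow_natCast, pow_two, ← map_mul, hb,
        map_one, one_zpow]
    have hc1 : c = 1 := orderOf_eq_one_iff.1 (Nat.dvd_one.1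
      (hy.gcd_eq_one ▸ Nat.dvd_gcd (orderOf_dvd_of_pow_eq_one h1) (orderOf_dvd_of_pow_eq_one h2)))
    rw [hc1, one_mul, mul_inv_eq_iff_eq_mul] at hyr
    exact hyr.symm
  refine Subgroup.mem_comap.2 (Grp.le_pCore hStn hStp (fun r hr => ?_))
  obtain ⟨t, ht, rfl⟩ := Grp.pCore_le_sylow (T.mapSurjective hfs) hr
  obtain ⟨i, hi⟩ := mem_zpowers_iff.1 (hx t ht)
  refine mem_zpowers_iff.2 ⟨i, ?_⟩
  rw [← map_zpow, hi, map_mul, map_mul, map_mul, map_inv, map_inv]

theorem map_coreOver (B : Subgroup G) (g : G) :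
    (coreOver B).map (MulAut.conj g).toMonoidHom =
      coreOver (B.map (MulAut.conj g).toMonoidHom) := by
  have key : ∀ (A : Subgroup G) (x : G), (coreOver A).map (MulAut.conj x).toMonoidHom ≤
      coreOver (A.map (MulAut.conj x).toMonoidHom) := fun A x =>
    Subgroup.map_le_iff_le_comap.2 (iSup_le fun a => Subgroup.map_le_iff_le_comap.1
      ((map_conj_core_le (a : G) x).trans (le_coreOver ⟨a, a.2.1, rfl⟩
        fun e => a.2.2 (conj_eq_one_iff.1 e))))
  have hid : ∀ A : Subgroup G, (A.map (MulAut.conj g⁻¹).toMonoidHom).map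
      (MulAut.conj g).toMonoidHom = A := fun A => by
    rw [Fus.FourGraph.map_conj_map, mul_inv_cancel]
    ext y
    simp
  refine le_antisymm (key B g) ?_
  have h1 := map_mono (f := (MulAut.conj g).toMonoidHom)
    (key (B.map (MulAut.conj g).toMonoidHom) g⁻¹)
  rw [hid] at h1
  refine h1.trans (le_of_eq ?_)
  rw [Fus.FourGraph.map_conj_map B g⁻¹ g, inv_mul_cancel]
  congr 2
  ext y
  simp

theorem mem_normalizer_of_map_eq {W : Subgroup G} {g : G}
    (h : W.map (MulAut.conj g).toMonoidHom = W) : g ∈ normalizer (W : Set G) := by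
  refine mem_normalizer_iff.2 fun y => ⟨fun hy => h.le (mem_map_of_mem _ hy), fun hy => ?_⟩
  obtain ⟨w, hw, hwe⟩ := h.ge hy
  exact (MulAut.conj g).injective (by simpa using hwe) ▸ hw

theorem map_eq_of_mem_normalizer {W : Subgroup G} {g : G} (hg : g ∈ normalizer (W : Set G)) :
    W.map (MulAut.conj g).toMonoidHom = W :=
  Fus.FourGraph.conj_normalizer_le hg

section

variable (h2c : ∀ T : Subgroup G, IsPGroup 2 T → T ≠ ⊥ →
    Cfsg.IsPConstrained 2 ↥(Subgroup.normalizer (T : Set G)))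
include h2c

/-- The fixed points of `b` in `W` lie in its core when those of `z` do and `z` is almost central
in a Sylow subgroup of the centralizer of `b`. -/
theorem inf_centralizer_le_core {W : Subgroup G} {z b : G} (hW : Odd (Nat.card W))
    (hzW : z ∈ normalizer (W : Set G)) (hz : orderOf z = 2) (hb : orderOf b = 2)
    (hzb : Commute z b) (hfix : W ⊓ centralizer ({z} : Set G) ≤ Cfsg.centralizerPPrimeCore 2 z)
    (T : Sylow 2 ↥(centralizer ({b} : Set G)))
    (hT : ∀ t : ↥(centralizer ({b} : Set G)), t ∈ (T : Subgroup ↥(centralizer ({b} : Set G))) →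
      (t : G) * z * (t : G)⁻¹ = z ∨ (t : G) * z * (t : G)⁻¹ = z * b) :
    W ⊓ centralizer ({b} : Set G) ≤ Cfsg.centralizerPPrimeCore 2 b := by
  haveI : Fact (Nat.Prime 2) := ⟨Nat.prime_two⟩
  set K := Cfsg.centralizerPPrimeCore 2 b with hK
  have hzX : z ∈ (centralizer ({b} : Set G)) := mem_centralizer_singleton_iff.2 hzb.eq
  have hbX : b ∈ (centralizer ({b} : Set G)) := mem_centralizer_singleton_iff.2 rfl
  have hz2 : z * z = 1 := Invol.mul_self_of_orderOf_two hz
  have hb2 : b * b = 1 := Invol.mul_self_of_orderOf_two hb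
  have hzR : (⟨z, hzX⟩ : (centralizer ({b} : Set G))) ∈ Cfsg.pPrimePCore 2 (centralizer ({b} : Set G)) := by
    refine mem_pPrimePCore_of_stable (constrained_centralizer h2c hb) (b := ⟨b, hbX⟩)
      (Subtype.ext hb2) (fun x => Subtype.ext (mem_centralizer_singleton_iff.1 x.2).symm) T
      fun t ht => ?_
    rcases hT t ht with e | e
    · rw [show (⟨z, hzX⟩ : (centralizer ({b} : Set G))) * t * (⟨z, hzX⟩ : (centralizer ({b} : Set G)))⁻¹ * t⁻¹ = 1 from Subtype.ext (by
        show z * (t : G) * z⁻¹ * (t : G)⁻¹ = 1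
        rw [show z * (t : G) * z⁻¹ * (t : G)⁻¹ = z * ((t : G) * z * (t : G)⁻¹)⁻¹ by group, e,
          mul_inv_cancel])]
      exact one_mem _
    · rw [show (⟨z, hzX⟩ : (centralizer ({b} : Set G))) * t * (⟨z, hzX⟩ : (centralizer ({b} : Set G)))⁻¹ * t⁻¹ = ⟨b, hbX⟩ from Subtype.ext (by
        show z * (t : G) * z⁻¹ * (t : G)⁻¹ = b
        rw [show z * (t : G) * z⁻¹ * (t : G)⁻¹ = z * ((t : G) * z * (t : G)⁻¹)⁻¹ by group, e,
          mul_inv_rev, inv_eq_of_mul_eq_one_right hb2, ← mul_assoc, hzb.eq,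
          mul_assoc, mul_inv_cancel, mul_one])]
      exact mem_zpowers _
  rintro y ⟨hyW, hyb⟩
  set c := y⁻¹ * z * y * z with hc
  have hcW : c ∈ W := by
    have h1 := (mem_normalizer_iff.1 hzW y).1 hyW
    rw [inv_eq_of_mul_eq_one_right hz2] at h1
    have := W.mul_mem (W.inv_mem hyW) h1
    rwa [← mul_assoc, ← mul_assoc, ← hc] at this
  have hcX : c ∈ (centralizer ({b} : Set G)) := (centralizer ({b} : Set G)).mul_mem ((centralizer ({b} : Set G)).mul_mem ((centralizer ({b} : Set G)).mul_mem ((centralizer ({b} : Set G)).inv_mem hyb) hzX) hyb) hzX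
  have hco : (orderOf c).Coprime 2 := Nat.coprime_two_right.2 (Odd.of_dvd_nat hW (by
    rw [← Subgroup.orderOf_mk c hcW]; exact orderOf_dvd_natCard _))
  have hcK : c ∈ K := by
    haveI : (Cfsg.pPrimeCore 2 (centralizer ({b} : Set G))).Normal := Grp.pPrimeCore_isNormal
    set f := QuotientGroup.mk' (Cfsg.pPrimeCore 2 (centralizer ({b} : Set G))) with hf
    haveI hRn : (Cfsg.pCore 2 ((centralizer ({b} : Set G)) ⧸ Cfsg.pPrimeCore 2 (centralizer ({b} : Set G)))).Normal := Grp.pCore_isNormal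
    refine ⟨⟨c, hcX⟩, (QuotientGroup.eq_one_iff _).1 (Invol.eq_one_of_coprime_of_mem
      (U := Cfsg.pCore 2 ((centralizer ({b} : Set G)) ⧸ Cfsg.pPrimeCore 2 (centralizer ({b} : Set G)))) Grp.pCore_isPGroup ?_ ?_), rfl⟩
    · have h1 : f ⟨z, hzX⟩ ∈ Cfsg.pCore 2 ((centralizer ({b} : Set G)) ⧸ Cfsg.pPrimeCore 2 (centralizer ({b} : Set G))) := hzR
      have h2 : f (⟨y, hyb⟩⁻¹ * ⟨z, hzX⟩ * ⟨y, hyb⟩⁻¹⁻¹ * ⟨z, hzX⟩) ∈
          Cfsg.pCore 2 ((centralizer ({b} : Set G)) ⧸ Cfsg.pPrimeCore 2 (centralizer ({b} : Set G))) := by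
        rw [map_mul, map_mul, map_mul, map_inv (f := f) (⟨y, hyb⟩⁻¹)]
        exact Subgroup.mul_mem _ (hRn.conj_mem _ h1 _) h1
      rwa [inv_inv] at h2
    · refine hco.coprime_dvd_left ?_
      rw [← Subgroup.orderOf_mk c hcX]
      exact orderOf_map_dvd f (⟨c, hcX⟩ : (centralizer ({b} : Set G)))
  obtain ⟨k, hk⟩ := (Nat.coprime_two_right.1 hco)
  set d := c ^ (k + 1) with hd
  have hdd : d * d = c := by
    rw [hd, ← pow_add, show k + 1 + (k + 1) = orderOf c + 1 by omega, pow_succ, pow_orderOf_eq_one,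
      one_mul]
  have hzc : z * c * z⁻¹ = c⁻¹ := by
    rw [hc, mul_inv_rev, mul_inv_rev, mul_inv_rev, inv_inv, inv_eq_of_mul_eq_one_right hz2]
    simp only [mul_assoc]
    rw [hz2, mul_one]
  have hzd : z * d * z⁻¹ = d⁻¹ := by rw [hd, ← conj_pow, hzc, inv_pow]
  have hzy : z * y * z⁻¹ = y * c := by
    rw [hc, inv_eq_of_mul_eq_one_right hz2]; group
  have hfixed : z * (y * d) * z⁻¹ = y * d := by
    rw [show z * (y * d) * z⁻¹ = (z * y * z⁻¹) * (z * d * z⁻¹) by group, hzy, hzd, ← hdd]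
    group
  have hdK : d ∈ K := pow_mem hcK _
  have hdX : d ∈ (centralizer ({b} : Set G)) := pow_mem hcX _
  have hydK : y * d ∈ K := by
    refine inf_centralizer_le h2c hb (k := 1) (by rw [pow_one, pow_two, hz2]) hzb
      ⟨hfix ⟨W.mul_mem hyW (pow_mem hcW _), mem_centralizer_singleton_iff.2 ?_⟩, (centralizer ({b} : Set G)).mul_mem hyb hdX⟩
    exact (mul_inv_eq_iff_eq_mul.1 hfixed).symm
  simpa using K.mul_mem hydK (K.inv_mem hdK)

variable (hFT : ∀ (K : Type u) [Group K] [Finite K], Odd (Nat.card K) → Group.IsSolvable K)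
include hFT

/-- All elementary subgroups of order at least 8 of `S` have the closure of `U`. -/
theorem FourIn.eq_eight {S : Sylow 2 G} {U : Subgroup G} {z : G} (h : FourIn S U z)
    {F : Subgroup G} (hFS : F ≤ (S : Subgroup G)) (hF : Cfsg.IsElementaryAbelian 2 F)
    (h8 : 8 ≤ Nat.card F) : coreOver F = coreOver U := by
  obtain ⟨b, hb, hb1, hbz⟩ := h.exists_ne
  have h4 : 4 ≤ Nat.card ↥(F ⊓ centralizer ({b} : Set G)) := by
    have := h.card_le_two_mul hb hb1 hbz hFS
    omega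
  rw [← coreOver_eq h2c hFT hF h8 inf_le_left h4]
  exact coreOver_eq_of_commute h2c hFT (Grp.elemAb_mono hF inf_le_left) h4 h.elem h.card.ge
    fun c hc u hu => h.commute_all hb hb1 hbz (hFS hc.1) (mem_centralizer_singleton_iff.1 hc.2) hu

/-- The closure over `U` is odd, normalized by `S`, with the cores as fixed points. -/
theorem FourIn.closure {S : Sylow 2 G} {U : Subgroup G} {z : G} (h : FourIn S U z)
    {F : Subgroup G} (hFS : F ≤ (S : Subgroup G)) (hF : Cfsg.IsElementaryAbelian 2 F)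
    (h8 : 8 ≤ Nat.card F) :
    Odd (Nat.card ↥(coreOver U)) ∧ (S : Subgroup G) ≤ normalizer (coreOver U : Set G) ∧
      coreOver U ⊓ centralizer ({z} : Set G) ≤ Cfsg.centralizerPPrimeCore 2 z := by
  haveI : Fact (Nat.Prime 2) := ⟨Nat.prime_two⟩
  obtain ⟨E, hUE, hES, hE, hE8⟩ := h.exists_eight hFS hF h8
  obtain ⟨-, hdvd, -, hfix⟩ := Transfer.SFT.closure_complete hE
    (show 2 ^ 3 ≤ Nat.card E from hE8) (functor_of_elemAb h2c hFT hE)
  rw [← h.eq_eight h2c hFT hES hE hE8]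
  refine ⟨Nat.odd_iff.2 (Nat.two_dvd_ne_zero.1 hdvd), ?_, (hfix z (hUE h.mem) h.ne_one).le⟩
  rw [h.eq_eight h2c hFT hES hE hE8]
  refine fun x hx => normalizer_le_normalizer_coreOver U (mem_normalizer_iff.2 fun u =>
    ⟨fun hu => h.normal x hx u hu, fun hu => ?_⟩)
  have := h.normal x⁻¹ ((S : Subgroup G).inv_mem hx) _ hu
  simpa [mul_assoc] using this

/-- The centralizer of the central involution normalizes the closure. -/
theorem FourIn.centralizer_le (hN : NoEightNormal G) {S : Sylow 2 G} {U : Subgroup G} {z : G}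
    (h : FourIn S U z) {F : Subgroup G} (hFS : F ≤ (S : Subgroup G))
    (hF : Cfsg.IsElementaryAbelian 2 F) (h8 : 8 ≤ Nat.card F) :
    centralizer ({z} : Set G) ≤ normalizer (coreOver U : Set G) := by
  haveI : Fact (Nat.Prime 2) := ⟨Nat.prime_two⟩
  obtain ⟨hodd, hSW, hfix⟩ := h.closure h2c hFT hFS hF h8
  set W := coreOver U with hW
  set X := centralizer ({z} : Set G) with hX
  have hSX : (S : Subgroup G) ≤ X := fun x hx =>
    mem_centralizer_singleton_iff.2 (h.central x hx).symm.eq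
  set T := S.subtype hSX with hT
  haveI hOn : (Cfsg.pPrimeCore 2 X).Normal := Grp.pPrimeCore_isNormal
  haveI : (Cfsg.pCore 2 (X ⧸ Cfsg.pPrimeCore 2 X)).Normal := Grp.pCore_isNormal
  haveI : (Cfsg.pPrimePCore 2 X).Normal := Subgroup.Normal.comap inferInstance _
  set R := (T : Subgroup X) ⊓ Cfsg.pPrimePCore 2 X with hR
  have htop : normalizer (R : Set X) ⊔ Cfsg.pPrimeCore 2 X = ⊤ :=
    Transfer.Loc.frattini_core (p := 2) R _ _ (T.isPGroup'.to_le inf_le_left)
      Grp.pPrimeCore_coprime (Transfer.Loc.sup_core_eq_pPrimePCore T)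
      (by rw [normalizer_eq_top]; exact le_top)
  have hzX : z ∈ X := hSX (h.le h.mem)
  -- `U` lies in `R`
  have hUR : ∀ u (hu : u ∈ U), (⟨u, hSX (h.le hu)⟩ : X) ∈ R := by
    intro u hu
    refine ⟨h.le hu, mem_pPrimePCore_of_stable (constrained_centralizer h2c h.ord) (b := ⟨z, hzX⟩)
      (Subtype.ext (Invol.mul_self_of_orderOf_two h.ord))
      (fun x => Subtype.ext (mem_centralizer_singleton_iff.1 x.2).symm) T fun t ht => ?_⟩
    have htS : (t : G) ∈ (S : Subgroup G) := ht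
    have hval : u * (t : G) * u⁻¹ * (t : G)⁻¹ = 1 ∨ u * (t : G) * u⁻¹ * (t : G)⁻¹ = z := by
      rw [show u * (t : G) * u⁻¹ * (t : G)⁻¹ = u * ((t : G) * u * (t : G)⁻¹)⁻¹ by group]
      rw [inv_eq_of_mul_eq_one_right (h.mul_self (h.normal _ htS u hu))]
      rcases em (u = 1) with rfl | hu1
      · left; simp
      rcases em (u = z) with rfl | huz
      · left
        rw [(h.central _ htS).symm.eq, mul_inv_cancel_right, h.mul_self hu]
      rcases h.conj_cases hu hu1 huz htS with e | e <;> rw [e]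
      · left; exact h.mul_self hu
      · right
        rw [← mul_assoc, ← (h.central u (h.le hu)).eq, mul_assoc, h.mul_self hu, mul_one]
    rcases hval with e | e
    · rw [show (⟨u, hSX (h.le hu)⟩ : X) * t * (⟨u, hSX (h.le hu)⟩ : X)⁻¹ * t⁻¹ = 1 from
        Subtype.ext e]
      exact one_mem _
    · rw [show (⟨u, hSX (h.le hu)⟩ : X) * t * (⟨u, hSX (h.le hu)⟩ : X)⁻¹ * t⁻¹ = ⟨z, hzX⟩ from
        Subtype.ext e]
      exact mem_zpowers _
  intro g hg
  have hg' : (⟨g, hg⟩ : X) ∈ normalizer (R : Set X) ⊔ Cfsg.pPrimeCore 2 X := htop.ge (mem_top _)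
  obtain ⟨n, hn, o, ho, hno⟩ := mem_sup_of_normal_right.1 hg'
  have hoW : (o : G) ∈ normalizer (W : Set G) :=
    le_normalizer (le_coreOver h.mem h.ne_one ⟨o, ho, rfl⟩)
  suffices hnW : (n : G) ∈ normalizer (W : Set G) by
    have := (normalizer (W : Set G)).mul_mem hnW hoW
    rwa [show (n : G) * (o : G) = g from congrArg Subtype.val hno] at this
  have h' := h.map (n : G)
  rw [show (n : G) * z * (n : G)⁻¹ = z by
    rw [mem_centralizer_singleton_iff.1 n.2, mul_inv_cancel_right]] at h'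
  set U' := U.map (MulAut.conj (n : G)).toMonoidHom with hU'
  have hU'S : U' ≤ (S : Subgroup G) := by
    rintro _ ⟨u, hu, rfl⟩
    exact ((mem_normalizer_iff.1 hn ⟨u, hSX (h.le hu)⟩).1 (hUR u hu)).1
  have hle : W ≤ coreOver U' := by
    refine Grp.le_of_hyperplanes h'.elem (fun e => by
        have := h'.card
        rw [e, Subgroup.card_bot] at this
        omega) W (Nat.two_dvd_ne_zero.2 (Nat.odd_iff.1 hodd)) (hU'S.trans hSW) fun D hD hrel => ?_
    obtain ⟨d, hd, hd1⟩ := (Subgroup.ne_bot_iff_exists_ne_one.1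
      (Grp.ne_bot_of_relIndex (p := 2) (by rw [h'.card]; norm_num) hrel)).elim
        fun x hx => (⟨x, x.2, fun e => hx (Subtype.ext e)⟩ : ∃ d : G, d ∈ D ∧ d ≠ 1)
    refine (inf_le_inf_left _ (Subgroup.centralizer_le (Set.singleton_subset_iff.2 hd))).trans
      (le_trans ?_ (le_coreOver (hD hd) hd1))
    by_cases hdz : d = z
    · rw [hdz]; exact hfix
    obtain ⟨T₁, hT₁⟩ := h'.exists_sylow hN (hD hd) hd1 hdz
    exact inf_centralizer_le_core h2c hodd (hSW (h.le h.mem)) h.ord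
      (orderOf_eq_prime (h'.elem.2 d (hD hd)) hd1)
      (Grp.elemAb_comm h'.elem z h'.mem d (hD hd)) hfix T₁ hT₁
  refine mem_normalizer_of_map_eq ?_
  rw [hW, map_coreOver, ← hU', ← hW]
  exact (eq_of_le_of_card_ge hle (by
    rw [hU', ← map_coreOver, Subgroup.card_map_of_injective (MulAut.conj _).injective])).symm

end

end Cfsg.Agent.CoreConsumers.Disc
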