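import Cfsg.Agent.Lib.Local.CoreConsumers.Main
import Cfsg.Agent.Lib.Local.CoreConsumers.FourSetting
import Cfsg.Agent.Lib.Transfer.MaxClass
import Cfsg.Agent.S0111

/-!
# Trivial cores without normal elementary subgroups of order 8

In a group of 2-rank at least 3 with 2-constrained 2-local subgroups, no subgroup of index 2 and
no elementary abelian subgroup of order 8 normal in a Sylow 2-subgroup, the subgroup generated by
the cores over a normal four-subgroup has a strongly embedded normalizer unless it is normal.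
-/

set_option autoImplicit false
set_option linter.style.haveILetI false
set_option linter.unusedSectionVars false

namespace Cfsg.Agent.CoreConsumers.Disc

open Cfsg Subgroup ConstrainedCores
open scoped Pointwise

universe u

variable {G : Type u} [Group G] [Finite G]

/-- A 2-group with an involution whose centralizer has order 4 has no elementary abelian subgroup
of order 8. -/
theorem card_lt_of_centralizer_four {P : Type u} [Group P] [Finite P] (hP : IsPGroup 2 P)
    (A : Subgroup P) (hA : Nat.card A = 4) (hAc : centralizer (A : Set P) = A)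
    (E : Subgroup P) (hE : Cfsg.IsElementaryAbelian 2 E) : Nat.card E < 8 := by
  haveI : Fact (Nat.Prime 2) := ⟨Nat.prime_two⟩
  obtain ⟨n, hn⟩ := hP.exists_card_eq
  have h2n : 2 ≤ n := by
    have h := Nat.le_of_dvd Nat.card_pos (card_subgroup_dvd_card A)
    rw [hA, hn] at h
    by_contra hlt
    have := Nat.pow_le_pow_right (show 1 ≤ 2 by norm_num) (show n ≤ 1 by omega)
    omega
  have hcl := Transfer.MaxClass.class_of_selfCentralizing n hn A (by rw [hA]; norm_num) hAc
  obtain ⟨a, ha⟩ := Transfer.MaxClass.exists_cyclic_index_two _ rfl hP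
    (by rw [Transfer.MaxClass.commutator_index_of_class hn h2n hcl]; norm_num)
  have h1 : Nat.card E ≤ 2 * Nat.card ↥(E ⊓ zpowers a) := by
    have h2 : (zpowers a).relIndex E * Nat.card ↥(E ⊓ zpowers a) = Nat.card E := by
      rw [mul_comm, ← Subgroup.inf_relIndex_right (zpowers a) E, inf_comm E,
        ← relIndex_bot_left (zpowers a ⊓ E), relIndex_mul_relIndex _ _ _ bot_le inf_le_right,
        relIndex_bot_left]
    have h3 : (zpowers a).relIndex E ≤ 2 := by
      rw [← ha, ← relIndex_top_right (zpowers a)]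
      exact relIndex_le_of_le_right le_top (by rw [relIndex_top_right, ha]; norm_num)
    calc Nat.card E = (zpowers a).relIndex E * Nat.card ↥(E ⊓ zpowers a) := h2.symm
      _ ≤ 2 * Nat.card ↥(E ⊓ zpowers a) := Nat.mul_le_mul_right _ h3
  have h2 : Nat.card ↥(E ⊓ zpowers a) ≤ 2 := by
    haveI : IsCyclic ↥(E ⊓ zpowers a) := Subgroup.isCyclic_of_le inf_le_right
    obtain ⟨g, hg⟩ := IsCyclic.exists_generator (α := ↥(E ⊓ zpowers a))
    rw [← orderOf_eq_card_of_forall_mem_zpowers hg]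
    exact Nat.le_of_dvd two_pos (orderOf_dvd_of_pow_eq_one (Subtype.ext (hE.2 _ g.2.1)))
  omega

theorem zpowers_two_cases {a x : G} (ha : a * a = 1) (hx : x ∈ zpowers a) : x = 1 ∨ x = a := by
  obtain ⟨i, rfl⟩ := mem_zpowers_iff.1 hx
  have h2 : a ^ (2 : ℤ) = 1 := by rw [zpow_two, ha]
  rcases Int.even_or_odd i with ⟨j, rfl⟩ | ⟨j, rfl⟩
  · left; rw [← two_mul, zpow_mul, h2, one_zpow]
  · right; rw [zpow_add_one, zpow_mul, h2, one_zpow, one_mul]

theorem exists_eight_conj {F : Subgroup G} (hF : Cfsg.IsElementaryAbelian 2 F)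
    (h8 : 8 ≤ Nat.card F) (S : Sylow 2 G) :
    ∃ E : Subgroup G, E ≤ (S : Subgroup G) ∧ Cfsg.IsElementaryAbelian 2 E ∧ 8 ≤ Nat.card E := by
  haveI : Fact (Nat.Prime 2) := ⟨Nat.prime_two⟩
  obtain ⟨T, hT⟩ := (Grp.elemAb_isPGroup (p := 2) hF).exists_le_sylow
  obtain ⟨g, hg⟩ := MulAction.exists_smul_eq G T S
  refine ⟨F.map (MulAut.conj g).toMonoidHom, ?_, elemAb_map _ hF, ?_⟩
  · rw [← hg, Fus.FourGraph.sylow_smul]
    exact map_mono hT
  · rwa [Subgroup.card_map_of_injective (MulAut.conj g).injective]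

/-- An element of an elementary subgroup of order at least 4 lies in a larger one as soon as it
commutes with it and lies outside. -/
theorem eight_le_card_sup {B : Subgroup G} (hB : Cfsg.IsElementaryAbelian 2 B)
    (h4 : 4 ≤ Nat.card B) {w : G} (hw : w ^ 2 = 1) (hwB : w ∉ B)
    (hc : ∀ b ∈ B, Commute b w) :
    Cfsg.IsElementaryAbelian 2 (B ⊔ zpowers w : Subgroup G) ∧
      8 ≤ Nat.card ↥(B ⊔ zpowers w) := by
  haveI : Fact (Nat.Prime 2) := ⟨Nat.prime_two⟩
  have hel := elemAb_sup hB (elemAb_zpowers hw) fun b hb c hcw => by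
    obtain ⟨i, rfl⟩ := mem_zpowers_iff.1 hcw
    exact (hc b hb).zpow_right i
  refine ⟨hel, ?_⟩
  obtain ⟨k, hk⟩ := IsPGroup.iff_card.1 (Grp.elemAb_isPGroup (p := 2) hel)
  have hlt := lt_of_le_of_ne (card_le_of_le (le_sup_left : B ≤ B ⊔ zpowers w)) fun e =>
    hwB ((eq_of_le_of_card_ge le_sup_left e.ge).ge (mem_sup_right (mem_zpowers w)))
  rw [hk] at hlt
  rw [hk]
  rcases Nat.lt_or_ge k 3 with h | h
  · interval_cases k <;> omega
  · exact le_trans (by norm_num) (Nat.pow_le_pow_right two_pos h)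

section

variable (h2c : ∀ T : Subgroup G, IsPGroup 2 T → T ≠ ⊥ →
    Cfsg.IsPConstrained 2 ↥(Subgroup.normalizer (T : Set G)))
  (hFT : ∀ (K : Type u) [Group K] [Finite K], Odd (Nat.card K) → Group.IsSolvable K)
include h2c hFT

/-- The centralizer of an involution of an elementary subgroup of order 8 of `S`. -/
theorem centralizer_le_of_eight (hN : NoEightNormal G) {S : Sylow 2 G} {U : Subgroup G} {z : G}
    (h : FourIn S U z) {t : G} (ht : orderOf t = 2) {F : Subgroup G} (hFS : F ≤ (S : Subgroup G))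
    (hF : Cfsg.IsElementaryAbelian 2 F) (h8 : 8 ≤ Nat.card F) (htF : t ∈ F) :
    centralizer ({t} : Set G) ≤ normalizer (coreOver U : Set G) := by
  haveI : Fact (Nat.Prime 2) := ⟨Nat.prime_two⟩
  set X := centralizer ({t} : Set G) with hX
  have hFX : F ≤ X := fun x hx =>
    mem_centralizer_singleton_iff.2 (Grp.elemAb_comm hF x hx t htF)
  obtain ⟨T, hT⟩ := ((Grp.elemAb_isPGroup (p := 2) hF).comap_subtype (K := X)).exists_le_sylow
  obtain ⟨S₁, hS₁⟩ := (T.isPGroup'.map X.subtype).exists_le_sylow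
  have hFS₁ : F ≤ (S₁ : Subgroup G) := fun x hx =>
    hS₁ ⟨⟨x, hFX hx⟩, hT (mem_subgroupOf.2 hx), rfl⟩
  obtain ⟨U₁, z₁, h₁⟩ := exists_fourIn S₁ hFS₁ hF h8
  rw [← h.eq_eight h2c hFT hFS hF h8, h₁.eq_eight h2c hFT hFS₁ hF h8]
  by_cases htz : t = z₁
  · rw [hX, htz]
    exact h₁.centralizer_le h2c hFT hN hFS₁ hF h8
  rw [← h₁.eq_eight h2c hFT hFS₁ hF h8]
  set W := coreOver F with hW
  have hz₁X : z₁ ∈ X := mem_centralizer_singleton_iff.2 (h₁.central t (hFS₁ htF)).eq
  have hTeq : (S₁ : Subgroup G).subgroupOf X = (T : Subgroup X) :=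
    T.is_maximal' S₁.isPGroup'.comap_subtype fun x hx =>
      mem_subgroupOf.2 (hS₁ ⟨x, hx, rfl⟩)
  have hmemT : ∀ x : X, x ∈ (T : Subgroup X) ↔ (x : G) ∈ (S₁ : Subgroup G) := fun x => by
    rw [← hTeq]; exact mem_subgroupOf
  haveI hOn : (Cfsg.pPrimeCore 2 X).Normal := Grp.pPrimeCore_isNormal
  haveI : (Cfsg.pCore 2 (X ⧸ Cfsg.pPrimeCore 2 X)).Normal := Grp.pCore_isNormal
  haveI : (Cfsg.pPrimePCore 2 X).Normal := Subgroup.Normal.comap inferInstance _
  set R := (T : Subgroup X) ⊓ Cfsg.pPrimePCore 2 X with hR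
  have htop : normalizer (R : Set X) ⊔ Cfsg.pPrimeCore 2 X = ⊤ :=
    Transfer.Loc.frattini_core (p := 2) R _ _ (T.isPGroup'.to_le inf_le_left)
      Grp.pPrimeCore_coprime (Transfer.Loc.sup_core_eq_pPrimePCore T)
      (by rw [normalizer_eq_top]; exact le_top)
  have hzR : (⟨z₁, hz₁X⟩ : X) ∈ R := by
    refine ⟨(hmemT _).2 (h₁.le h₁.mem), mem_pPrimePCore_of_stable
      (constrained_centralizer h2c ht)
      (b := ⟨t, hFX htF⟩) (Subtype.ext (Invol.mul_self_of_orderOf_two ht))
      (fun x => Subtype.ext (mem_centralizer_singleton_iff.1 x.2).symm) T fun s hs => ?_⟩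
    rw [show (⟨z₁, hz₁X⟩ : X) * s * (⟨z₁, hz₁X⟩ : X)⁻¹ * s⁻¹ = 1 from Subtype.ext (by
      show z₁ * (s : G) * z₁⁻¹ * (s : G)⁻¹ = 1
      rw [(h₁.central _ ((hmemT s).1 hs)).eq, mul_inv_cancel_right, mul_inv_cancel])]
    exact one_mem _
  intro g hg
  have hg' : (⟨g, hg⟩ : X) ∈ normalizer (R : Set X) ⊔ Cfsg.pPrimeCore 2 X := htop.ge (mem_top _)
  obtain ⟨n, hn, o, ho, hno⟩ := mem_sup_of_normal_right.1 hg'
  have hoW : (o : G) ∈ normalizer (W : Set G) :=
    le_normalizer (le_coreOver htF (orderOf_eq_prime_iff.1 ht).2 ⟨o, ho, rfl⟩)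
  suffices hnW : (n : G) ∈ normalizer (W : Set G) by
    have := (normalizer (W : Set G)).mul_mem hnW hoW
    rwa [show (n : G) * (o : G) = g from congrArg Subtype.val hno] at this
  set B := zpowers t ⊔ zpowers z₁ with hB
  have ht2 := (orderOf_eq_prime_iff.1 ht).1
  have hBel : Cfsg.IsElementaryAbelian 2 B :=
    elemAb_sup (elemAb_zpowers ht2) (elemAb_zpowers (h₁.elem.2 z₁ h₁.mem)) fun x hx y hy => by
      obtain ⟨i, rfl⟩ := mem_zpowers_iff.1 hx
      obtain ⟨j, rfl⟩ := mem_zpowers_iff.1 hy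
      exact ((h₁.central t (hFS₁ htF)).symm).zpow_zpow i j
  have hB4 : 4 ≤ Nat.card B := by
    refine four_le_card_sup ht2 (h₁.elem.2 z₁ h₁.mem) (h₁.central t (hFS₁ htF)).symm
      (orderOf_eq_prime_iff.1 ht).2 fun hm => ?_
    rcases zpowers_two_cases (Invol.mul_self_of_orderOf_two ht) hm with e | e
    · exact h₁.ne_one e
    · exact htz e.symm
  have hWB : W = coreOver B := by
    refine coreOver_eq_of_commute h2c hFT hF (by omega) hBel hB4 fun x hx y hy => ?_
    have hle : B ≤ centralizer ({x} : Set G) := sup_le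
      (zpowers_le.2 (mem_centralizer_singleton_iff.2 (Grp.elemAb_comm hF t htF x hx)))
      (zpowers_le.2 (mem_centralizer_singleton_iff.2 (h₁.central x (hFS₁ hx)).eq))
    exact (mem_centralizer_singleton_iff.1 (hle hy)).symm
  refine mem_normalizer_of_map_eq ?_
  rw [hWB, map_coreOver]
  refine (coreOver_eq_of_commute h2c hFT hBel hB4 (elemAb_map _ hBel)
    (by rwa [Subgroup.card_map_of_injective (MulAut.conj _).injective]) fun x hx y hy => ?_).symm
  have hnt : (n : G) * t * (n : G)⁻¹ = t := by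
    rw [mem_centralizer_singleton_iff.1 n.2, mul_inv_cancel_right]
  have hz' : (n : G) * z₁ * (n : G)⁻¹ ∈ (S₁ : Subgroup G) :=
    (hmemT _).1 ((mem_normalizer_iff.1 hn ⟨z₁, hz₁X⟩).1 hzR).1
  have hzX' : (n : G) * z₁ * (n : G)⁻¹ ∈ X := ((n * ⟨z₁, hz₁X⟩ * n⁻¹ : X)).2
  have hle : B ≤ centralizer ({t, (n : G) * z₁ * (n : G)⁻¹} : Set G) := by
    refine sup_le (zpowers_le.2 (mem_centralizer_iff.2 ?_))
      (zpowers_le.2 (mem_centralizer_iff.2 ?_))
    · rintro w (rfl | rfl)
      · rfl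
      · exact mem_centralizer_singleton_iff.1 hzX'
    · rintro w (rfl | rfl)
      · exact (mem_centralizer_singleton_iff.1 hz₁X).symm
      · exact ((h₁.central _ hz').symm).eq
  have hle' : B.map (MulAut.conj (n : G)).toMonoidHom ≤ centralizer ({x} : Set G) := by
    rw [hB, Subgroup.map_sup, MonoidHom.map_zpowers, MonoidHom.map_zpowers]
    refine sup_le (zpowers_le.2 ?_) (zpowers_le.2 ?_) <;>
      refine mem_centralizer_singleton_iff.2 ?_
    · show (n : G) * t * (n : G)⁻¹ * x = x * ((n : G) * t * (n : G)⁻¹)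
      rw [hnt]
      exact mem_centralizer_iff.1 (hle hx) t (Set.mem_insert _ _)
    · exact mem_centralizer_iff.1 (hle hx) _ (Set.mem_insert_of_mem _ rfl)
  exact (mem_centralizer_singleton_iff.1 (hle' hy)).symm

/-- The centralizer of any involution of `S` lying in some elementary subgroup of order 8. -/
theorem centralizer_le_of_mem (hN : NoEightNormal G) {S : Sylow 2 G} {U : Subgroup G} {z : G}
    (h : FourIn S U z) {t : G} (ht : orderOf t = 2) (htS : t ∈ (S : Subgroup G))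
    {F' : Subgroup G} (hF' : Cfsg.IsElementaryAbelian 2 F') (h8' : 8 ≤ Nat.card F')
    (htF' : t ∈ F') : centralizer ({t} : Set G) ≤ normalizer (coreOver U : Set G) := by
  haveI : Fact (Nat.Prime 2) := ⟨Nat.prime_two⟩
  obtain ⟨F, hFS, hF, h8⟩ := exists_eight_conj hF' h8' S
  set M := normalizer (coreOver U : Set G) with hM
  have hzM := h.centralizer_le h2c hFT hN hFS hF h8
  set C := centralizer ({t} : Set G) ⊓ centralizer ({z} : Set G) with hC
  have hSz : (S : Subgroup G) ≤ centralizer ({z} : Set G) := fun x hx =>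
    mem_centralizer_singleton_iff.2 (h.central x hx).symm.eq
  obtain ⟨R₀, hR₀⟩ := ((S.isPGroup'.to_le
    (inf_le_left : (S : Subgroup G) ⊓ centralizer ({t} : Set G) ≤ S)).comap_subtype
    (K := C)).exists_le_sylow
  have htC : t ∈ C := ⟨mem_centralizer_singleton_iff.2 rfl, hSz htS⟩
  have htR₀ : (⟨t, htC⟩ : C) ∈ (R₀ : Subgroup C) :=
    hR₀ (mem_subgroupOf.2 ⟨htS, mem_centralizer_singleton_iff.2 rfl⟩)
  set RG := (R₀ : Subgroup C).map C.subtype with hRG
  have hRGC : RG ≤ C := map_subtype_le _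
  obtain ⟨Q, hQ⟩ := ((R₀.isPGroup'.map C.subtype).comap_subtype
    (K := centralizer ({z} : Set G))).exists_le_sylow
  obtain ⟨c, hc⟩ := MulAction.exists_smul_eq ↥(centralizer ({z} : Set G)) (S.subtype hSz) Q
  set S₁ := (c : G) • S with hS₁
  have h₁ := h.map (c : G)
  rw [show (c : G) * z * (c : G)⁻¹ = z by
    rw [mem_centralizer_singleton_iff.1 c.2, mul_inv_cancel_right], ← hS₁] at h₁
  set U₁ := U.map (MulAut.conj (c : G)).toMonoidHom with hU₁
  have hW₁ : coreOver U₁ = coreOver U := by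
    rw [hU₁, ← map_coreOver]
    exact map_eq_of_mem_normalizer (hzM c.2)
  have hRS : RG ≤ (S₁ : Subgroup G) := by
    intro x hx
    have h1 : (⟨x, (hRGC hx).2⟩ : ↥(centralizer ({z} : Set G))) ∈
        (Q : Subgroup ↥(centralizer ({z} : Set G))) := hQ (mem_subgroupOf.2 hx)
    rw [← hc, Sylow.coe_subgroup_smul] at h1
    obtain ⟨s, hs, hse⟩ := h1
    rw [hS₁, Fus.FourGraph.sylow_smul]
    exact ⟨s, hs, congrArg Subtype.val hse⟩
  have htS₁ : t ∈ (S₁ : Subgroup G) := hRS ⟨⟨t, htC⟩, htR₀, rfl⟩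
  have hS₁z : (S₁ : Subgroup G) ≤ centralizer ({z} : Set G) := fun x hx =>
    mem_centralizer_singleton_iff.2 (h₁.central x hx).symm.eq
  by_cases hE : ∃ E : Subgroup G, E ≤ (S₁ : Subgroup G) ∧ Cfsg.IsElementaryAbelian 2 E ∧
      8 ≤ Nat.card E ∧ t ∈ E
  · obtain ⟨E, hES, hEel, hE8, htE⟩ := hE
    rw [hM, ← hW₁]
    exact centralizer_le_of_eight h2c hFT hN h₁ ht hES hEel hE8 htE
  exfalso
  obtain ⟨F₁, hF₁S, hF₁, h8₁⟩ := exists_eight_conj hF' h8' S₁
  -- `t` does not centralize `U₁`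
  have hnc : ¬ ∀ u ∈ U₁, Commute t u := by
    intro hcom
    by_cases htU : t ∈ U₁
    · obtain ⟨E, hUE, hES, hEel, hE8⟩ := h₁.exists_eight hF₁S hF₁ h8₁
      exact hE ⟨E, hES, hEel, hE8, hUE htU⟩
    obtain ⟨hEel, hE8⟩ := eight_le_card_sup h₁.elem h₁.card.ge (orderOf_eq_prime_iff.1 ht).1 htU
      fun u hu => (hcom u hu).symm
    exact hE ⟨_, sup_le h₁.le (zpowers_le.2 htS₁), hEel, hE8, mem_sup_right (mem_zpowers t)⟩
  have hsq : ∀ q ∈ (S₁ : Subgroup G), q * q ≠ t := fun q hq e =>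
    hnc fun u hu => e ▸ h₁.commute_sq hq hu
  have htz : t ≠ z := fun e => hnc fun u hu => e ▸ (h₁.central u (h₁.le hu))
  have hz2 : z * z = 1 := Invol.mul_self_of_orderOf_two h.ord
  have ht2 : t * t = 1 := Invol.mul_self_of_orderOf_two ht
  have hzt : Commute z t := h.central t htS
  -- `R` is the centralizer of `t` in `S₁`
  have hmax : (S₁ : Subgroup G) ⊓ centralizer ({t} : Set G) = RG := by
    refine le_antisymm ?_ (le_inf hRS (hRGC.trans inf_le_left))
    intro x hx
    have hxC : x ∈ C := ⟨hx.2, hS₁z hx.1⟩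
    have e := R₀.is_maximal' (S₁.isPGroup'.comap_subtype (K := C)) fun y hy =>
      mem_subgroupOf.2 (hRS ⟨y, hy, rfl⟩)
    exact ⟨⟨x, hxC⟩, e.le (mem_subgroupOf.2 hx.1), rfl⟩
  have htRG : t ∈ RG := hmax.le ⟨htS₁, mem_centralizer_singleton_iff.2 rfl⟩
  have hzRG : z ∈ RG := hmax.le ⟨h₁.le h₁.mem, mem_centralizer_singleton_iff.2 hzt.eq⟩
  -- involutions of `R`
  have hinv : ∀ w ∈ RG, w * w = 1 → w = 1 ∨ w = t ∨ w = z ∨ w = t * z := by
    intro w hw hw2
    by_contra hne
    simp only [not_or] at hne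
    obtain ⟨hw1, hwt, hwz, hwtz⟩ := hne
    have hwX : w ∈ centralizer ({t} : Set G) := (hRGC hw).1
    have hBel : Cfsg.IsElementaryAbelian 2 (zpowers t ⊔ zpowers z : Subgroup G) :=
      elemAb_sup (elemAb_zpowers (orderOf_eq_prime_iff.1 ht).1)
        (elemAb_zpowers (h.elem.2 z h.mem)) fun x hx y hy => by
          obtain ⟨i, rfl⟩ := mem_zpowers_iff.1 hx
          obtain ⟨j, rfl⟩ := mem_zpowers_iff.1 hy
          exact hzt.symm.zpow_zpow i j
    have hB4 : 4 ≤ Nat.card ↥(zpowers t ⊔ zpowers z) :=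
      four_le_card_sup (orderOf_eq_prime_iff.1 ht).1 (h.elem.2 z h.mem) hzt.symm
        (orderOf_eq_prime_iff.1 ht).2 fun hm => by
          rcases zpowers_two_cases ht2 hm with e | e
          · exact h.ne_one e
          · exact htz e.symm
    have hwB : w ∉ zpowers t ⊔ zpowers z := fun hm => by
      have hd : ((zpowers t ⊔ zpowers z : Subgroup G) : Set G) = (zpowers t : Set G) * (zpowers z : Set G) :=
        Subgroup.coe_mul_of_left_le_normalizer_right _ _ (zpowers_le.2
          (Subgroup.centralizer_le_normalizer _ (mem_centralizer_iff.2 fun y hy => by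
            obtain ⟨i, rfl⟩ := mem_zpowers_iff.1 hy
            exact ((hzt).zpow_left i).eq)))
      have hm' : w ∈ ((zpowers t ⊔ zpowers z : Subgroup G) : Set G) := hm
      rw [hd] at hm'
      obtain ⟨a, ha, b, hb, rfl⟩ := Set.mem_mul.1 hm'
      rcases zpowers_two_cases ht2 ha with rfl | rfl <;>
        rcases zpowers_two_cases hz2 hb with rfl | rfl
      · exact hw1 (one_mul _)
      · exact hwz (one_mul _)
      · exact hwt (mul_one _)
      · exact hwtz rfl
    obtain ⟨hEel, hE8⟩ := eight_le_card_sup hBel hB4 (by rw [pow_two]; exact hw2) hwB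
      fun b hb => by
        have hle : zpowers t ⊔ zpowers z ≤ centralizer ({w} : Set G) := sup_le
          (zpowers_le.2 (mem_centralizer_singleton_iff.2
            (mem_centralizer_singleton_iff.1 hwX).symm))
          (zpowers_le.2 (mem_centralizer_singleton_iff.2 (h₁.central w (hRS hw)).eq))
        exact mem_centralizer_singleton_iff.1 (hle hb)
    exact hE ⟨_, sup_le (sup_le (zpowers_le.2 htS₁) (zpowers_le.2 (h₁.le h₁.mem)))
      (zpowers_le.2 (hRS hw)), hEel, hE8, mem_sup_left (mem_sup_left (mem_zpowers t))⟩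
  -- an element exchanging `t` and `t * z`
  obtain ⟨s, hsS, hsN, hst⟩ : ∃ s, s ∈ (S₁ : Subgroup G) ∧ s ∈ normalizer (RG : Set G) ∧
      s * t * s⁻¹ = t * z := by
    have hlt : RG < (S₁ : Subgroup G) := lt_of_le_of_ne hRS fun e => hnc fun u hu =>
      (mem_centralizer_singleton_iff.1 (hRGC (e.ge (h₁.le hu))).1 : u * t = t * u).symm
    obtain ⟨s, hs, hsR⟩ := SetLike.exists_of_lt (Fus.FourGraph.exists_lt_le S₁.isPGroup' hlt)
    refine ⟨s, hs.1, hs.2, ?_⟩
    have h1 : s * t * s⁻¹ ∈ RG := (mem_normalizer_iff.1 hs.2 t).1 htRG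
    rcases hinv _ h1 (by rw [← pow_two, conj_pow, pow_two, ht2, mul_one, mul_inv_cancel]) with
      e | e | e | e
    · exact absurd (conj_eq_one_iff.1 e) (orderOf_eq_prime_iff.1 ht).2
    · exact absurd (hmax.le ⟨hs.1, mem_centralizer_singleton_iff.2 (mul_inv_eq_iff_eq_mul.1 e)⟩) hsR
    · refine absurd ?_ htz
      calc t = s⁻¹ * (s * t * s⁻¹) * s := by group
        _ = z := by rw [e, mul_assoc, (h₁.central s hs.1).eq, inv_mul_cancel_left]
    · exact e
  -- an element exchanging `z` and `t * z`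
  obtain ⟨s', hs'N, hs'z⟩ : ∃ s', s' ∈ normalizer (RG : Set G) ∧ s' * z * s'⁻¹ = t * z := by
    obtain ⟨T, hT⟩ := ((R₀.isPGroup'.map C.subtype).comap_subtype
      (K := centralizer ({t} : Set G))).exists_le_sylow
    set TG := (T : Subgroup ↥(centralizer ({t} : Set G))).map
      (centralizer ({t} : Set G)).subtype with hTG
    have hRT : RG ≤ TG := fun x hx => ⟨⟨x, (hRGC hx).1⟩, hT (mem_subgroupOf.2 hx), rfl⟩
    have hne : RG ≠ TG := by
      intro e
      have hF'X : F' ≤ centralizer ({t} : Set G) := fun x hx =>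
        mem_centralizer_singleton_iff.2 (Grp.elemAb_comm hF' x hx t htF')
      obtain ⟨T', hT'⟩ := ((Grp.elemAb_isPGroup (p := 2) hF').comap_subtype
        (K := centralizer ({t} : Set G))).exists_le_sylow
      obtain ⟨x, hx⟩ := MulAction.exists_smul_eq ↥(centralizer ({t} : Set G)) T' T
      refine hE ⟨F'.map (MulAut.conj (x : G)).toMonoidHom, ?_, elemAb_map _ hF', ?_, ⟨t, htF', ?_⟩⟩
      · rintro _ ⟨f, hf, rfl⟩
        refine hRS (e.ge ⟨x * ⟨f, hF'X hf⟩ * x⁻¹, ?_, rfl⟩)
        rw [← hx]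
        exact ⟨⟨f, hF'X hf⟩, hT' (mem_subgroupOf.2 hf), rfl⟩
      · rwa [Subgroup.card_map_of_injective (MulAut.conj _).injective]
      · show (x : G) * t * (x : G)⁻¹ = t
        rw [mem_centralizer_singleton_iff.1 x.2, mul_inv_cancel_right]
    obtain ⟨s', hs', hs'R⟩ := SetLike.exists_of_lt
      (Fus.FourGraph.exists_lt_le (T.isPGroup'.map _) (lt_of_le_of_ne hRT hne))
    have hs't : Commute s' t := mem_centralizer_singleton_iff.1 (map_subtype_le _ hs'.1)
    refine ⟨s', hs'.2, ?_⟩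
    have h1 : s' * z * s'⁻¹ ∈ RG := (mem_normalizer_iff.1 hs'.2 z).1 hzRG
    rcases hinv _ h1 (by rw [← pow_two, conj_pow, pow_two, hz2, mul_one, mul_inv_cancel]) with
      e | e | e | e
    · exact absurd (conj_eq_one_iff.1 e) h.ne_one
    · refine absurd ?_ htz.symm
      calc z = s'⁻¹ * (s' * z * s'⁻¹) * s' := by group
        _ = t := by rw [e, mul_assoc, hs't.symm.eq, inv_mul_cancel_left]
    · refine absurd ?_ hs'R
      have hs'C : s' ∈ C := ⟨mem_centralizer_singleton_iff.2 hs't,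
        mem_centralizer_singleton_iff.2 (mul_inv_eq_iff_eq_mul.1 e)⟩
      have hle : TG.subgroupOf C = (R₀ : Subgroup C) :=
        R₀.is_maximal' ((T.isPGroup'.map _).comap_subtype (K := C)) fun y hy =>
          mem_subgroupOf.2 (hRT ⟨y, hy, rfl⟩)
      exact ⟨⟨s', hs'C⟩, hle.le (mem_subgroupOf.2 hs'.1), rfl⟩
    · exact e
  -- `R` has exponent 2
  have hconj : ∀ {x w : G}, x ∈ normalizer (RG : Set G) → w ∈ RG → x * w * x⁻¹ ∈ RG :=
    fun {x w} hx hw => (mem_normalizer_iff.1 hx w).1 hw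
  have hno2 : ∀ q ∈ RG, q * q ≠ t * z := by
    intro q hq e
    refine hsq (s⁻¹ * q * s) ?_ ?_
    · exact (S₁ : Subgroup G).mul_mem ((S₁ : Subgroup G).mul_mem ((S₁ : Subgroup G).inv_mem hsS)
        (hRS hq)) hsS
    · calc s⁻¹ * q * s * (s⁻¹ * q * s) = s⁻¹ * (q * q) * s := by group
        _ = s⁻¹ * (s * t * s⁻¹) * s := by rw [e, hst]
        _ = t := by group
  have hnoz : ∀ q ∈ RG, q * q ≠ z := by
    intro q hq e
    refine hno2 _ (hconj hs'N hq) ?_
    calc s' * q * s'⁻¹ * (s' * q * s'⁻¹) = s' * (q * q) * s'⁻¹ := by group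
      _ = t * z := by rw [e, hs'z]
  have hexp : ∀ r ∈ RG, r * r = 1 := by
    intro r hr
    obtain ⟨k, hk⟩ := S₁.isPGroup' ⟨r, hRS hr⟩
    have hk' : r ^ 2 ^ k = 1 := congrArg Subtype.val hk
    clear hk
    induction k generalizing r with
    | zero => rw [pow_zero, pow_one] at hk'; rw [hk', one_mul]
    | succ k ih =>
      have h1 := ih (r * r) (RG.mul_mem hr hr) (by rw [← pow_two, ← pow_mul, ← pow_succ', hk'])
      rcases hinv _ (RG.mul_mem hr hr) h1 with e | e | e | e
      · exact e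
      · exact absurd e (hsq r (hRS hr))
      · exact absurd e (hnoz r hr)
      · exact absurd e (hno2 r hr)
  -- the centralizer of `t` in `S₁` is a four-group
  set P := (S₁ : Subgroup G) with hP
  have hA : Nat.card RG = 4 := by
    refine le_antisymm ?_ ?_
    · classical
      have : (RG : Set G) ⊆ ({1, t, z, t * z} : Finset G) := fun w hw => by
        rcases hinv w hw (hexp w hw) with e | e | e | e <;> simp [e]
      have h2 := Set.ncard_le_ncard this (Finset.finite_toSet _)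
      rw [Set.ncard_coe_finset, ← Nat.card_coe_set_eq] at h2
      exact h2.trans (Finset.card_le_four)
    · refine (four_le_card_sup (orderOf_eq_prime_iff.1 ht).1 (h.elem.2 z h.mem) hzt.symm
        (orderOf_eq_prime_iff.1 ht).2 fun hm => ?_).trans
        (card_le_of_le (sup_le (zpowers_le.2 htRG) (zpowers_le.2 hzRG)))
      rcases zpowers_two_cases ht2 hm with e | e
      · exact h.ne_one e
      · exact htz e.symm
  have hAc : centralizer ((RG.subgroupOf P : Subgroup P) : Set P) = RG.subgroupOf P := by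
    refine le_antisymm (fun x hx => mem_subgroupOf.2 (hmax.le ⟨x.2,
      mem_centralizer_singleton_iff.2 (congrArg Subtype.val
        (mem_centralizer_iff.1 hx ⟨t, htS₁⟩ (mem_subgroupOf.2 htRG : (⟨t, htS₁⟩ : P) ∈ RG.subgroupOf P)).symm :)⟩)) fun x hx => ?_
    refine mem_centralizer_iff.2 fun y hy => Subtype.ext ?_
    have hi : ∀ w ∈ RG, w⁻¹ = w := fun w hw => inv_eq_of_mul_eq_one_right (hexp w hw)
    have h1 := hi _ (RG.mul_mem (mem_subgroupOf.1 hy) (mem_subgroupOf.1 hx))
    rw [mul_inv_rev, hi _ (mem_subgroupOf.1 hy), hi _ (mem_subgroupOf.1 hx)] at h1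
    exact h1.symm
  have hlt := card_lt_of_centralizer_four S₁.isPGroup' (RG.subgroupOf P)
    (by rw [Nat.card_congr (subgroupOfEquivOfLe hRS).toEquiv, hA]) hAc (F₁.subgroupOf P)
    ⟨⟨⟨fun a b => Subtype.ext (Subtype.ext (Grp.elemAb_comm hF₁ _ a.2 _ b.2))⟩⟩,
      fun a ha => Subtype.ext (hF₁.2 _ ha)⟩
  rw [Nat.card_congr (subgroupOfEquivOfLe hF₁S).toEquiv] at hlt
  omega

end

/-- Without subgroups of index 2, every involution lies in an elementary subgroup of order 8. -/
theorem exists_eight_of_no_index_two (hG2 : ∀ K : Subgroup G, K.Normal → K.index ≠ 2)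
    {S : Sylow 2 G} {U : Subgroup G} {z : G} (h : FourIn S U z) {F : Subgroup G}
    (hFS : F ≤ (S : Subgroup G)) (hF : Cfsg.IsElementaryAbelian 2 F) (h8 : 8 ≤ Nat.card F)
    {t : G} (ht : orderOf t = 2) :
    ∃ E : Subgroup G, Cfsg.IsElementaryAbelian 2 E ∧ 8 ≤ Nat.card E ∧ t ∈ E := by
  haveI : Fact (Nat.Prime 2) := ⟨Nat.prime_two⟩
  obtain ⟨b, hb, hb1, hbz⟩ := h.exists_ne
  suffices hx : ∃ g : G, g * t * g⁻¹ ∈ (S : Subgroup G) ⊓ centralizer ({b} : Set G) by
    obtain ⟨g, hgS, hgb⟩ := hx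
    obtain ⟨E, hE, hE8, htE⟩ : ∃ E : Subgroup G, Cfsg.IsElementaryAbelian 2 E ∧
        8 ≤ Nat.card E ∧ g * t * g⁻¹ ∈ E := by
      by_cases hU : g * t * g⁻¹ ∈ U
      · obtain ⟨E, hUE, -, hEel, hE8⟩ := h.exists_eight hFS hF h8
        exact ⟨E, hEel, hE8, hUE hU⟩
      obtain ⟨hEel, hE8⟩ := eight_le_card_sup h.elem h.card.ge
        (by rw [conj_pow, (orderOf_eq_prime_iff.1 ht).1, mul_one, mul_inv_cancel]) hU fun u hu =>
          (h.commute_all hb hb1 hbz hgS (mem_centralizer_singleton_iff.1 hgb) hu).symm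
      exact ⟨_, hEel, hE8, mem_sup_right (mem_zpowers _)⟩
    refine ⟨E.map (MulAut.conj g⁻¹).toMonoidHom, elemAb_map _ hE, ?_, ⟨_, htE, by simp [mul_assoc]⟩⟩
    rwa [Subgroup.card_map_of_injective (MulAut.conj _).injective]
  obtain ⟨T, hT⟩ := (IsPGroup.of_card (p := 2) (n := 1)
    (show Nat.card ↥(zpowers t) = 2 ^ 1 by rw [Nat.card_zpowers, ht, pow_one])).exists_le_sylow
  obtain ⟨g, hg⟩ := MulAction.exists_smul_eq G T S
  have htS : g * t * g⁻¹ ∈ (S : Subgroup G) := by
    rw [← hg]; exact ⟨t, hT (mem_zpowers t), rfl⟩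
  by_cases htb : g * t * g⁻¹ ∈ centralizer ({b} : Set G)
  · exact ⟨g, htS, htb⟩
  set K := (S : Subgroup G) ⊓ centralizer ({b} : Set G) with hK
  have hidx : K.relIndex (S : Subgroup G) = 2 := by
    have h1 : K.relIndex (S : Subgroup G) * Nat.card K = Nat.card (S : Subgroup G) := by
      rw [mul_comm, ← relIndex_bot_left K, relIndex_mul_relIndex _ _ _ bot_le inf_le_left,
        relIndex_bot_left]
    have h2 := h.card_le_two_mul hb hb1 hbz (le_refl (S : Subgroup G))
    have hne : K.relIndex (S : Subgroup G) ≠ 1 := fun e =>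
      htb ((relIndex_eq_one.1 e htS).2)
    have hpos : 0 < Nat.card (S : Subgroup G) := Nat.card_pos
    by_contra hne2
    rcases Nat.lt_or_ge (K.relIndex (S : Subgroup G)) 3 with hlt | hge
    · have : K.relIndex (S : Subgroup G) = 0 := by omega
      rw [this, zero_mul] at h1
      omega
    · have := Nat.mul_le_mul_right (Nat.card K) hge
      rw [hK] at this h1
      omega
  rcases S0111.result S K inf_le_left hidx (g * t * g⁻¹)
      (by rw [← ht]; exact orderOf_injective (MulAut.conj g).toMonoidHom (MulAut.conj g).injective t)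
      htS (fun hm => htb hm.2) with ⟨N, hN, hN2, -⟩ | ⟨x, hx⟩
  · exact absurd hN2 (hG2 N hN)
  · exact ⟨x * g, by simpa [mul_assoc] using hx⟩

section

variable (hSE : ∀ H : Subgroup G, Cfsg.IsStronglyEmbedded H →
    (Cfsg.oddCore ↥H).map H.subtype ≤ Cfsg.oddCore G)
  (hFT : ∀ (K : Type u) [Group K] [Finite K], Odd (Nat.card K) → Group.IsSolvable K)
include hSE hFT

/-- The centralizers of involutions have trivial core. -/
theorem core_trivial_noEight (hO : Cfsg.oddCore G = ⊥)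
    (hG2 : ∀ K : Subgroup G, K.Normal → K.index ≠ 2)
    (h2c : ∀ T : Subgroup G, IsPGroup 2 T → T ≠ ⊥ →
      Cfsg.IsPConstrained 2 ↥(Subgroup.normalizer (T : Set G)))
    (hN : NoEightNormal G) (h3 : ¬ Cfsg.PRankLE 2 2 G) (t : G) (ht : orderOf t = 2) :
    Cfsg.centralizerPPrimeCore 2 t = ⊥ := by
  haveI : Fact (Nat.Prime 2) := ⟨Nat.prime_two⟩
  obtain ⟨A, hA, hA2, hAc⟩ : ∃ A : Subgroup G, IsMulCommutative A ∧ (∀ a ∈ A, a ^ 2 = 1) ∧
      2 ^ 2 < Nat.card A := by
    simpa [Cfsg.PRankLE] using h3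
  have hAel : Cfsg.IsElementaryAbelian 2 A := ⟨hA, hA2⟩
  have hA8 : 8 ≤ Nat.card A := by
    obtain ⟨k, hk⟩ := IsPGroup.iff_card.1 (Grp.elemAb_isPGroup (p := 2) hAel)
    rw [hk] at hAc ⊢
    have hk3 : 2 < k := (Nat.pow_lt_pow_iff_right (by norm_num)).1 hAc
    exact le_trans (by norm_num) (Nat.pow_le_pow_right two_pos hk3)
  obtain ⟨S⟩ : Nonempty (Sylow 2 G) := inferInstance
  obtain ⟨F, hFS, hF, h8⟩ := exists_eight_conj hAel hA8 S
  obtain ⟨U, z, h⟩ := exists_fourIn S hFS hF h8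
  obtain ⟨hodd, hSW, -⟩ := h.closure h2c hFT hFS hF h8
  set W := coreOver U with hW
  have hcop : (Nat.card ↥W).Coprime 2 := Nat.coprime_two_right.2 hodd
  suffices hbot : W = ⊥ by
    obtain ⟨E, hE, hE8, htE⟩ := exists_eight_of_no_index_two hG2 h hFS hF h8 ht
    obtain ⟨T, hT⟩ := (Grp.elemAb_isPGroup (p := 2) hE).exists_le_sylow
    obtain ⟨g, hg⟩ := MulAction.exists_smul_eq G T S
    refine (Subgroup.map_eq_bot_iff_of_injective _ (MulAut.conj g).injective).1
      (le_bot_iff.1 ((map_conj_core_le t g).trans ?_))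
    have hES : E.map (MulAut.conj g).toMonoidHom ≤ (S : Subgroup G) := by
      rw [← hg, Fus.FourGraph.sylow_smul]
      exact map_mono hT
    rw [← hbot, hW, ← h.eq_eight h2c hFT hES (elemAb_map _ hE)
      (by rwa [Subgroup.card_map_of_injective (MulAut.conj g).injective])]
    exact le_coreOver ⟨t, htE, rfl⟩ fun e =>
      (orderOf_eq_prime_iff.1 ht).2 (conj_eq_one_iff.1 e)
  set M := normalizer (W : Set G) with hM
  by_cases htop : M = ⊤
  · haveI : W.Normal := normalizer_eq_top_iff.1 htop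
    exact le_bot_iff.1 (hO ▸ Grp.le_pPrimeCore inferInstance hcop)
  have hNS : normalizer ((S : Subgroup G) : Set G) ≤ M := by
    intro g hg
    refine mem_normalizer_of_map_eq ?_
    rw [hW, ← h.eq_eight h2c hFT hFS hF h8, map_coreOver,
      h.eq_eight h2c hFT hFS hF h8]
    refine h.eq_eight h2c hFT ?_ (elemAb_map _ hF)
      (by rwa [Subgroup.card_map_of_injective (MulAut.conj g).injective])
    rintro _ ⟨x, hx, rfl⟩
    exact (mem_normalizer_iff.1 hg x).1 (hFS hx)
  have hne : (S : Subgroup G) ≠ ⊥ := fun e => by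
    have := card_le_of_le hFS
    rw [e, Subgroup.card_bot] at this
    omega
  have hse := isStronglyEmbedded_of_centralizers htop S hNS hne fun u hu hu2 => by
    obtain ⟨E, hE, hE8, huE⟩ := exists_eight_of_no_index_two hG2 h hFS hF h8 hu2
    exact centralizer_le_of_mem h2c hFT hN h hu2 hu hE hE8 huE
  refine le_bot_iff.1 (le_trans ?_ ((hSE M hse).trans hO.le))
  intro w hw
  refine ⟨⟨w, le_normalizer hw⟩, ?_, rfl⟩
  have hn : (W.subgroupOf M).Normal := ⟨fun a ha c => (mem_normalizer_iff.1 c.2 _).1 ha⟩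
  refine Grp.le_pPrimeCore hn ?_ (show (⟨w, le_normalizer hw⟩ : M) ∈ W.subgroupOf M from hw)
  rw [Nat.card_congr (subgroupOfEquivOfLe le_normalizer).toEquiv]
  exact hcop

/-- The dichotomy theorem from the theorem on cores of strongly embedded subgroups. -/
theorem dichotomy_of (hev : Even (Nat.card G))
    (hG2 : ∀ K : Subgroup G, K.Normal → K.index ≠ 2) (hO : Cfsg.oddCore G = ⊥) :
    Cfsg.PRankLE 2 2 G ∨ Cfsg.IsComponentType G ∨ Cfsg.IsCharacteristicTwoType G := by
  by_cases h3 : Cfsg.PRankLE 2 2 G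
  · exact Or.inl h3
  by_cases hc : Cfsg.IsComponentType G
  · exact Or.inr (Or.inl hc)
  refine Or.inr (Or.inr ?_)
  by_cases hcon : ∃ S : Sylow 2 G, Cfsg.IsFourConnected (S : Subgroup G)
  · obtain ⟨S, hS⟩ := hcon
    exact s0504_of hSE hFT h3 hO hc S hS
  have hN : NoEightNormal G := by
    intro S E hES hE hEn
    by_contra hlt
    haveI : Fact (Nat.Prime 2) := ⟨Nat.prime_two⟩
    have h8 : 8 ≤ Nat.card E := by
      obtain ⟨k, hk⟩ := IsPGroup.iff_card.1 (Grp.elemAb_isPGroup (p := 2) hE)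
      rw [hk] at hlt ⊢
      have hk3 : 2 < k := by
        by_contra hk2
        exact hlt ((Nat.pow_le_pow_right two_pos (Nat.le_of_not_lt hk2)).trans (by norm_num))
      exact le_trans (by norm_num) (Nat.pow_le_pow_right two_pos hk3)
    haveI : (E.subgroupOf (S : Subgroup G)).Normal := ⟨fun a ha g => hEn g g.2 a ha⟩
    refine hcon ⟨S, S0502.result S.isPGroup' (E.subgroupOf (S : Subgroup G))
      ⟨⟨fun a b => Subtype.ext (Subtype.ext (Grp.elemAb_comm hE _ a.2 _ b.2))⟩⟩
      (fun a ha => Subtype.ext (hE.2 _ ha)) ?_⟩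
    rwa [Nat.card_congr (subgroupOfEquivOfLe hES).toEquiv]
  have h2c := constrained_locals fun t ht => (constrained_of_not_componentType hc ht).2
  refine Fus.isCharacteristicTwoType_of_centralizers hev fun t ht => ?_
  haveI : Fact (Nat.Prime 2) := ⟨Nat.prime_two⟩
  haveI : (Cfsg.pPrimeCore 2 ↥(centralizer ({t} : Set G))).Normal := Grp.pPrimeCore_isNormal
  have hbot : Cfsg.pPrimeCore 2 ↥(centralizer ({t} : Set G)) = ⊥ :=
    (Subgroup.map_eq_bot_iff_of_injective _ (centralizer ({t} : Set G)).subtype_injective).1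
      (core_trivial_noEight hSE hFT hO hG2 h2c hN h3 t ht)
  exact Invol.charP_of_mulEquiv
    ((QuotientGroup.quotientMulEquivOfEq hbot).trans QuotientGroup.quotientBot)
    (constrained_of_not_componentType hc ht).1

end

end Cfsg.Agent.CoreConsumers.Disc
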